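import Cfsg.Agent.H444.ThWord
import Cfsg.Agent.H574.RowTh
import Cfsg.Agent.H513.NilpTh
import Cfsg.Agent.H723.Spor.Th
import Cfsg.Agent.ThType.Seven
import Cfsg.Agent.H940.EngLoc
import Cfsg.Agent.H940.EngData
import Cfsg.Agent.H715.Fpr.Row2

/-!
# Local data of the Thompson group at 7, 13, 19, 31 (helper444)

* `card_seven` : `|C(x)| = 1176` for `x` of order 7;
* `cn19` : `|C(R)| = 19`, `|N(R)| = 342`;
* `cn31` : `|C(R)| ∈ {31, 93}`, `|N(R)| = 465`;
* `cn13` : `(|C(R)|, |N(R)|)` is one of six pairs, `|C(R)| = 13 · 3 ^ a`.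
-/

set_option autoImplicit false

namespace Cfsg.Agent.H444.ThLoc

open Subgroup MulAction Cfsg Cfsg.Agent.OrdDiv Cfsg.Agent.H940 Cfsg.Agent.H940.Eng Cfsg.Agent.H940.Eng.D
open Cfsg.Agent.H715.Fpr

/-! ### general -/

section general

universe u

variable {S : Type u} [Group S] [Finite S]

theorem sq_dvd_cent {p : ℕ} (hp : p.Prime) (h : p ^ 2 ∣ Nat.card S) {x : S} (hx : orderOf x = p) :
    p ^ 2 ∣ Nat.card ↥(centralizer ({x} : Set S)) := by
  have : Fact p.Prime := ⟨hp⟩
  have h1 : Nat.card ↥(zpowers x) = p ^ 1 := by rw [Nat.card_zpowers, hx, pow_one]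
  obtain ⟨K, hK, hle⟩ := Sylow.exists_subgroup_card_pow_prime_le p h (zpowers x) h1 (by norm_num)
  rw [← hK]
  refine Subgroup.card_dvd_of_le fun k hk => mem_centralizer_singleton_iff.2 ?_
  have hc := (IsPGroup.isMulCommutative_of_card_eq_prime_sq hK).is_comm.comm (⟨k, hk⟩ : ↥K)
    ⟨x, hle (Subgroup.mem_zpowers x)⟩
  exact congrArg Subtype.val hc

omit [Finite S] in
theorem conj_mem_cent {f w c : S} (hfw : f⁻¹ * w * f ∈ zpowers w) (hc : c ∈ centralizer ({w} : Set S)) :
    f * c * f⁻¹ ∈ centralizer ({w} : Set S) := by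
  rw [mem_centralizer_singleton_iff] at hc ⊢
  obtain ⟨k, hk⟩ := mem_zpowers_iff.1 hfw
  have h1 : c * (f⁻¹ * w * f) = (f⁻¹ * w * f) * c := by
    rw [← hk]
    exact ((Commute.zpow_right (show Commute c w from hc) k)).eq
  calc f * c * f⁻¹ * w = f * (c * (f⁻¹ * w * f)) * f⁻¹ := by group
    _ = f * ((f⁻¹ * w * f) * c) * f⁻¹ := by rw [h1]
    _ = w * (f * c * f⁻¹) := by group

omit [Finite S] in
theorem conj_pow_mem_cent {f w : S} (hfw : f⁻¹ * w * f ∈ zpowers w) (k : ℕ) :
    ∀ {c : S}, c ∈ centralizer ({w} : Set S) → f ^ k * c * (f ^ k)⁻¹ ∈ centralizer ({w} : Set S) := by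
  induction k with
  | zero => intro c hc; simpa using hc
  | succ k ih =>
    intro c hc
    have h1 := conj_mem_cent hfw (ih hc)
    have h2 : f * (f ^ k * c * (f ^ k)⁻¹) * f⁻¹ = f ^ (k + 1) * c * (f ^ (k + 1))⁻¹ := by
      rw [pow_succ']; group
    rwa [h2] at h1

/-- an element `f` of prime order `p` normalizing `⟨w⟩` -/
theorem card_inf_modEq {p : ℕ} (hp : p.Prime) {f w : S} (hf : orderOf f = p) (hfw : f⁻¹ * w * f ∈ zpowers w) :
    Nat.card ↥(centralizer ({w} : Set S)) ≡
      Nat.card ↥(centralizer ({w} : Set S) ⊓ centralizer ({f} : Set S)) [MOD p] := by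
  have := Fact.mk hp
  set C := centralizer ({w} : Set S) with hC
  have hmem : ∀ g ∈ zpowers f, ∀ c ∈ C, g * c * g⁻¹ ∈ C := by
    intro g hg c hc
    obtain ⟨k, rfl⟩ := (mem_powers_iff_mem_zpowers).2 hg
    exact conj_pow_mem_cent hfw k hc
  let act : MulAction (zpowers f) C :=
    { smul := fun g c => ⟨(g : S) * c * (g : S)⁻¹, hmem g g.2 c c.2⟩
      one_smul := by
        intro c
        apply Subtype.ext
        show (1 : S) * c * (1 : S)⁻¹ = c
        group
      mul_smul := by
        intro g h c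
        apply Subtype.ext
        show ((g : S) * h) * c * ((g : S) * h)⁻¹ = g * (h * c * (h : S)⁻¹) * (g : S)⁻¹
        group }
  have hpg : IsPGroup p (zpowers f) := IsPGroup.of_card (n := 1) (by rw [Nat.card_zpowers, hf, pow_one])
  have h1 := hpg.card_modEq_card_fixedPoints C
  refine h1.trans ?_
  have h2 : Nat.card (fixedPoints (zpowers f) C) = Nat.card ↥(C ⊓ centralizer ({f} : Set S)) := by
    refine Nat.card_congr
      { toFun := fun c => ⟨((c : C) : S), (c : C).2, ?_⟩
        invFun := fun c => ⟨⟨(c : S), c.2.1⟩, ?_⟩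
        left_inv := fun c => rfl
        right_inv := fun c => rfl }
    · have h3 := c.2 ⟨f, mem_zpowers f⟩
      have h4 : f * (c : C) * f⁻¹ = (c : C) := congrArg Subtype.val h3
      exact mem_centralizer_singleton_iff.2 (mul_inv_eq_iff_eq_mul.1 h4).symm
    · rintro ⟨g, hg⟩
      apply Subtype.ext
      show g * (c : S) * g⁻¹ = c
      have h3 : Commute (c : S) f := mem_centralizer_singleton_iff.1 c.2.2
      obtain ⟨k, rfl⟩ := mem_zpowers_iff.1 hg
      rw [mul_inv_eq_iff_eq_mul]
      exact (h3.zpow_right k).eq.symm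
  rw [h2]

theorem card_normalizer_eq {p : ℕ} (hp : p.Prime) {P Q : Subgroup S} (hP : Nat.card P = p) (hQ : Nat.card Q = p)
    (hp2 : ¬ p ^ 2 ∣ Nat.card S) : Nat.card (normalizer (P : Set S)) = Nat.card (normalizer (Q : Set S)) := by
  have := Fact.mk hp
  obtain ⟨s, hs⟩ := H904.SylOne.exists_sylow hP hp2
  obtain ⟨s', hs'⟩ := H904.SylOne.exists_sylow hQ hp2
  rw [← hs, ← hs']
  have h1 : (normalizer ((s : Subgroup S) : Set S)).index = (normalizer ((s' : Subgroup S) : Set S)).index := by
    exact (Sylow.card_eq_index_normalizer s).symm.trans (Sylow.card_eq_index_normalizer s')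
  have h2 := card_mul_index (normalizer ((s : Subgroup S) : Set S))
  have h3 := card_mul_index (normalizer ((s' : Subgroup S) : Set S))
  rw [← h3, h1] at h2
  exact Nat.eq_of_mul_eq_mul_right (Nat.pos_of_ne_zero index_ne_zero_of_finite) h2

end general

/-! ### the Thompson group -/

abbrev G : Type := Cfsg.Spor.Th

instance simple : IsSimpleGroup G := Cfsg.Agent.S1700.result.1
theorem card : Nat.card G = n_th := Cfsg.Agent.S1700.result.2
instance fin : Finite G := Nat.finite_of_card_ne_zero (by rw [card]; decide)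

theorem noncomm : ¬ ∀ a b : G, a * b = b * a := by
  intro h
  have h1 := H444.ThWord.w_conj
  rw [h _ (H444.ThWord.w ^ 16)] at h1
  have h2 : H444.ThWord.w = H444.ThWord.w ^ 16 := mul_right_cancel h1
  have h3 : H444.ThWord.w ^ 15 = 1 := by
    have h4 : H444.ThWord.w * H444.ThWord.w ^ 15 = H444.ThWord.w * 1 := by rw [← pow_succ', mul_one]; exact h2.symm
    exact mul_left_cancel h4
  have h4 := orderOf_dvd_of_pow_eq_one h3
  rw [H444.ThWord.w_order] at h4
  norm_num at h4

/-- **the centralizers of the elements of order 7** -/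
theorem card_seven {x : G} (hx : orderOf x = 7) : Nat.card (centralizer ({x} : Set G)) = 1176 := by
  obtain ⟨t, ht, htx⟩ := ThType.Seven.exists_involution_Th Cfsg.Agent.S1700.result hx
  have h49 := sq_dvd_cent (p := 7) (by norm_num) (by rw [card]; decide) hx
  rcases H723.Spor.Th.card_seven KFacts.Th.Main.ctx H723.Spor.Th.hone hx ht htx with h | h
  · exact h
  · rw [h] at h49
    norm_num at h49

theorem dvd19 {R : Subgroup G} (hR : Nat.card R = 19) : Nat.card (centralizer (R : Set G)) ∣ prodl [(19, 1)] := by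
  refine dvd_filter v_th (by rw [← card]; exact card_subgroup_dvd_card _) [2, 3, 5, 7, 13, 31] ?_
  have key : ∀ p : ℕ, p.Prime → p ≠ 19 → ¬ p ∣ Nat.card (centralizer (R : Set G)) := by
    intro p hp hne
    refine not_dvd_cent (by norm_num) hp hR fun y hy => ?_
    refine H574.RowTh.th_nineteen ?_ ?_
    · rintro rfl
      rw [orderOf_one] at hy
      exact hp.one_lt.ne hy
    · rw [hy]
      exact fun h => hne ((Nat.prime_dvd_prime_iff_eq (by norm_num) hp).1 h).symm
  intro p hp
  simp only [List.mem_cons, List.not_mem_nil, or_false] at hp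
  rcases hp with rfl | rfl | rfl | rfl | rfl | rfl <;> exact key _ (by norm_num) (by norm_num)

theorem cn19 {R : Subgroup G} (hR : Nat.card R = 19) :
    Nat.card (centralizer (R : Set G)) = 19 ∧ Nat.card (normalizer (R : Set G)) = 342 :=
  cn_exact noncomm card (r := 19) (by decide +kernel) (by decide +kernel) (fC := [(19, 1)]) (by decide +kernel) hR
    (dvd19 hR) (by decide +kernel) hR

theorem not_dvd_of_cent {r : ℕ} (hr : r.Prime) (hrC : ¬ r ∣ 92897280) (hr2 : ¬ r * r ∣ 90745943887872000)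
    {R : Subgroup G} (hR : Nat.card R = r) {p : ℕ} (hp : p.Prime) (hd : ¬ p ∣ 3 ^ 10 * 7 ^ 2 * 13 * 19 * 31) :
    ¬ p ∣ Nat.card (centralizer (R : Set G)) := by
  obtain ⟨x, hx, rfl⟩ := eq_zpowers' hr hR
  rw [cent_zpowers']
  exact fun h => hd (h.trans (H513.NilpTh.cent_dvd hr hx hrC hr2))

theorem not_seven {r : ℕ} (hr : r.Prime) (h7 : ¬ r ∣ 1176) {R : Subgroup G} (hR : Nat.card R = r) :
    ¬ 7 ∣ Nat.card (centralizer (R : Set G)) :=
  not_dvd_cent hr (by norm_num) hR fun _ hy => by rw [card_seven hy]; exact h7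

theorem card_cent_of {x : G} {r : ℕ} (hr : r.Prime) (hx : orderOf x = r) :
    Nat.card (zpowers x) = r ∧ centralizer ((zpowers x : Subgroup G) : Set G) = centralizer ({x} : Set G) :=
  ⟨by rw [Nat.card_zpowers, hx], cent_zpowers' x⟩

theorem not_nineteen {r : ℕ} (hr : r.Prime) (h19 : ¬ r ∣ 19) {R : Subgroup G} (hR : Nat.card R = r) :
    ¬ 19 ∣ Nat.card (centralizer (R : Set G)) :=
  not_dvd_cent hr (by norm_num) hR fun y hy => by
    obtain ⟨h1, h2⟩ := card_cent_of (r := 19) (by norm_num) hy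
    have h3 := (cn19 h1).1
    rw [h2] at h3
    rw [h3]
    exact h19

theorem dvd31 {R : Subgroup G} (hR : Nat.card R = 31) :
    Nat.card (centralizer (R : Set G)) ∣ prodl [(3, 10), (13, 1), (31, 1)] := by
  refine dvd_filter v_th (by rw [← card]; exact card_subgroup_dvd_card _) [2, 5, 7, 19] ?_
  intro p hp
  simp only [List.mem_cons, List.not_mem_nil, or_false] at hp
  rcases hp with rfl | rfl | rfl | rfl
  · exact not_dvd_of_cent (r := 31) (by norm_num) (by norm_num) (by norm_num) hR (by norm_num) (by norm_num)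
  · exact not_dvd_of_cent (r := 31) (by norm_num) (by norm_num) (by norm_num) hR (by norm_num) (by norm_num)
  · exact not_seven (by norm_num) (by norm_num) hR
  · exact not_nineteen (by norm_num) (by norm_num) hR

/-- the subgroup generated by `w` -/
theorem card_w : Nat.card (zpowers H444.ThWord.w) = 31 := by rw [Nat.card_zpowers, H444.ThWord.w_order]

theorem f_conj : H444.ThWord.f⁻¹ * H444.ThWord.w * H444.ThWord.f ∈ zpowers H444.ThWord.w := by
  rw [mul_assoc, H444.ThWord.w_conj, inv_mul_cancel_left]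
  exact pow_mem (mem_zpowers _) _

theorem five_dvd : 5 ∣ Nat.card (normalizer ((zpowers H444.ThWord.w : Subgroup G) : Set G)) := by
  have h1 : H444.ThWord.f⁻¹ ∈ normalizer ((zpowers H444.ThWord.w : Subgroup G) : Set G) := by
    rw [← conj_eq_iff]
    apply eq_of_le_of_card_ge
    · rintro _ ⟨z, hz, rfl⟩
      obtain ⟨j, rfl⟩ := mem_zpowers_iff.1 hz
      change H444.ThWord.f⁻¹ * H444.ThWord.w ^ j * H444.ThWord.f⁻¹⁻¹ ∈ _
      rw [← conj_zpow]
      refine zpow_mem ?_ j
      rw [inv_inv]
      exact f_conj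
    · rw [card_map_of_injective (MulAut.conj _).injective]
  have h2 : orderOf (⟨_, h1⟩ : normalizer ((zpowers H444.ThWord.w : Subgroup G) : Set G)) = 5 := by
    rw [Subgroup.orderOf_mk, orderOf_inv, H444.ThWord.f_order]
  rw [← h2]
  exact orderOf_dvd_natCard _

theorem cent31_mod {R : Subgroup G} (hR : Nat.card R = 31) :
    Nat.card (centralizer (R : Set G)) % 5 = 1 ∨ Nat.card (centralizer (R : Set G)) % 5 = 3 := by
  have h31 : Nat.Prime 31 := by norm_num
  have := Fact.mk h31
  rw [H904.SylOne.card_centralizer_eq hR card_w (by rw [card]; decide)]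
  rw [cent_zpowers']
  have h1 := card_inf_modEq (p := 5) (by norm_num) H444.ThWord.f_order f_conj
  have hd31 := dvd31 card_w
  rw [cent_zpowers'] at hd31
  set m := Nat.card ↥(centralizer ({H444.ThWord.w} : Set G) ⊓ centralizer ({H444.ThWord.f} : Set G)) with hm
  have hmw : m ∣ 3 ^ 10 * 13 * 31 := (card_dvd_of_le inf_le_left).trans hd31
  have hmf : m ∣ Nat.card (centralizer ({H444.ThWord.f} : Set G)) := card_dvd_of_le inf_le_right
  have h31m : ¬ 31 ∣ m := fun h => H513.NilpTh.not_dvd_cent5 H444.ThWord.f_order h31 (by norm_num) (by norm_num)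
    (h.trans hmf)
  have h13m : ¬ 13 ∣ m := fun h => H513.NilpTh.not_dvd_cent5 H444.ThWord.f_order (r := 13) (by norm_num) (by norm_num)
    (by norm_num) (h.trans hmf)
  have h9m : ¬ 9 ∣ m := by
    obtain ⟨s, hs, hsf⟩ := H513.NilpTh.involution _ H444.ThWord.f_order
    exact fun h => ThFive.not_nine H444.ThWord.f_order hs hsf.symm (h.trans hmf)
  have h3 : m ∣ 3 := by
    have e1 : m ∣ 3 ^ 10 * 13 := by
      rcases (Nat.dvd_mul).1 hmw with ⟨a, b, ha, hb, hab⟩
      rcases (Nat.dvd_prime h31).1 hb with rfl | rfl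
      · rw [mul_one] at hab; rw [← hab]; exact ha
      · exact absurd (hab ▸ dvd_mul_left _ _) h31m
    have e2 : m ∣ 3 ^ 10 := by
      rcases (Nat.dvd_mul).1 e1 with ⟨a, b, ha, hb, hab⟩
      rcases (Nat.dvd_prime (by norm_num)).1 hb with rfl | rfl
      · rw [mul_one] at hab; rw [← hab]; exact ha
      · exact absurd (hab ▸ dvd_mul_left _ _) h13m
    obtain ⟨k, hk, hmk⟩ := (Nat.dvd_prime_pow Nat.prime_three).1 e2
    have hk2 : k < 2 := by
      by_contra hlt
      exact h9m (by rw [hmk]; exact pow_dvd_pow 3 (not_lt.1 hlt))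
    rw [hmk]
    exact (pow_dvd_pow 3 (Nat.lt_succ_iff.1 hk2)).trans (by norm_num)
  rcases (Nat.dvd_prime Nat.prime_three).1 h3 with h | h
  · left
    rw [h] at h1
    exact h1
  · right
    rw [h] at h1
    exact h1

theorem cn31 {R : Subgroup G} (hR : Nat.card R = 31) :
    (Nat.card (centralizer (R : Set G)) = 31 ∨ Nat.card (centralizer (R : Set G)) = 93) ∧
      Nat.card (normalizer (R : Set G)) = 465 := by
  have h1 := cnP_sound noncomm card (r := 31) (by decide +kernel) (by decide +kernel)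
    (fC := [(3, 10), (13, 1), (31, 1)]) (by decide +kernel) hR (dvd31 hR)
    (P := fun c m => m % 5 != 0 || !(c % 5 == 1 || c % 5 == 3) || ((c == 31 || c == 93) && m == 465))
    (by decide +kernel) hR
  have h5 : 5 ∣ Nat.card (normalizer (R : Set G)) := by
    rw [card_normalizer_eq (p := 31) (by norm_num) hR card_w (by rw [card]; decide)]
    exact five_dvd
  have hm := cent31_mod hR
  simp only [Bool.or_eq_true, Bool.and_eq_true, bne_iff_ne, beq_iff_eq, Bool.not_eq_true', Bool.or_eq_false_iff,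
    beq_eq_false_iff_ne] at h1
  rcases h1 with (h1 | h1) | h1
  · exact absurd (Nat.mod_eq_zero_of_dvd h5) h1
  · rcases hm with hm | hm
    · exact absurd hm h1.1
    · exact absurd hm h1.2
  · exact h1

theorem dvd13 {R : Subgroup G} (hR : Nat.card R = 13) :
    Nat.card (centralizer (R : Set G)) ∣ prodl [(3, 10), (13, 1)] := by
  refine dvd_filter v_th (by rw [← card]; exact card_subgroup_dvd_card _) [2, 5, 7, 19, 31] ?_
  intro p hp
  simp only [List.mem_cons, List.not_mem_nil, or_false] at hp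
  rcases hp with rfl | rfl | rfl | rfl | rfl
  · exact not_dvd_of_cent (r := 13) (by norm_num) (by norm_num) (by norm_num) hR (by norm_num) (by norm_num)
  · exact not_dvd_of_cent (r := 13) (by norm_num) (by norm_num) (by norm_num) hR (by norm_num) (by norm_num)
  · exact not_seven (by norm_num) (by norm_num) hR
  · exact not_nineteen (by norm_num) (by norm_num) hR
  · refine not_dvd_cent (by norm_num) (by norm_num) hR fun y hy => ?_
    obtain ⟨h1, h2⟩ := card_cent_of (r := 31) (by norm_num) hy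
    have h3 := (cn31 h1).1
    rw [h2] at h3
    rcases h3 with h3 | h3 <;> rw [h3] <;> norm_num

/-- the six possibilities at 13 -/
theorem cn13 {R : Subgroup G} (hR : Nat.card R = 13) :
    (Nat.card (centralizer (R : Set G)), Nat.card (normalizer (R : Set G))) ∈
      ([(39, 468), (117, 468), (1053, 12636), (3159, 12636), (28431, 341172), (85293, 341172)] : List (ℕ × ℕ)) := by
  have h1 := cnP_sound noncomm card (r := 13) (by decide +kernel) (by decide +kernel)
    (fC := [(3, 10), (13, 1)]) (by decide +kernel) hR (dvd13 hR)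
    (P := fun c m => ([(39, 468), (117, 468), (1053, 12636), (3159, 12636), (28431, 341172), (85293, 341172)] :
      List (ℕ × ℕ)).contains (c, m)) (by decide +kernel) hR
  exact List.contains_iff_mem.1 h1

/-! ### the contexts -/

theorem loc19 : Loc G ⟨19, 19, [(2, 1), (3, 2), (19, 1)]⟩ :=
  loc_of_eq card (by decide +kernel) (by decide +kernel) (by decide +kernel) fun R hR => by
    obtain ⟨h1, h2⟩ := cn19 hR
    rw [h1, h2]; decide

theorem loc31 : Loc G ⟨31, 93, [(3, 1), (5, 1), (31, 1)]⟩ :=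
  loc_of_eq card (by decide +kernel) (by decide +kernel) (by decide +kernel) fun R hR => by
    obtain ⟨h1, h2⟩ := cn31 hR
    rw [h2]
    rcases h1 with h1 | h1 <;> rw [h1] <;> decide

theorem loc13 : Loc G ⟨13, 85293, [(2, 2), (3, 9), (13, 1)]⟩ :=
  loc_of_eq card (by decide +kernel) (by decide +kernel) (by decide +kernel) fun R hR => by
    have h1 := cn13 hR
    simp only [List.mem_cons, List.not_mem_nil, or_false, Prod.mk.injEq] at h1
    rcases h1 with ⟨h1, h2⟩ | ⟨h1, h2⟩ | ⟨h1, h2⟩ | ⟨h1, h2⟩ | ⟨h1, h2⟩ | ⟨h1, h2⟩ <;> rw [h1, h2] <;> decide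

/-- the local data -/
def loc : List LD := [⟨19, 19, [(2, 1), (3, 2), (19, 1)]⟩, ⟨31, 93, [(3, 1), (5, 1), (31, 1)]⟩,
  ⟨13, 85293, [(2, 2), (3, 9), (13, 1)]⟩]

theorem ctx (B : Base) : Ctx G l_th n_th o_th loc where
  fin := fin
  simple := simple
  card := card
  val := v_th
  nodup := nd_th
  ords := ords_th B
  loc := by
    intro ld hld
    simp only [loc, List.mem_cons, List.not_mem_nil, or_false] at hld
    rcases hld with rfl | rfl | rfl
    · exact loc19
    · exact loc31
    · exact loc13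

end Cfsg.Agent.H444.ThLoc
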