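import Cfsg.Agent.H435.Fpr.Sharp
import Cfsg.Agent.H398.FPR.PairMap

/-!
# Fixed points of `x` normalizing two subgroups which together contain a good element (helper444)

* `pairM_eight` : `x` of order 7 acting on `2 ^ 3`; `pairM_cyc` : `x` acting on a group of prime order;
* `two_bound` : `M fix(x) ≤ 2 n + (M - 2) fix(y)`, `y ∈ ⟨x, R₁, R₂⟩`;
* `one_bound` : `M fix(x) ≤ n + (M - 1) fix(y)`, `y ∈ R`.
-/

set_option autoImplicit false
open Subgroup MulAction
open scoped Pointwise

namespace Cfsg.Agent.H444.FprPairs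

open Cfsg.Agent.H398.FPR (fs mem_fs CommFull Pair UGood)
open Cfsg.Agent.H435.Fpr (PairM)

section

variable {G : Type*} [Group G]

theorem mem_normalizer_of_conj {x : G} {n : ℕ} (hx : x ^ (n + 1) = 1) {R : Subgroup G}
    (h : ∀ r ∈ R, x * r * x⁻¹ ∈ R) : x ∈ normalizer (R : Set G) := by
  have h1 : ∀ k : ℕ, ∀ r ∈ R, x ^ k * r * (x ^ k)⁻¹ ∈ R := by
    intro k
    induction k with
    | zero => intro r hr; simpa using hr
    | succ k ih =>
      intro r hr
      have h2 := h _ (ih r hr)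
      have h3 : x * (x ^ k * r * (x ^ k)⁻¹) * x⁻¹ = x ^ (k + 1) * r * (x ^ (k + 1))⁻¹ := by
        rw [pow_succ']; group
      rwa [h3] at h2
  rw [mem_normalizer_iff]
  intro r
  refine ⟨h r, fun hr => ?_⟩
  have h2 := h1 n _ hr
  have h3 : x ^ n = x⁻¹ := by
    rw [pow_succ] at hx
    exact eq_inv_of_mul_eq_one_left hx
  have h4 : x ^ n * (x * r * x⁻¹) * (x ^ n)⁻¹ = r := by
    rw [h3]; group
  rwa [h4] at h2

/-- the elementary abelian group generated by three commuting involutions -/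
theorem sq_of_closure {a b c : G} (ha : a * a = 1) (hb : b * b = 1) (hc : c * c = 1) (hab : a * b = b * a)
    (hac : a * c = c * a) (hbc : b * c = c * b) {g : G} (hg : g ∈ closure ({a, b, c} : Set G)) : g * g = 1 := by
  have hcomm : ∀ u ∈ closure ({a, b, c} : Set G), ∀ v ∈ closure ({a, b, c} : Set G), u * v = v * u := by
    intro u hu v hv
    have h1 : ∀ u ∈ closure ({a, b, c} : Set G), ∀ s ∈ ({a, b, c} : Set G), u * s = s * u := by
      intro u hu s hs
      have h2 : closure ({a, b, c} : Set G) ≤ centralizer ({s} : Set G) := by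
        rw [closure_le]
        intro w hw
        refine mem_centralizer_singleton_iff.2 ?_
        rcases hs with rfl | rfl | rfl <;> rcases hw with rfl | rfl | rfl <;>
          first | rfl | assumption | (symm; assumption)
      exact mem_centralizer_singleton_iff.1 (h2 hu)
    have h2 : closure ({a, b, c} : Set G) ≤ centralizer ({u} : Set G) := by
      rw [closure_le]
      intro w hw
      exact mem_centralizer_singleton_iff.2 (h1 u hu w hw).symm
    exact (mem_centralizer_singleton_iff.1 (h2 hv)).symm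
  refine closure_induction (p := fun g _ => g * g = 1) ?_ (mul_one 1) ?_ ?_ hg
  · rintro w (rfl | rfl | rfl) <;> assumption
  · intro u v hu hv h1 h2
    calc u * v * (u * v) = u * (v * u) * v := by group
      _ = u * (u * v) * v := by rw [hcomm u hu v hv]
      _ = (u * u) * (v * v) := by group
      _ = 1 := by rw [h1, h2, mul_one]
  · intro u _ h1
    rw [← mul_inv_rev, h1, inv_one]

/-- `x` of order 7 acting on `2 ^ 3` -/
theorem pairM_eight [Finite G] {x t : G} (hx : x ^ 7 = 1) (ht : t * t = 1)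
    (h1 : t * (x * t * x⁻¹) = (x * t * x⁻¹) * t)
    (h2 : t * (x ^ 2 * t * (x ^ 2)⁻¹) = (x ^ 2 * t * (x ^ 2)⁻¹) * t)
    (h3 : x ^ 3 * t * (x ^ 3)⁻¹ = t * (x * t * x⁻¹)) :
    PairM 8 x (closure ({t, x * t * x⁻¹, x ^ 2 * t * (x ^ 2)⁻¹} : Set G)) := by
  obtain ⟨a, ha⟩ : ∃ a, a = x * t * x⁻¹ := ⟨_, rfl⟩
  obtain ⟨b, hb⟩ : ∃ b, b = x ^ 2 * t * (x ^ 2)⁻¹ := ⟨_, rfl⟩
  have hxa : x * a * x⁻¹ = b := by rw [ha, hb, pow_two]; group
  have hxb : x * b * x⁻¹ = t * a := by
    rw [ha, ← h3, hb, pow_succ' x 2]; group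
  have haa : a * a = 1 := by
    have : a * a = x * (t * t) * x⁻¹ := by rw [ha]; group
    rw [this, ht]; group
  have hbb : b * b = 1 := by
    have : b * b = x ^ 2 * (t * t) * (x ^ 2)⁻¹ := by rw [hb]; group
    rw [this, ht]; group
  have hta : t * a = a * t := by rw [ha]; exact h1
  have htb : t * b = b * t := by rw [hb]; exact h2
  have hab : a * b = b * a := by
    rw [← hxa]
    nth_rw 1 [ha]
    have e1 : x * t * x⁻¹ * (x * a * x⁻¹) = x * (t * a) * x⁻¹ := by group
    rw [e1, hta, ha]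
    group
  rw [← ha, ← hb]
  set R := closure ({t, a, b} : Set G) with hR
  have htR : t ∈ R := subset_closure (by simp)
  have haR : a ∈ R := subset_closure (by simp)
  have hbR : b ∈ R := subset_closure (by simp)
  have hxR : ∀ r ∈ R, x * r * x⁻¹ ∈ R := by
    intro r hr
    have h4 : R ≤ R.comap (MulAut.conj x).toMonoidHom := by
      rw [hR, closure_le]
      rintro w (rfl | rfl | rfl)
      · show x * w * x⁻¹ ∈ Subgroup.closure _
        rw [← ha]; exact haR
      · show x * w * x⁻¹ ∈ Subgroup.closure _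
        rw [hxa]; exact hbR
      · show x * w * x⁻¹ ∈ Subgroup.closure _
        rw [hxb]; exact mul_mem htR haR
    exact h4 hr
  have hfull : CommFull R x := by
    intro R1 hR1 hc
    have c1 : a * t⁻¹ ∈ R1 := by
      have := hc t htR
      rwa [← ha] at this
    have c2 : b * a⁻¹ ∈ R1 := by
      have := hc a haR
      rwa [hxa] at this
    have c3 : t * a * b⁻¹ ∈ R1 := by
      have := hc b hbR
      rwa [hxb] at this
    have hti : t⁻¹ = t := inv_eq_of_mul_eq_one_left ht
    have hai : a⁻¹ = a := inv_eq_of_mul_eq_one_left haa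
    have hbi : b⁻¹ = b := inv_eq_of_mul_eq_one_left hbb
    rw [hti] at c1
    rw [hai] at c2
    rw [hbi] at c3
    have c4 : b ∈ R1 := by
      have h5 := mul_mem c1 c3
      have h6 : a * t * (t * a * b) = b := by
        calc a * t * (t * a * b) = a * (t * t) * a * b := by group
          _ = a * a * b := by rw [ht, mul_one]
          _ = b := by rw [haa, one_mul]
      rwa [h6] at h5
    have c5 : a ∈ R1 := by
      have h5 := mul_mem (inv_mem c4) c2
      rwa [← mul_assoc, inv_mul_cancel, one_mul] at h5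
    have c6 : t ∈ R1 := by
      have h5 := mul_mem (inv_mem c5) c1
      rwa [← mul_assoc, inv_mul_cancel, one_mul] at h5
    apply hR1.not_ge
    rw [hR, closure_le]
    rintro w (rfl | rfl | rfl) <;> assumption
  refine PairM.of_pGroup (p := 7) (k := 1) (r := 2) (by norm_num) Nat.prime_two (by rw [pow_one]; exact hx) ?_
    (mem_normalizer_of_conj (n := 6) hx hxR) hfull ?_
  · rintro ⟨g, hg⟩
    exact ⟨1, Subtype.ext (by
      show g ^ 2 ^ 1 = 1
      rw [pow_one, pow_two]
      exact sq_of_closure ht haa hbb hta htb hab hg)⟩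
  · intro k hk h
    have : 3 ≤ k := by
      by_contra hlt
      have h5 : k = 1 ∨ k = 2 := by omega
      rcases h5 with rfl | rfl
      · revert h; decide
      · revert h; decide
    calc 8 = 2 ^ 3 := by norm_num
      _ ≤ 2 ^ k := Nat.pow_le_pow_right (by norm_num) this

/-- `x` acting on a group of prime order -/
theorem pairM_cyc [Finite G] {p r k : ℕ} (hp : p.Prime) (hr : r.Prime) {x w : G} (hx : x ^ p = 1)
    (hw : w ^ r = 1) (h : x * w * x⁻¹ = w ^ k) (hk : Nat.Coprime r (k - 1)) (hk1 : 1 ≤ k) :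
    PairM r x (zpowers w) := by
  have hxR : ∀ g ∈ zpowers w, x * g * x⁻¹ ∈ zpowers w := by
    rintro _ ⟨i, rfl⟩
    change x * w ^ i * x⁻¹ ∈ _
    rw [← conj_zpow, h]
    exact zpow_mem (pow_mem (mem_zpowers w) k) i
  obtain ⟨n, hn⟩ : ∃ n, p = n + 1 := ⟨p - 1, by have := hp.one_lt; omega⟩
  refine PairM.of_pGroup hp hr (k := 1) (by rw [pow_one]; exact hx) ?_
    (mem_normalizer_of_conj (n := n) (by rw [← hn]; exact hx) hxR) ?_ ?_
  · rintro ⟨g, hg⟩
    obtain ⟨i, rfl⟩ := hg
    refine ⟨1, Subtype.ext ?_⟩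
    show (w ^ i) ^ r ^ 1 = 1
    rw [pow_one, ← zpow_natCast, ← zpow_mul, mul_comm, zpow_mul, zpow_natCast, hw, one_zpow]
  · intro R1 hR1 hc
    have h1 := hc w (mem_zpowers w)
    rw [h] at h1
    have h2 : w ^ (k - 1) ∈ R1 := by
      have h3 : w ^ k * w⁻¹ = w ^ (k - 1) := by
        rw [← Nat.sub_add_cancel hk1, pow_succ, mul_inv_cancel_right, Nat.add_sub_cancel]
      rwa [h3] at h1
    apply hR1.not_ge
    rw [zpowers_le]
    have h4 : w ∈ zpowers (w ^ (k - 1)) := by
      have h5 : (zpowers (w ^ (k - 1))) = zpowers w := by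
        apply Subgroup.eq_of_le_of_card_ge
        · rw [zpowers_le]; exact pow_mem (mem_zpowers w) _
        · rw [Nat.card_zpowers, Nat.card_zpowers, orderOf_pow]
          have h6 : orderOf w ∣ r := orderOf_dvd_of_pow_eq_one hw
          have h7 : (orderOf w).gcd (k - 1) = 1 := Nat.Coprime.coprime_dvd_left h6 hk
          rw [h7, Nat.div_one]
      rw [h5]; exact mem_zpowers w
    exact (zpowers_le.2 h2) h4
  · intro t ht _
    calc r = r ^ 1 := (pow_one r).symm
      _ ≤ r ^ t := Nat.pow_le_pow_right hr.pos (Nat.one_le_iff_ne_zero.2 ht)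

/-- **two subgroups** -/
theorem two_bound [Finite G] {X : Type*} [MulAction G X] [Finite X] {M : ℕ} {x y : G} {R1 R2 : Subgroup G}
    (h1 : PairM M x R1) (h2 : PairM M x R2) (hy : y ∈ zpowers x ⊔ (R1 ⊔ R2)) (hM : 2 ≤ M) :
    M * Nat.card (fixedBy X x) ≤ 2 * Nat.card X + (M - 2) * Nat.card (fixedBy X y) := by
  classical
  have b1 := h1.bound (X := X)
  have b2 := h2.bound (X := X)
  set c := (fixedBy X x ∩ (fs R1 X ∩ fs R2 X)).ncard with hc
  have hcy : c ≤ Nat.card (fixedBy X y) := by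
    rw [Nat.card_coe_set_eq]
    refine Set.ncard_le_ncard ?_ (Set.toFinite _)
    rintro ω ⟨hx, hω1, hω2⟩
    have h3 : zpowers x ⊔ (R1 ⊔ R2) ≤ stabilizer G ω :=
      sup_le (zpowers_le.2 hx) (sup_le hω1 hω2)
    exact h3 hy
  have hc1 : c ≤ (fs R1 X).ncard := Set.ncard_le_ncard (fun ω h => h.2.1) (Set.toFinite _)
  have hc2 : c ≤ (fs R2 X).ncard := Set.ncard_le_ncard (fun ω h => h.2.2) (Set.toFinite _)
  have hsub : fixedBy X x ⊆ (fixedBy X x \ fs R1 X) ∪ ((fixedBy X x \ fs R2 X) ∪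
      (fixedBy X x ∩ (fs R1 X ∩ fs R2 X))) := by
    intro ω hω
    by_cases ha : ω ∈ fs R1 X
    · by_cases hb : ω ∈ fs R2 X
      · exact Or.inr (Or.inr ⟨hω, ha, hb⟩)
      · exact Or.inr (Or.inl ⟨hω, hb⟩)
    · exact Or.inl ⟨hω, ha⟩
  have h3 : Nat.card (fixedBy X x) ≤ (fixedBy X x \ fs R1 X).ncard + ((fixedBy X x \ fs R2 X).ncard + c) := by
    rw [Nat.card_coe_set_eq]
    exact (Set.ncard_le_ncard hsub (Set.toFinite _)).trans ((Set.ncard_union_le _ _).trans
      (Nat.add_le_add_left (Set.ncard_union_le _ _) _))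
  obtain ⟨m, rfl⟩ : ∃ m, M = m + 2 := ⟨M - 2, by omega⟩
  rw [Nat.add_sub_cancel]
  have h4 : m * c ≤ m * Nat.card (fixedBy X y) := Nat.mul_le_mul_left _ hcy
  calc (m + 2) * Nat.card (fixedBy X x)
      ≤ (m + 2) * ((fixedBy X x \ fs R1 X).ncard + ((fixedBy X x \ fs R2 X).ncard + c)) :=
        Nat.mul_le_mul_left _ h3
    _ = (m + 2) * (fixedBy X x \ fs R1 X).ncard + (m + 2) * (fixedBy X x \ fs R2 X).ncard + (m * c + 2 * c) := by
        ring
    _ ≤ 2 * Nat.card X + m * Nat.card (fixedBy X y) := by omega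

/-- **one subgroup** -/
theorem one_bound [Finite G] {X : Type*} [MulAction G X] [Finite X] {M : ℕ} {x y : G} {R : Subgroup G}
    (h1 : PairM M x R) (hy : y ∈ R) (hM : 1 ≤ M) :
    M * Nat.card (fixedBy X x) ≤ Nat.card X + (M - 1) * Nat.card (fixedBy X y) := by
  classical
  have b1 := h1.bound (X := X)
  have hcy : (fs R X).ncard ≤ Nat.card (fixedBy X y) := by
    rw [Nat.card_coe_set_eq]
    refine Set.ncard_le_ncard ?_ (Set.toFinite _)
    intro ω hω
    exact hω hy
  have hsub : fixedBy X x ⊆ (fixedBy X x \ fs R X) ∪ fs R X := by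
    intro ω hω
    by_cases ha : ω ∈ fs R X
    · exact Or.inr ha
    · exact Or.inl ⟨hω, ha⟩
  have h3 : Nat.card (fixedBy X x) ≤ (fixedBy X x \ fs R X).ncard + (fs R X).ncard := by
    rw [Nat.card_coe_set_eq]
    exact (Set.ncard_le_ncard hsub (Set.toFinite _)).trans (Set.ncard_union_le _ _)
  obtain ⟨m, rfl⟩ : ∃ m, M = m + 1 := ⟨M - 1, by omega⟩
  rw [Nat.add_sub_cancel]
  have h4 : m * (fs R X).ncard ≤ m * Nat.card (fixedBy X y) := Nat.mul_le_mul_left _ hcy
  calc (m + 1) * Nat.card (fixedBy X x)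
      ≤ (m + 1) * ((fixedBy X x \ fs R X).ncard + (fs R X).ncard) := Nat.mul_le_mul_left _ h3
    _ = (m + 1) * (fixedBy X x \ fs R X).ncard + (fs R X).ncard + m * (fs R X).ncard := by ring
    _ ≤ Nat.card X + m * Nat.card (fixedBy X y) := by omega

end

end Cfsg.Agent.H444.FprPairs
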