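import Cfsg.Agent.SporadicStructure.TabPerm
import Cfsg.Agent.SporadicA.Co0Mono
import Cfsg.Agent.H444.FprPairs

/-!
# Elements of order 3, 5, 7 of `M23` (helper444)

`MS` is the stabilizer of the point `∞` in `M24`. For a homomorphism `f : MS → G` into a finite group in which the
elements of order 11 satisfy `UGood 1 12`, images of elements of order 7, 3, 5 satisfy `UGood 5 16`, `UGood 29 84`,
`UGood 1 6`.
-/

set_option autoImplicit false
open Subgroup MulAction
open scoped Pointwise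

namespace Cfsg.Agent.H444.FprMtt

open Cfsg Cfsg.Agent.SporadicA.GolayBase Cfsg.Agent.SporadicStructure.TabPerm
open Cfsg.Agent.H398.FPR (UGood)
open Cfsg.Agent.H444.FprPairs

/-- tables -/
def F7 : List ℕ := [0, 1, 3, 4, 5, 11, 22, 21, 13, 18, 16, 8, 6, 2, 19, 9, 14, 20, 10, 15, 7, 12, 17, 23]
def G7 : List ℕ := [0, 1, 13, 2, 3, 4, 12, 20, 11, 15, 18, 5, 21, 8, 16, 19, 10, 22, 9, 14, 17, 7, 6, 23]
def FT : List ℕ := [16, 1, 20, 3, 21, 5, 6, 7, 22, 18, 19, 11, 12, 17, 15, 14, 0, 13, 9, 10, 2, 4, 8, 23]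
def FS : List ℕ := [0, 4, 13, 11, 1, 8, 10, 7, 5, 21, 6, 3, 18, 2, 17, 15, 16, 14, 12, 19, 20, 9, 22, 23]
def FW : List ℕ := [6, 19, 5, 3, 13, 0, 17, 12, 22, 21, 16, 7, 8, 1, 15, 11, 4, 9, 10, 18, 20, 2, 14, 23]
def GW : List ℕ := [5, 13, 21, 3, 16, 2, 0, 11, 12, 17, 18, 15, 7, 4, 22, 14, 10, 6, 19, 1, 20, 9, 8, 23]
def FV : List ℕ := [0, 22, 11, 16, 19, 8, 10, 1, 9, 2, 21, 15, 18, 6, 5, 14, 13, 3, 4, 7, 20, 17, 12, 23]
def GV : List ℕ := [0, 7, 9, 17, 18, 14, 13, 19, 5, 8, 6, 2, 22, 16, 15, 11, 3, 21, 12, 4, 20, 10, 1, 23]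
def F3 : List ℕ := [0, 4, 9, 3, 19, 2, 17, 12, 15, 5, 16, 11, 22, 10, 8, 14, 13, 21, 18, 1, 20, 6, 7, 23]
def G3 : List ℕ := [0, 19, 5, 3, 1, 9, 21, 22, 14, 2, 13, 11, 7, 16, 15, 8, 10, 6, 18, 4, 20, 17, 12, 23]
def FD : List ℕ := [0, 18, 6, 3, 2, 21, 1, 5, 16, 12, 7, 19, 8, 9, 17, 15, 13, 11, 4, 22, 10, 20, 14, 23]
def GD : List ℕ := [0, 6, 4, 3, 18, 7, 2, 10, 12, 13, 20, 17, 9, 16, 22, 15, 8, 14, 1, 11, 21, 5, 19, 23]
def FY : List ℕ := [0, 2, 4, 6, 8, 10, 12, 14, 16, 18, 20, 22, 1, 3, 5, 7, 9, 11, 13, 15, 17, 19, 21, 23]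
def GY : List ℕ := [0, 12, 1, 13, 2, 14, 3, 15, 4, 16, 5, 17, 6, 18, 7, 19, 8, 20, 9, 21, 10, 22, 11, 23]

theorem c7 : chk F7 G7 = true := by decide +kernel
theorem cT : chk FT FT = true := by decide +kernel
theorem cS : chk FS FS = true := by decide +kernel
theorem cW : chk FW GW = true := by decide +kernel
theorem cV : chk FV GV = true := by decide +kernel
theorem c3 : chk F3 G3 = true := by decide +kernel
theorem cD : chk FD GD = true := by decide +kernel
theorem cY : chk FY GY = true := by decide +kernel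

/-- the stabilizer of `∞` in `M24` -/
def MS : Subgroup M24 where
  carrier := {σ | (σ : Equiv.Perm GolayPt) none = none}
  one_mem' := rfl
  mul_mem' := by
    intro a b ha hb
    show (a : Equiv.Perm GolayPt) ((b : Equiv.Perm GolayPt) none) = none
    rw [show (b : Equiv.Perm GolayPt) none = none from hb]
    exact ha
  inv_mem' := by
    intro a ha
    show ((a : Equiv.Perm GolayPt)).symm none = none
    rw [Equiv.symm_apply_eq]
    exact (show (a : Equiv.Perm GolayPt) none = none from ha).symm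

/-- an element of `MS` from tables -/
def elt (F G : List ℕ) (h : chk F G = true) (hM : chkM F = true) (hn : tabPerm F G h none = none) : MS :=
  ⟨⟨tabPerm F G h, tabPerm_mem_M24 _ _ _ hM⟩, hn⟩

def x7 : MS := elt F7 G7 c7 (by decide +kernel) (by decide +kernel)
def t7 : MS := elt FT FT cT (by decide +kernel) (by decide +kernel)
def s7 : MS := elt FS FS cS (by decide +kernel) (by decide +kernel)
def w3 : MS := elt FW GW cW (by decide +kernel) (by decide +kernel)
def v3 : MS := elt FV GV cV (by decide +kernel) (by decide +kernel)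
def x3 : MS := elt F3 G3 c3 (by decide +kernel) (by decide +kernel)
def x5 : MS := elt FD GD cD (by decide +kernel) (by decide +kernel)
def y5 : MS := elt FY GY cY (by decide +kernel) (by decide +kernel)

/-- the permutation -/
def pm : MS →* Equiv.Perm GolayPt := M24.subtype.comp MS.subtype

theorem pm_inj : Function.Injective pm := fun _ _ h => Subtype.ext (Subtype.ext h)

theorem ext' {a b : MS} (h : ∀ p : GolayPt, pm a p = pm b p) : a = b := pm_inj (Equiv.ext h)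

def X7 : Equiv.Perm GolayPt := tabPerm F7 G7 c7
def T7 : Equiv.Perm GolayPt := tabPerm FT FT cT
def S7 : Equiv.Perm GolayPt := tabPerm FS FS cS
def W3 : Equiv.Perm GolayPt := tabPerm FW GW cW
def V3 : Equiv.Perm GolayPt := tabPerm FV GV cV
def X3 : Equiv.Perm GolayPt := tabPerm F3 G3 c3
def X5 : Equiv.Perm GolayPt := tabPerm FD GD cD
def Y5 : Equiv.Perm GolayPt := tabPerm FY GY cY

theorem p7 : ∀ p : GolayPt, (X7 ^ 7) p = p := by decide +kernel
theorem pT : ∀ p : GolayPt, (T7 * T7) p = p := by decide +kernel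
theorem pS : ∀ p : GolayPt, (S7 * S7) p = p := by decide +kernel
theorem pT1 : ∀ p : GolayPt, (T7 * (X7 * T7 * X7⁻¹)) p = ((X7 * T7 * X7⁻¹) * T7) p := by decide +kernel
theorem pT2 : ∀ p : GolayPt, (T7 * (X7 ^ 2 * T7 * (X7 ^ 2)⁻¹)) p = ((X7 ^ 2 * T7 * (X7 ^ 2)⁻¹) * T7) p := by
  decide +kernel
theorem pT3 : ∀ p : GolayPt, (X7 ^ 3 * T7 * (X7 ^ 3)⁻¹) p = (T7 * (X7 * T7 * X7⁻¹)) p := by decide +kernel
theorem pS1 : ∀ p : GolayPt, (S7 * (X7 * S7 * X7⁻¹)) p = ((X7 * S7 * X7⁻¹) * S7) p := by decide +kernel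
theorem pS2 : ∀ p : GolayPt, (S7 * (X7 ^ 2 * S7 * (X7 ^ 2)⁻¹)) p = ((X7 ^ 2 * S7 * (X7 ^ 2)⁻¹) * S7) p := by
  decide +kernel
theorem pS3 : ∀ p : GolayPt, (X7 ^ 3 * S7 * (X7 ^ 3)⁻¹) p = (S7 * (X7 * S7 * X7⁻¹)) p := by decide +kernel
theorem pY7 : ∀ p : GolayPt, ((T7 * S7 * (X7 ^ 4 * T7 * (X7 ^ 4)⁻¹) * (X7 * S7 * X7⁻¹)) ^ 11) p = p := by
  decide +kernel
theorem p3 : ∀ p : GolayPt, (X3 ^ 3) p = p := by decide +kernel
theorem pW : ∀ p : GolayPt, (W3 ^ 7) p = p := by decide +kernel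
theorem pV : ∀ p : GolayPt, (V3 ^ 7) p = p := by decide +kernel
theorem pW1 : ∀ p : GolayPt, (X3 * W3 * X3⁻¹) p = (W3 ^ 2) p := by decide +kernel
theorem pV1 : ∀ p : GolayPt, (X3 * V3 * X3⁻¹) p = (V3 ^ 2) p := by decide +kernel
theorem pY3 : ∀ p : GolayPt, ((W3 * V3 ^ 5) ^ 11) p = p := by decide +kernel
theorem p5 : ∀ p : GolayPt, (X5 ^ 5) p = p := by decide +kernel
theorem pY : ∀ p : GolayPt, (Y5 ^ 11) p = p := by decide +kernel
theorem pY1 : ∀ p : GolayPt, (X5 * Y5 * X5⁻¹) p = (Y5 ^ 3) p := by decide +kernel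

theorem e7 : x7 ^ 7 = 1 := ext' fun p => by simp only [map_pow, map_one]; exact p7 p
theorem eT : t7 * t7 = 1 := ext' fun p => by simp only [map_mul, map_one]; exact pT p
theorem eS : s7 * s7 = 1 := ext' fun p => by simp only [map_mul, map_one]; exact pS p
theorem eT1 : t7 * (x7 * t7 * x7⁻¹) = (x7 * t7 * x7⁻¹) * t7 :=
  ext' fun p => by simp only [map_mul, map_inv]; exact pT1 p
theorem eT2 : t7 * (x7 ^ 2 * t7 * (x7 ^ 2)⁻¹) = (x7 ^ 2 * t7 * (x7 ^ 2)⁻¹) * t7 :=
  ext' fun p => by simp only [map_mul, map_inv, map_pow]; exact pT2 p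
theorem eT3 : x7 ^ 3 * t7 * (x7 ^ 3)⁻¹ = t7 * (x7 * t7 * x7⁻¹) :=
  ext' fun p => by simp only [map_mul, map_inv, map_pow]; exact pT3 p
theorem eS1 : s7 * (x7 * s7 * x7⁻¹) = (x7 * s7 * x7⁻¹) * s7 :=
  ext' fun p => by simp only [map_mul, map_inv]; exact pS1 p
theorem eS2 : s7 * (x7 ^ 2 * s7 * (x7 ^ 2)⁻¹) = (x7 ^ 2 * s7 * (x7 ^ 2)⁻¹) * s7 :=
  ext' fun p => by simp only [map_mul, map_inv, map_pow]; exact pS2 p
theorem eS3 : x7 ^ 3 * s7 * (x7 ^ 3)⁻¹ = s7 * (x7 * s7 * x7⁻¹) :=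
  ext' fun p => by simp only [map_mul, map_inv, map_pow]; exact pS3 p

/-- the element of order 11 in the group generated by the two `2 ^ 3` -/
def y7 : MS := t7 * s7 * (x7 ^ 4 * t7 * (x7 ^ 4)⁻¹) * (x7 * s7 * x7⁻¹)

theorem eY7 : y7 ^ 11 = 1 := ext' fun p => by
  unfold y7
  simp only [map_mul, map_inv, map_pow, map_one]; exact pY7 p

theorem ne_one_of {y : MS} {p : GolayPt} (h : pm y p ≠ p) : y ≠ 1 := by
  rintro rfl
  exact h rfl

theorem y7_ne : y7 ≠ 1 := by
  apply ne_one_of (p := pt 0)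
  unfold y7
  simp only [map_mul, map_inv, map_pow]
  have h : (T7 * S7 * (X7 ^ 4 * T7 * (X7 ^ 4)⁻¹) * (X7 * S7 * X7⁻¹)) (pt 0) ≠ pt 0 := by decide +kernel
  exact h

theorem e3 : x3 ^ 3 = 1 := ext' fun p => by simp only [map_pow, map_one]; exact p3 p
theorem eW : w3 ^ 7 = 1 := ext' fun p => by simp only [map_pow, map_one]; exact pW p
theorem eV : v3 ^ 7 = 1 := ext' fun p => by simp only [map_pow, map_one]; exact pV p
theorem eW1 : x3 * w3 * x3⁻¹ = w3 ^ 2 := ext' fun p => by simp only [map_mul, map_inv, map_pow]; exact pW1 p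
theorem eV1 : x3 * v3 * x3⁻¹ = v3 ^ 2 := ext' fun p => by simp only [map_mul, map_inv, map_pow]; exact pV1 p

/-- the element of order 11 in the group generated by the two elements of order 7 -/
def y3 : MS := w3 * v3 ^ 5

theorem eY3 : y3 ^ 11 = 1 := ext' fun p => by
  unfold y3
  simp only [map_mul, map_pow, map_one]; exact pY3 p

theorem y3_ne : y3 ≠ 1 := by
  apply ne_one_of (p := pt 0)
  unfold y3
  simp only [map_mul, map_pow]
  have h : (W3 * V3 ^ 5) (pt 0) ≠ pt 0 := by decide +kernel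
  exact h

theorem e5 : x5 ^ 5 = 1 := ext' fun p => by simp only [map_pow, map_one]; exact p5 p
theorem eY5 : y5 ^ 11 = 1 := ext' fun p => by simp only [map_pow, map_one]; exact pY p
theorem eY1 : x5 * y5 * x5⁻¹ = y5 ^ 3 := ext' fun p => by simp only [map_mul, map_inv, map_pow]; exact pY1 p
theorem y5_ne : y5 ≠ 1 := by
  apply ne_one_of (p := pt 1)
  have h : Y5 (pt 1) ≠ pt 1 := by decide +kernel
  exact h

theorem x7_ne : x7 ≠ 1 := by
  apply ne_one_of (p := pt 2)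
  have h : X7 (pt 2) ≠ pt 2 := by decide +kernel
  exact h
theorem x3_ne : x3 ≠ 1 := by
  apply ne_one_of (p := pt 1)
  have h : X3 (pt 1) ≠ pt 1 := by decide +kernel
  exact h
theorem x5_ne : x5 ≠ 1 := by
  apply ne_one_of (p := pt 1)
  have h : X5 (pt 1) ≠ pt 1 := by decide +kernel
  exact h

section

variable {G : Type*} [Group G] [Finite G] (f : MS →* G) (hf : ∀ y : MS, y ^ 11 = 1 → f y = 1 → y = 1)
  (h11 : ∀ y : G, orderOf y = 11 → UGood 1 12 y)
include hf h11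

omit [Finite G] in
theorem bound_eleven {y : MS} (h1 : y ^ 11 = 1) (h2 : y ≠ 1) : UGood 1 12 (f y) := by
  have : Fact (Nat.Prime 11) := ⟨by norm_num⟩
  apply h11
  apply orderOf_eq_prime
  · rw [← map_pow, h1, map_one]
  · exact fun h => h2 (hf y h1 h)

theorem uGood_seven : UGood 5 16 (f x7) := by
  have hy := bound_eleven f hf h11 eY7 y7_ne
  have a1 : Cfsg.Agent.H435.Fpr.PairM 8 (f x7) (closure ({f t7, f x7 * f t7 * (f x7)⁻¹,
      f x7 ^ 2 * f t7 * (f x7 ^ 2)⁻¹} : Set G)) := by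
    refine pairM_eight ?_ ?_ ?_ ?_ ?_
    · rw [← map_pow, e7, map_one]
    · rw [← map_mul, eT, map_one]
    · have := congrArg f eT1; simpa only [map_mul, map_inv, map_pow] using this
    · have := congrArg f eT2; simpa only [map_mul, map_inv, map_pow] using this
    · have := congrArg f eT3; simpa only [map_mul, map_inv, map_pow] using this
  have a2 : Cfsg.Agent.H435.Fpr.PairM 8 (f x7) (closure ({f s7, f x7 * f s7 * (f x7)⁻¹,
      f x7 ^ 2 * f s7 * (f x7 ^ 2)⁻¹} : Set G)) := by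
    refine pairM_eight ?_ ?_ ?_ ?_ ?_
    · rw [← map_pow, e7, map_one]
    · rw [← map_mul, eS, map_one]
    · have := congrArg f eS1; simpa only [map_mul, map_inv, map_pow] using this
    · have := congrArg f eS2; simpa only [map_mul, map_inv, map_pow] using this
    · have := congrArg f eS3; simpa only [map_mul, map_inv, map_pow] using this
  intro H hH
  set R1 := closure ({f t7, f x7 * f t7 * (f x7)⁻¹, f x7 ^ 2 * f t7 * (f x7 ^ 2)⁻¹} : Set G) with hR1
  set R2 := closure ({f s7, f x7 * f s7 * (f x7)⁻¹, f x7 ^ 2 * f s7 * (f x7 ^ 2)⁻¹} : Set G) with hR2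
  have hx : f x7 ∈ zpowers (f x7) ⊔ (R1 ⊔ R2) := mem_sup_left (mem_zpowers _)
  have ht : f t7 ∈ zpowers (f x7) ⊔ (R1 ⊔ R2) := mem_sup_right (mem_sup_left (subset_closure (by simp)))
  have hs : f s7 ∈ zpowers (f x7) ⊔ (R1 ⊔ R2) := mem_sup_right (mem_sup_right (subset_closure (by simp)))
  have hmem : f y7 ∈ zpowers (f x7) ⊔ (R1 ⊔ R2) := by
    have e1 : f y7 = f t7 * f s7 * (f x7 ^ 4 * f t7 * (f x7 ^ 4)⁻¹) * (f x7 * f s7 * (f x7)⁻¹) := by
      unfold y7
      simp only [map_mul, map_inv, map_pow]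
    rw [e1]
    exact mul_mem (mul_mem (mul_mem ht hs) (mul_mem (mul_mem (pow_mem hx _) ht) (inv_mem (pow_mem hx _))))
      (mul_mem (mul_mem hx hs) (inv_mem hx))
  have b1 := two_bound (X := G ⧸ H) a1 a2 hmem (by norm_num)
  have b2 := hy H hH
  omega

theorem uGood_three : UGood 29 84 (f x3) := by
  have hy := bound_eleven f hf h11 eY3 y3_ne
  have a1 : Cfsg.Agent.H435.Fpr.PairM 7 (f x3) (zpowers (f w3)) := by
    refine pairM_cyc (p := 3) (r := 7) (k := 2) (by norm_num) (by norm_num) ?_ ?_ ?_ (by norm_num) (by norm_num)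
    · rw [← map_pow, e3, map_one]
    · rw [← map_pow, eW, map_one]
    · have := congrArg f eW1; simpa only [map_mul, map_inv, map_pow] using this
  have a2 : Cfsg.Agent.H435.Fpr.PairM 7 (f x3) (zpowers (f v3)) := by
    refine pairM_cyc (p := 3) (r := 7) (k := 2) (by norm_num) (by norm_num) ?_ ?_ ?_ (by norm_num) (by norm_num)
    · rw [← map_pow, e3, map_one]
    · rw [← map_pow, eV, map_one]
    · have := congrArg f eV1; simpa only [map_mul, map_inv, map_pow] using this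
  intro H hH
  have hmem : f y3 ∈ zpowers (f x3) ⊔ (zpowers (f w3) ⊔ zpowers (f v3)) := by
    have e1 : f y3 = f w3 * f v3 ^ 5 := by
      unfold y3
      simp only [map_mul, map_pow]
    rw [e1]
    exact mem_sup_right (mul_mem (mem_sup_left (mem_zpowers _)) (pow_mem (mem_sup_right (mem_zpowers _)) _))
  have b1 := two_bound (X := G ⧸ H) a1 a2 hmem (by norm_num)
  have b2 := hy H hH
  omega

theorem uGood_five : UGood 1 6 (f x5) := by
  have hy := bound_eleven f hf h11 eY5 y5_ne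
  have a1 : Cfsg.Agent.H435.Fpr.PairM 11 (f x5) (zpowers (f y5)) := by
    refine pairM_cyc (p := 5) (r := 11) (k := 3) (by norm_num) (by norm_num) ?_ ?_ ?_ (by norm_num) (by norm_num)
    · rw [← map_pow, e5, map_one]
    · rw [← map_pow, eY5, map_one]
    · have := congrArg f eY1; simpa only [map_mul, map_inv, map_pow] using this
  intro H hH
  have b1 := one_bound (X := G ⧸ H) a1 (mem_zpowers _) (by norm_num)
  have b2 := hy H hH
  omega

end

end Cfsg.Agent.H444.FprMtt
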