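import Cfsg.Agent.H435.Fpr.CoTwo
import Cfsg.Agent.H444.FprMtt
import Cfsg.Agent.Schreier.CoTwoStab

/-!
# Uniform bounds for elements of order 3, 5, 7, 11 of `Co2` and `Co1` (helper444)
-/

set_option autoImplicit false
open Subgroup MulAction
open scoped Pointwise

namespace Cfsg.Agent.H444.FprConway

open Cfsg
open Cfsg.Agent.H398.FPR (UGood)
open Cfsg.Agent.H444.Fpr (Known exists_sylow)
open Cfsg.Agent.H444.FprMtt
open Cfsg.Agent.H435.Fpr.CoTwo (uGood_transfer permCo0_inj)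
open Cfsg.Agent.SporadicA.Co0Mono (permCo0 permCo0_smul permMap_apply)
open Cfsg.Agent.SporadicStructure.Co2RankThree

/-- **elements of order 11** from the elements of order 23 -/
theorem uGood_eleven {S : Type*} [Group S] [Finite S] [IsSimpleGroup S] (known : Known S 23 1 11)
    (h11 : 11 ∣ Nat.card S) (hsq : ¬ 11 * 11 ∣ Nat.card S) {y : S} (hy : orderOf y = 11) : UGood 1 12 y := by
  have h11' : Fact (Nat.Prime 11) := ⟨by norm_num⟩
  obtain ⟨y0, ⟨k, hk⟩, hy0⟩ := known.bound (p := 11) (by norm_num) (by norm_num) (by norm_num)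
  have hU : UGood 1 12 y0 := by
    intro H hH
    obtain ⟨f, u, s, h1, h2, h3, h4, -⟩ := hy0 (S ⧸ H)
    rw [h1]
    have h5 := Cfsg.Agent.H394.SqBasic.le_index_of_prime_dvd hH (p := 23) (by norm_num) known.dvd
    have h6 : Nat.card (S ⧸ H) = H.index := rfl
    rw [← h6] at h5
    rcases Nat.eq_zero_or_pos u with h7 | h7
    · omega
    · have h8 := h4 h7.ne'
      have h9 := Nat.le_of_dvd (by norm_num) h8
      omega
  have hk0 : k ≠ 0 := by
    rintro rfl
    rw [pow_zero, orderOf_eq_one_iff] at hk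
    rw [hk] at hU
    have h1 := hU ⊥ (by
      intro h
      obtain ⟨z, hz⟩ := exists_prime_orderOf_dvd_card' (G := S) 11 h11
      have h2 : z ∈ (⊥ : Subgroup S) := by rw [h]; trivial
      rw [mem_bot] at h2
      rw [h2, orderOf_one] at hz
      norm_num at hz)
    have h2 : Nat.card (fixedBy (S ⧸ (⊥ : Subgroup S)) (1 : S)) = Nat.card (S ⧸ (⊥ : Subgroup S)) := by
      rw [Nat.card_coe_set_eq, fixedBy_one_eq_univ, Set.ncard_univ]
    have h3 : 0 < Nat.card (S ⧸ (⊥ : Subgroup S)) := Nat.card_pos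
    omega
  have hk1 : k = 1 := by
    by_contra hk1
    apply hsq
    rw [← pow_two]
    refine dvd_trans (pow_dvd_pow 11 (show 2 ≤ k by omega)) ?_
    rw [← hk]
    exact orderOf_dvd_natCard y0
  rw [hk1, pow_one] at hk
  exact uGood_transfer (r := 11) hsq hk hy hU

/-! ### `Co2` -/

/-- the vector `(3, -1^23)` -/
def vecW : GolayPt → ℤ := fun p => if p = none then 3 else -1

theorem vecW_mem : vecW ∈ leechSet := Spor.mem_leechSet_of_const_mod_four _ (-1) (-1) (by decide) (by decide) (by decide)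

def leechW : leechLattice := ⟨vecW, AddSubgroup.subset_closure vecW_mem⟩

theorem dt_leechW : dt leechW leechW = 32 := by
  rw [← norm_eq]
  show sqNorm vecW = 32
  decide

theorem fixW (σ : MS) : permCo0 (σ : M24) • leechW = leechW := by
  apply Subtype.ext
  funext p
  show vecW (((σ : M24) : Equiv.Perm GolayPt).symm p) = vecW p
  have h : ((σ : M24) : Equiv.Perm GolayPt) none = none := σ.2
  unfold vecW
  by_cases hp : p = none
  · rw [hp, show ((σ : M24) : Equiv.Perm GolayPt).symm none = none from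
      (Equiv.symm_apply_eq _).2 h.symm]
  · have h1 : ((σ : M24) : Equiv.Perm GolayPt).symm p ≠ none := by
      intro h2
      apply hp
      rw [Equiv.symm_apply_eq] at h2
      rw [h2, h]
    rw [if_neg hp, if_neg h1]

/-- `M23` in the stabilizer of `leechW` -/
def f2 : MS →* stabilizer Co0 leechW where
  toFun σ := ⟨permCo0 (σ : M24), fixW σ⟩
  map_one' := Subtype.ext (map_one permCo0)
  map_mul' a b := Subtype.ext (map_mul permCo0 (a : M24) (b : M24))

theorem f2_inj {y : MS} (h : f2 y = 1) : y = 1 := by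
  have h1 : permCo0 (y : M24) = 1 := congrArg Subtype.val h
  exact Subtype.ext (permCo0_inj (h1.trans (map_one _).symm))

theorem eleven_co2 {y : Spor.Co2} (hy : orderOf y = 11) : UGood 1 12 y := by
  have hs := Cfsg.Agent.H49.CoStab.simple_co2
  exact uGood_eleven Cfsg.Agent.H435.Fpr.CoTwo.known (by rw [Cfsg.Agent.H435.Fpr.CoTwo.card_co2]; norm_num)
    (by rw [Cfsg.Agent.H435.Fpr.CoTwo.card_co2]; norm_num) hy

/-- a homomorphism `M23 → Co2` -/
theorem exists_two : ∃ f : MS →* Spor.Co2, ∀ y, f y = 1 → y = 1 := by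
  obtain ⟨e⟩ := Schreier.CoTwoStab.exists_equiv leechW dt_leechW
  exact ⟨e.toMonoidHom.comp f2, fun y hy => f2_inj (e.injective (hy.trans (map_one _).symm))⟩

theorem orderOf_image {G : Type*} [Group G] (f : MS →* G) {p : ℕ} (hp : p.Prime) {x : MS} (h1 : x ^ p = 1)
    (h2 : f x ≠ 1) : orderOf (f x) = p := by
  have := Fact.mk hp
  exact orderOf_eq_prime (by rw [← map_pow, h1, map_one]) h2

/-- **the elements of `Co2`** -/
theorem co2 : (∃ x : Spor.Co2, orderOf x = 3 ∧ UGood 29 84 x) ∧ (∃ x : Spor.Co2, orderOf x = 5 ∧ UGood 1 6 x) ∧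
    (∃ x : Spor.Co2, orderOf x = 7 ∧ UGood 5 16 x) ∧ ∃ x : Spor.Co2, orderOf x = 11 ∧ UGood 1 12 x := by
  obtain ⟨f, hf⟩ := exists_two
  have h11 : ∀ y : Spor.Co2, orderOf y = 11 → UGood 1 12 y := fun y hy => eleven_co2 hy
  have hf' : ∀ y : MS, y ^ 11 = 1 → f y = 1 → y = 1 := fun y _ h => hf y h
  refine ⟨⟨f x3, ?_, uGood_three f hf' h11⟩, ⟨f x5, ?_, uGood_five f hf' h11⟩, ⟨f x7, ?_, uGood_seven f hf' h11⟩,
    ⟨f y5, ?_, h11 _ ?_⟩⟩
  · exact orderOf_image f (by norm_num) e3 fun h => x3_ne (hf _ h)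
  · exact orderOf_image f (by norm_num) e5 fun h => x5_ne (hf _ h)
  · exact orderOf_image f (by norm_num) e7 fun h => x7_ne (hf _ h)
  · exact orderOf_image f (by norm_num) eY5 fun h => y5_ne (hf _ h)
  · exact orderOf_image f (by norm_num) eY5 fun h => y5_ne (hf _ h)

/-! ### `Co1` -/

open Cfsg.Agent.H604.Cop.Conway in
theorem known_co1 : Known Spor.Co1 23 1 11 := by
  have hf := BpSpor.MBigCo.finite_co1
  exact Known.of_cent (N := 4157776806543360000) (by norm_num) BpSpor.MBigCo.card_co1 (by norm_num) (by norm_num)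
    orderOf_s23 (by rw [card_eq orderOf_s23 card_cent_s23, orderOf_s23]) (by decide +kernel)

theorem eleven_co1 {y : Spor.Co1} (hy : orderOf y = 11) : UGood 1 12 y := by
  have hf := BpSpor.MBigCo.finite_co1
  have hs : IsSimpleGroup Spor.Co1 := Cfsg.Agent.S0399.result.1
  exact uGood_eleven known_co1 (by rw [BpSpor.MBigCo.card_co1]; norm_num)
    (by rw [BpSpor.MBigCo.card_co1]; norm_num) hy

/-- `M23 → Co1` -/
noncomputable def f1 : MS →* Spor.Co1 :=
  (QuotientGroup.mk' (Subgroup.center Co0)).comp (permCo0.comp MS.subtype)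

theorem f1_one {n : ℕ} (hn : Odd n) {y : MS} (hy : y ^ n = 1) (h : f1 y = 1) : y = 1 := by
  have h0 : Cfsg.Agent.CoOneType.ClosingFacts.mk (permCo0 (y : M24)) = 1 := h
  rcases (Cfsg.Agent.CoOneType.ClosingFacts.mk_eq_one _).1 h0 with h1 | h1
  · exact Subtype.ext (permCo0_inj (h1.trans (map_one _).symm))
  · exfalso
    have h2 : permCo0 (y : M24) ^ n = 1 := by
      rw [← map_pow, ← Subgroup.coe_pow, hy, Subgroup.coe_one, map_one]
    rw [h1, LThreeBX.NoSeven.pow_n hn] at h2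
    exact LThreeBX.NoSeven.n_ne h2

/-- **the elements of `Co1`** -/
theorem co1 : (∃ x : Spor.Co1, orderOf x = 3 ∧ UGood 29 84 x) ∧ (∃ x : Spor.Co1, orderOf x = 5 ∧ UGood 1 6 x) ∧
    (∃ x : Spor.Co1, orderOf x = 7 ∧ UGood 5 16 x) ∧ ∃ x : Spor.Co1, orderOf x = 11 ∧ UGood 1 12 x := by
  have hf := BpSpor.MBigCo.finite_co1
  have h11 : ∀ y : Spor.Co1, orderOf y = 11 → UGood 1 12 y := fun y hy => eleven_co1 hy
  have hf' : ∀ y : MS, y ^ 11 = 1 → f1 y = 1 → y = 1 := fun y h0 h => f1_one (n := 11) (by decide) h0 h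
  refine ⟨⟨f1 x3, ?_, uGood_three f1 hf' h11⟩, ⟨f1 x5, ?_, uGood_five f1 hf' h11⟩, ⟨f1 x7, ?_, uGood_seven f1 hf' h11⟩,
    ⟨f1 y5, ?_, h11 _ ?_⟩⟩
  · exact orderOf_image f1 (by norm_num) e3 fun h => x3_ne (f1_one (n := 3) (by decide) e3 h)
  · exact orderOf_image f1 (by norm_num) e5 fun h => x5_ne (f1_one (n := 5) (by decide) e5 h)
  · exact orderOf_image f1 (by norm_num) e7 fun h => x7_ne (f1_one (n := 7) (by decide) e7 h)
  · exact orderOf_image f1 (by norm_num) eY5 fun h => y5_ne (f1_one (n := 11) (by decide) eY5 h)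
  · exact orderOf_image f1 (by norm_num) eY5 fun h => y5_ne (f1_one (n := 11) (by decide) eY5 h)

end Cfsg.Agent.H444.FprConway
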