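import Cfsg.Agent.H435.Fpr.LargeRow

/-!
# Growth of uniform bounds through a large extraspecial subgroup, elements of odd prime order (helper444)

* `uGood_lift` : `UGood a b y`, `y` of odd prime order `r` in `L = C(z) / Q`, `b ≤ a (r + 1)`, gives `UGood a b y'` for
  some `y'` of order `r` in `C(z)`;
* `fix_le_large` : hence `b fix(y') ≤ a n + b - a` for the cosets of every subgroup of the whole group;
* `row_odd` : the row.
-/

set_option autoImplicit false
open Subgroup MulAction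
open scoped Pointwise

namespace Cfsg.Agent.H444.FprLarge

open Cfsg.Agent.H398.FPR (fs mem_fs UGood cset exists_cset_subgroup UGood.growth)
open Cfsg.Agent.Co2Type.Quad Cfsg.Agent.KFacts.AutLarge
open Cfsg.Agent.H435.Fpr

theorem uGood_lift {S : Type*} [Group S] [Finite S] {z : S} {R : Subgroup S} {L : Type*} [Group L]
    (h : Large R z) (hirr : Irr R z)
    (π : centralizer ({z} : Set S) →* L) (hs : Function.Surjective π)
    (hk : ∀ c, π c = 1 ↔ (c : S) ∈ R) {r : ℕ} (hr : r.Prime) (hr2 : r ≠ 2) {y : L}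
    (hy : orderOf y = r) {a b : ℕ} (hab : b ≤ a * (r + 1)) (hgood : UGood a b y) :
    ∃ y' : centralizer ({z} : Set S), π y' = y ∧ orderOf y' = r ∧ UGood a b y' := by
  have h2F : Fact (Nat.Prime 2) := ⟨Nat.prime_two⟩
  have hrF : Fact r.Prime := ⟨hr⟩
  have hzz := h.z_sq
  have hRP : R ≤ centralizer ({z} : Set S) := fun x hx =>
    mem_centralizer_singleton_iff.2 (h.comm_z x hx)
  have hR2 : IsPGroup 2 R := by
    rintro ⟨x, hx⟩
    refine ⟨2, Subtype.ext ?_⟩
    have h2 : x ^ 2 ^ 2 = (x * x) * (x * x) := by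
      rw [show (2 : ℕ) ^ 2 = 2 * 2 by norm_num, pow_mul, pow_two, pow_two]
    have h1 : x ^ 2 ^ 2 = 1 := by
      rw [h2]
      rcases h.sq _ hx with h3 | h3
      · rw [h3, mul_one]
      · rw [h3, h.z_sq]
    exact h1
  have hmin : ∀ B : Subgroup S, B ≤ R →
      (∀ x ∈ centralizer ({z} : Set S), ∀ b ∈ B, x * b * x⁻¹ ∈ B) →
      (∀ b ∈ B, b = 1 ∨ b = z) ∨ B = R := by
    intro B hB hn
    exact hirr B hB fun g hg => hn g (mem_centralizer_singleton_iff.2 hg)
  have hcR : ∀ x ∈ centralizer ({z} : Set S), (∀ r ∈ R, x * r = r * x) → x ∈ R := by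
    intro g hg hc
    exact h.self g (mem_centralizer_singleton_iff.1 hg) hc
  have hN2 : IsPGroup 2 π.ker := by
    rintro ⟨c, hc⟩
    obtain ⟨k, hk'⟩ := hR2 ⟨(c : S), (hk c).1 hc⟩
    have h : (c : S) ^ 2 ^ k = 1 := congrArg Subtype.val hk'
    exact ⟨k, Subtype.ext (Subtype.ext h)⟩
  obtain ⟨y', hy', hyo⟩ := exists_lift_prime hs hN2 hr hr2 hy
  have hyr : y' ^ r = 1 := by rw [← hyo]; exact pow_orderOf_eq_one _
  have hnil : Group.IsNilpotent π.ker := hN2.isNilpotent
  refine ⟨y', hy', hyo, UGood.growth (N := π.ker) π hs rfl (by rw [hy']; exact hgood) ?_⟩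
  intro M hM hNM hn _
  suffices hsuf : (r + 1) * (cset π.ker (M ⊓ π.ker) y').ncard ≤ Nat.card π.ker by
    calc b * (cset π.ker (M ⊓ π.ker) y').ncard ≤ a * (r + 1) * (cset π.ker (M ⊓ π.ker) y').ncard :=
          Nat.mul_le_mul_right _ hab
      _ = a * ((r + 1) * (cset π.ker (M ⊓ π.ker) y').ncard) := by ring
      _ ≤ a * Nat.card π.ker := Nat.mul_le_mul_left _ hsuf
  refine card_cset_of_odd hN2 hM hNM hr hr2 hyr ?_
  by_contra hcon
  push Not at hcon
  -- `M ∩ N ≤ ⟨z⟩`
  have hD : (∀ b ∈ (M ⊓ π.ker).map (centralizer ({z} : Set S)).subtype, b = 1 ∨ b = z) ∨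
      (M ⊓ π.ker).map (centralizer ({z} : Set S)).subtype = R := by
    apply hmin
    · rintro _ ⟨c, hc, rfl⟩
      exact (hk c).1 (mem_inf.1 hc).2
    · rintro u hu _ ⟨c, hc, rfl⟩
      exact ⟨⟨u, hu⟩ * c * ⟨u, hu⟩⁻¹, hn.conj_mem c hc _, rfl⟩
  rcases hD with hD | hD
  · -- `y'` centralizes `R`
    have hc : ∀ t : centralizer ({z} : Set S), t ∈ π.ker → y' * t * y'⁻¹ = t := by
      intro t ht
      obtain ⟨c, hc⟩ : ∃ c, c = t⁻¹ * y' * t * y'⁻¹ := ⟨_, rfl⟩
      have h1 : c ∈ M ⊓ π.ker := by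
        refine mem_inf.2 ⟨by rw [hc]; exact hcon t ht, ?_⟩
        have h2 : c = t⁻¹ * (y' * t * y'⁻¹) := by rw [hc]; group
        rw [h2]
        exact mul_mem (inv_mem ht) ((inferInstance : π.ker.Normal).conj_mem t ht y')
      have h2 := hD _ ⟨c, h1, rfl⟩
      have hcc : c * c = 1 := by
        apply Subtype.ext
        rcases h2 with h2 | h2
        · have h3 : (c : S) = 1 := h2
          change (c : S) * c = 1
          rw [h3, mul_one]
        · have h3 : (c : S) = z := h2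
          change (c : S) * c = 1
          rw [h3, hzz]
      have hcy : y' * c * y'⁻¹ = c := by
        apply Subtype.ext
        change (y' : S) * c * (y' : S)⁻¹ = c
        rcases h2 with h2 | h2
        · have h3 : (c : S) = 1 := h2
          rw [h3, mul_one, mul_inv_cancel]
        · have h3 : (c : S) = z := h2
          rw [h3, mul_inv_eq_iff_eq_mul]
          exact mem_centralizer_singleton_iff.1 y'.2
      have h3 : y' * t * y'⁻¹ = t * c := by rw [hc]; group
      have h4 : ∀ n : ℕ, y' ^ n * t * (y' ^ n)⁻¹ = t * c ^ n := by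
        intro n
        induction n with
        | zero => simp
        | succ n ih =>
          calc y' ^ (n + 1) * t * (y' ^ (n + 1))⁻¹ = y' * (y' ^ n * t * (y' ^ n)⁻¹) * y'⁻¹ := by
                rw [pow_succ']; group
            _ = y' * (t * c ^ n) * y'⁻¹ := by rw [ih]
            _ = (y' * t * y'⁻¹) * (y' * c * y'⁻¹) ^ n := by rw [conj_pow]; group
            _ = t * c ^ (n + 1) := by rw [h3, hcy, pow_succ', mul_assoc]
      have h5 := h4 r
      rw [hyr, one_mul, inv_one, mul_one, left_eq_mul] at h5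
      have h6 : c = 1 := by
        obtain ⟨m, hm⟩ := (hr.odd_of_ne_two hr2)
        rw [hm, pow_succ, pow_mul, pow_two, hcc, one_pow, one_mul] at h5
        exact h5
      rw [h3, h6, mul_one]
    have h1 : (y' : S) ∈ R := by
      apply hcR _ y'.2
      intro t ht
      have h2 := hc ⟨t, hRP ht⟩ ((hk ⟨t, hRP ht⟩).2 ht)
      rw [mul_inv_eq_iff_eq_mul] at h2
      exact congrArg Subtype.val h2
    have h2 : π y' = 1 := (hk y').2 h1
    rw [hy'] at h2
    rw [h2, orderOf_one] at hy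
    exact hr.one_lt.ne hy
  · apply hNM
    intro c hc
    have h1 : (c : S) ∈ (M ⊓ π.ker).map (centralizer ({z} : Set S)).subtype := by
      rw [hD]
      exact (hk c).1 hc
    obtain ⟨c', hc', h2⟩ := h1
    have h3 : c' = c := Subtype.ext h2
    rw [← h3]
    exact (mem_inf.1 hc').1

/-- `b fix(y') ≤ a n + b - a` -/
theorem fix_le_large {S : Type*} [Group S] [Finite S] {z : S} {R : Subgroup S} {L : Type*} [Group L]
    (h : Large R z) (hirr : Irr R z) (ho : Odd (centralizer ({z} : Set S)).index)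
    (π : centralizer ({z} : Set S) →* L) (hs : Function.Surjective π)
    (hk : ∀ c, π c = 1 ↔ (c : S) ∈ R) {r : ℕ} (hr : r.Prime) (hr2 : r ≠ 2) {y : L}
    (hy : orderOf y = r) {a b : ℕ} (hab : b ≤ a * (r + 1)) (hle : a ≤ b) (hgood : UGood a b y) :
    ∃ y' : S, orderOf y' = r ∧ ∀ H : Subgroup S,
      b * Nat.card (fixedBy (S ⧸ H) y') ≤ a * Nat.card (S ⧸ H) + (b - a) := by
  obtain ⟨y', -, hyo, hU⟩ := uGood_lift h hirr π hs hk hr hr2 hy hab hgood
  have h2F : Fact (Nat.Prime 2) := ⟨Nat.prime_two⟩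
  obtain ⟨T, hzT, hTz, hTc⟩ := exists_sylow_large h ho
  refine ⟨(y' : S), by rw [Subgroup.orderOf_coe]; exact hyo, fun H => ?_⟩
  have hc1 : (fs (centralizer {z}) (S ⧸ H)).ncard ≤ 1 := by
    apply ncard_fs_centralizer_le_one T
    · intro t ht
      exact mem_centralizer_singleton_iff.2 (hTz t ht)
    · intro w hw hwc
      have hzo : orderOf z = 2 := orderOf_eq_prime (by rw [pow_two, h.z_sq]) h.z_ne
      have hwo : orderOf w = 2 := by
        obtain ⟨c, rfl⟩ := isConj_iff.1 hw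
        rw [← hzo]
        exact orderOf_injective (MulAut.conj c).toMonoidHom (MulAut.conj c).injective z
      have hwT : w ∈ T := mem_sylow_of_comm T ⟨1, by rw [hwo]; norm_num⟩ hwc
      rcases hTc w hwT hwc with h | h
      · exfalso
        rw [h, orderOf_one] at hwo
        norm_num at hwo
      · exact h
  have h1 := bound_of_uGood y'.2 hU (X := S ⧸ H)
  rcases Nat.eq_zero_or_pos (fs (centralizer ({z} : Set S)) (S ⧸ H)).ncard with h0 | h0
  · rw [h0, mul_zero, mul_zero] at h1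
    omega
  · have h2 : (fs (centralizer ({z} : Set S)) (S ⧸ H)).ncard = 1 := by omega
    rw [h2, mul_one, mul_one] at h1
    omega

/-- **the row** -/
theorem row_odd {S : Type*} [Group S] [Finite S] {z : S} {R : Subgroup S} {L : Type*} [Group L]
    (h : Large R z) (hirr : Irr R z) (ho : Odd (centralizer ({z} : Set S)).index)
    (π : centralizer ({z} : Set S) →* L) (hs : Function.Surjective π)
    (hk : ∀ c, π c = 1 ↔ (c : S) ∈ R) {r : ℕ} (hr : r.Prime) (hr2 : r ≠ 2) {y : L}
    (hy : orderOf y = r) {a b : ℕ} (hab : b ≤ a * (r + 1)) (hle : a ≤ b) (hb : 0 < b) (hgood : UGood a b y)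
    {A B : ℕ} (hidx : ∀ H : Subgroup S, H ≠ ⊤ →
      A * (a * Nat.card (S ⧸ H) + (b - a)) ≤ b * (B * Nat.card (S ⧸ H))) :
    Cfsg.Agent.H409.FprRow A B r S := by
  obtain ⟨y', hyo, hU⟩ := fix_le_large h hirr ho π hs hk hr hr2 hy hab hle hgood
  intro H hH
  refine ⟨y', ⟨1, by rw [hyo, pow_one]⟩, ?_⟩
  apply Nat.le_of_mul_le_mul_left _ hb
  calc b * (A * Nat.card (fixedBy (S ⧸ H) y')) = A * (b * Nat.card (fixedBy (S ⧸ H) y')) := by ring
    _ ≤ A * (a * Nat.card (S ⧸ H) + (b - a)) := Nat.mul_le_mul_left _ (hU H)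
    _ ≤ b * (B * Nat.card (S ⧸ H)) := hidx H hH

end Cfsg.Agent.H444.FprLarge
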