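import Cfsg.Agent.KFacts.MonsterM
import Cfsg.Agent.H848.MonsterSetup
import Cfsg.Agent.BpSpor.MBigEleven
import Cfsg.Agent.H444.FprLarge
import Cfsg.Agent.H444.FprConway

/-!
# The rows `p = 2, 3, 5, 7, 11` of the table of fixed point ratios for the Monster (helper444)
-/

set_option autoImplicit false
open Subgroup MulAction
open scoped Pointwise

namespace Cfsg.Agent.H444.FprM

open Cfsg.Agent.H398.FPR (UGood)
open Cfsg Cfsg.Agent.MonsterX Cfsg.Agent.MonsterX.InstData Cfsg.Agent.MonsterX.MainPack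
open Cfsg.Agent.MonsterX.MainBasic Cfsg.Agent.MonsterX.MainSimple Cfsg.Agent.MonsterX.Model
open Cfsg.Agent.MonsterN Cfsg.Agent.KFacts
open Cfsg.Agent.H409 (FprRow)
open Cfsg.Spor (Co1)

abbrev MG : Type := ↥InstData.M.G

theorem card_M : Nat.card MG = 808017424794512875886459904961710757005754368000000000 := BpSpor.MBigModel.card_M

theorem finite : Finite MG := BpSpor.MBigModel.finite

theorem exists_data : ∃ (Q : Subgroup MG) (z : MG) (π : centralizer ({z} : Set MG) →* Co1),
    LargeSheet.Data Q z Co1 π := by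
  obtain ⟨π, D⟩ := MonsterE.data_model LitFin.all.hG LitFin.all.hR LitFin.all.hL LitFin.all.hO LitFin.all.hT
  exact ⟨_, _, π, D⟩

theorem idx {H : Subgroup MG} (hH : H ≠ ⊤) : 71 ≤ Nat.card (MG ⧸ H) := by
  have := finite
  have : IsSimpleGroup MG := BpSpor.MBigModel.simple
  exact Cfsg.Agent.H394.SqBasic.le_index_of_prime_dvd hH (p := 71) (by norm_num) (by rw [card_M]; norm_num)

/-- growth from `Co1` -/
theorem row_of {p : ℕ} (hp : p.Prime) (hp2 : p ≠ 2) {a b : ℕ} (hab : b ≤ a * (p + 1)) (hle : a ≤ b) (hb : 0 < b)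
    (hx : ∃ x : Co1, orderOf x = p ∧ UGood a b x) {c d : ℕ}
    (hn : ∀ n : ℕ, 71 ≤ n → c * (a * n + (b - a)) ≤ b * (d * n)) : FprRow c d p MG := by
  have := finite
  obtain ⟨Q, z, π, D⟩ := exists_data
  obtain ⟨x, hx, hU⟩ := hx
  exact H444.FprLarge.row_odd D.large D.irr D.odd π D.surj D.ker hp hp2 hx hab hle hb hU fun H hH => hn _ (idx hH)

theorem row_three : FprRow 5 2 3 MG :=
  row_of (by norm_num) (by norm_num) (a := 29) (b := 84) (by norm_num) (by norm_num) (by norm_num)
    H444.FprConway.co1.1 fun n hn => by omega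

theorem row_five : FprRow 9 4 5 MG :=
  row_of (by norm_num) (by norm_num) (a := 1) (b := 6) (by norm_num) (by norm_num) (by norm_num)
    H444.FprConway.co1.2.1 fun n hn => by omega

theorem row_seven : FprRow 13 6 7 MG :=
  row_of (by norm_num) (by norm_num) (a := 5) (b := 16) (by norm_num) (by norm_num) (by norm_num)
    H444.FprConway.co1.2.2.1 fun n hn => by omega

theorem row_eleven : FprRow 21 10 11 MG :=
  row_of (by norm_num) (by norm_num) (a := 1) (b := 12) (by norm_num) (by norm_num) (by norm_num)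
    H444.FprConway.co1.2.2.2 fun n hn => by omega

/-- an element of order 11 of `Co1` inverted by an involution -/
theorem exists_real : ∃ x y : Co1, orderOf y = 11 ∧ (∃ k : ℕ, orderOf x = 2 ^ k) ∧ x * y * x⁻¹ = y⁻¹ := by
  have h11 : Fact (Nat.Prime 11) := ⟨by norm_num⟩
  let q : M24 →* Co1 := (QuotientGroup.mk' (Subgroup.center Co0)).comp Cfsg.Agent.SporadicA.Co0Mono.permCo0
  refine ⟨q H435.Fpr.CoTwo.pt', q H435.Fpr.CoTwo.py, ?_, ?_, ?_⟩
  · apply orderOf_eq_prime
    · rw [← map_pow, H435.Fpr.CoTwo.py_pow, map_one]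
    · intro h
      have h0 : Cfsg.Agent.CoOneType.ClosingFacts.mk
        (Cfsg.Agent.SporadicA.Co0Mono.permCo0 H435.Fpr.CoTwo.py) = 1 := h
      rcases (Cfsg.Agent.CoOneType.ClosingFacts.mk_eq_one _).1 h0 with h1 | h1
      · exact H435.Fpr.CoTwo.py_ne (H435.Fpr.CoTwo.permCo0_inj (h1.trans (map_one _).symm))
      · have h2 : Cfsg.Agent.SporadicA.Co0Mono.permCo0 H435.Fpr.CoTwo.py ^ 11 = 1 := by
          rw [← map_pow, H435.Fpr.CoTwo.py_pow, map_one]
        rw [h1, LThreeBX.NoSeven.pow_n (by decide)] at h2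
        exact LThreeBX.NoSeven.n_ne h2
  · have h : q H435.Fpr.CoTwo.pt' ^ 2 = 1 := by rw [← map_pow, H435.Fpr.CoTwo.pt_sq, map_one]
    obtain ⟨k, -, hk⟩ := (Nat.dvd_prime_pow Nat.prime_two).1
      (orderOf_dvd_of_pow_eq_one (n := 2 ^ 1) (by rw [pow_one]; exact h))
    exact ⟨k, hk⟩
  · rw [← map_inv, ← map_inv, ← map_mul, ← map_mul, H435.Fpr.CoTwo.py_inv]

theorem row_two : FprRow 3 1 2 MG := by
  have := finite
  have hf1 := BpSpor.MBigCo.finite_co1
  obtain ⟨Q, z, π, D⟩ := exists_data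
  obtain ⟨x, y, hy, hx, hxy⟩ := exists_real
  refine H435.Fpr.row_of_large D.large D.irr D.odd π D.surj D.ker (r := 11) (by norm_num) (by norm_num) hy hx hxy ?_ ?_
  · exact (H444.FprConway.eleven_co1 hy).mono (by norm_num) (by norm_num)
  · intro H hH
    have := idx hH
    omega

/-- **the rows `p = 2, 3, 5, 7, 11` of the Monster** -/
theorem rowIso {S : Type*} [Group S] (h : Spor.IsoM S) {p : ℕ}
    (hp : p = 3 ∨ p = 5 ∨ p = 7 ∨ p = 11) : FprRow (2 * p - 1) (p - 1) p S := by
  have := finite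
  obtain ⟨f⟩ := h
  obtain ⟨g⟩ := MonsterP.Equiv.equiv
  have e := (f.trans g).symm
  rcases hp with rfl | rfl | rfl | rfl
  · exact row_three.of_mulEquiv (by norm_num) e
  · exact row_five.of_mulEquiv (by norm_num) e
  · exact row_seven.of_mulEquiv (by norm_num) e
  · exact row_eleven.of_mulEquiv (by norm_num) e

theorem rowIso_two {S : Type*} [Group S] (h : Spor.IsoM S) : FprRow 3 1 2 S := by
  have := finite
  obtain ⟨f⟩ := h
  obtain ⟨g⟩ := MonsterP.Equiv.equiv
  exact row_two.of_mulEquiv (by norm_num) (f.trans g).symm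

end Cfsg.Agent.H444.FprM
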