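import Cfsg.Agent.H847.MonDeg
import Cfsg.Agent.H444.FprM

/-!
# Every proper subgroup of the Monster has index at least 196883 (helper444)
-/

set_option autoImplicit false
open Subgroup MulAction

namespace Cfsg.Agent.H444.FprMIdx

open Cfsg Cfsg.Agent.H444.FprM Cfsg.Agent.MonsterX

/-- the functions on a `G`-set -/
def perm (G X : Type*) [Group G] [MulAction G X] : G →* ((X → ℂ) →ₗ[ℂ] (X → ℂ)) where
  toFun g := LinearMap.funLeft ℂ ℂ (fun x : X => g⁻¹ • x)
  map_one' := by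
    apply LinearMap.ext
    intro f
    funext x
    show f ((1 : G)⁻¹ • x) = f x
    rw [inv_one, one_smul]
  map_mul' a b := by
    apply LinearMap.ext
    intro f
    funext x
    show f ((a * b)⁻¹ • x) = f (b⁻¹ • (a⁻¹ • x))
    rw [mul_inv_rev, mul_smul]

/-- **the index of a proper subgroup of the Monster (model)** -/
theorem idx {H : Subgroup MG} (hH : H ≠ ⊤) : 196883 ≤ Nat.card (MG ⧸ H) := by
  classical
  have hf := FprM.finite
  have hfin : Finite (MG ⧸ H) := inferInstance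
  have hft : Fintype (MG ⧸ H) := Fintype.ofFinite _
  obtain ⟨g, hg⟩ : ∃ g : MG, g ∉ H := by
    by_contra hno
    push Not at hno
    exact hH (eq_top_iff.2 fun g _ => hno g)
  have h1 := H847.MonDeg.bound_model (V := (MG ⧸ H) → ℂ) (perm MG (MG ⧸ H)) ⟨g⁻¹, fun h => ?_⟩
  · rwa [Module.finrank_fintype_fun_eq_card, ← Nat.card_eq_fintype_card] at h1
  · have h2 := congrFun (LinearMap.congr_fun h (Pi.single ((1 : MG) : MG ⧸ H) (1 : ℂ))) ((1 : MG) : MG ⧸ H)
    have h3 : (Pi.single ((1 : MG) : MG ⧸ H) (1 : ℂ) : (MG ⧸ H) → ℂ) (g⁻¹⁻¹ • ((1 : MG) : MG ⧸ H)) =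
      (Pi.single ((1 : MG) : MG ⧸ H) (1 : ℂ) : (MG ⧸ H) → ℂ) ((1 : MG) : MG ⧸ H) := h2
    rw [Pi.single_eq_same, inv_inv] at h3
    by_cases hne : g • ((1 : MG) : MG ⧸ H) = ((1 : MG) : MG ⧸ H)
    · apply hg
      have h4 : ((g * 1 : MG) : MG ⧸ H) = ((1 : MG) : MG ⧸ H) := hne
      rw [mul_one] at h4
      have h5 := QuotientGroup.eq.1 h4
      rw [mul_one] at h5
      exact (inv_mem_iff).1 h5
    · rw [Pi.single_eq_of_ne hne] at h3
      exact zero_ne_one h3

end Cfsg.Agent.H444.FprMIdx
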