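import Cfsg.Agent.H715.Fpr.M23
import Cfsg.Agent.H444.FprConway
import Cfsg.Agent.H435.Fpr.CenterFix

/-!
# Sharp uniform bounds in `M23`, `Co2`, `Co1` (helper444)

In `M23` the elements of order 3, 5, 7, 11 fix at most `5 / 23`, `3 / 23`, `2 / 23`, `1 / 23` of the points. Every
subgroup of `Co2`, `Co1` of small index has index divisible by 23, so it contains no conjugate of `M23`.
-/

set_option autoImplicit false
open Subgroup MulAction
open scoped Pointwise

namespace Cfsg.Agent.H444.FprMU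

open Cfsg
open Cfsg.Agent.H398.FPR (UGood fs)
open Cfsg.Agent.H940.Eng Cfsg.Agent.H940.Eng.D
open Cfsg.Agent.H444.Fpr (Known)
open Cfsg.Agent.H715.Fpr
open Cfsg.Agent.H715.Fpr.MathData (card23 cn23_5 cn23_7 cn23_11)
open Cfsg.Agent.H435.Fpr
open Cfsg.Agent.H444.FprMtt (MS pm x3 x5 x7 y5 w3 e3 e5 e7 eW eY5 eW1 x3_ne x5_ne x7_ne y5_ne)
open Cfsg.Agent.H444.FprConway (f1 f1_one exists_two known_co1 orderOf_image)

universe u

/-- the indices below `K` -/
theorem idx_of {G : Type u} [Group G] {l : List (ℕ × ℕ)} {n : ℕ} {ords : List ℕ} {loc : List LD}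
    (c : Ctx G l n ords loc) {K bd : ℕ} {P : ℕ → Bool}
    (hc : ((List.range K).all fun d => Nat.ble d 1 || n % d != 0 || P d || bad l n [] bd loc ords (n / d)) = true)
    {H : Subgroup G} (hH : H ≠ ⊤) : P H.index = true ∨ K ≤ H.index := by
  have := c.fin
  have := c.simple
  by_cases hK : K ≤ H.index
  · exact Or.inr hK
  rw [List.all_eq_true] at hc
  have h1 := hc _ (List.mem_range.2 (not_le.1 hK))
  rw [Bool.or_eq_true, Bool.or_eq_true, Bool.or_eq_true, Nat.ble_eq, bne_iff_ne] at h1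
  have hdiv : n / H.index = Nat.card H := by
    rw [← c.card]
    exact Nat.div_eq_of_eq_mul_left (Nat.pos_of_ne_zero index_ne_zero_of_finite) (card_mul_index H).symm
  rcases h1 with ((h1 | h1) | h1) | h1
  · have h2 : H.index ≠ 0 := index_ne_zero_of_finite
    exact absurd (index_eq_one.1 (by omega)) hH
  · exact absurd (Nat.mod_eq_zero_of_dvd (by rw [← c.card]; exact index_dvd_card H)) h1
  · exact Or.inl h1
  · rw [hdiv, not_bad c.val c.card c.ords c.loc (fun p hp => absurd hp List.not_mem_nil) hH] at h1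
    exact absurd h1 (by decide)

/-! ### `M23` -/

theorem idx23 (B : Base) {H : Subgroup Spor.M23} (hH : H ≠ ⊤) : H.index = 23 ∨ 253 ≤ H.index := by
  rcases idx_of (M23.ctx B) (K := 253) (bd := 0) (P := fun d => d == 23) (by decide +kernel) hH with h | h
  · exact Or.inl (beq_iff_eq.1 h)
  · exact Or.inr h

theorem fix23 {p N : ℕ} (hp : p.Prime) (h2 : ¬ p ^ 2 ∣ n_m23)
    (hN : ∀ R : Subgroup Spor.M23, Nat.card R = p → Nat.card (normalizer (R : Set Spor.M23)) = N) {x : Spor.M23}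
    (hx : orderOf x = p) (H : Subgroup Spor.M23) :
    (Nat.card (fixedBy (Spor.M23 ⧸ H) x) = 0 ∨ p * Nat.card (fixedBy (Spor.M23 ⧸ H) x) ∣ N) ∧
      Nat.card (fixedBy (Spor.M23 ⧸ H) x) % p = H.index % p := by
  have := M23.fin
  refine ⟨?_, fix_modEq hp H hx⟩
  rcases fix_prime_all_dvd hp (by rw [card23]; exact h2) H hx with h | ⟨R, hR, h⟩
  · exact Or.inl h
  · rw [hN R hR] at h
    exact Or.inr h

theorem u5 (B : Base) {x : Spor.M23} (hx : orderOf x = 5) : UGood 3 23 x := by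
  intro H hH
  obtain ⟨h1, h2⟩ := fix23 (N := 60) (by norm_num) (by decide) (fun R hR => (cn23_5 hR).2) hx H
  have h3 := idx23 B hH
  change 23 * _ ≤ 3 * H.index
  rcases h1 with h1 | h1
  · rw [h1]; omega
  · set f := Nat.card (fixedBy (Spor.M23 ⧸ H) x)
    have h4 : f ∣ 12 := Nat.dvd_of_mul_dvd_mul_left (by norm_num : 0 < 5) h1
    have h5 := Nat.le_of_dvd (by norm_num) h4
    rcases h3 with h3 | h3
    · rw [h3] at h2 ⊢
      interval_cases f <;> simp_all
    · omega

theorem u7 (B : Base) {x : Spor.M23} (hx : orderOf x = 7) : UGood 2 23 x := by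
  intro H hH
  obtain ⟨h1, h2⟩ := fix23 (N := 42) (by norm_num) (by decide) (fun R hR => (cn23_7 hR).2) hx H
  have h3 := idx23 B hH
  change 23 * _ ≤ 2 * H.index
  rcases h1 with h1 | h1
  · rw [h1]; omega
  · set f := Nat.card (fixedBy (Spor.M23 ⧸ H) x)
    have h4 : f ∣ 6 := Nat.dvd_of_mul_dvd_mul_left (by norm_num : 0 < 7) h1
    have h5 := Nat.le_of_dvd (by norm_num) h4
    omega

theorem u11 (B : Base) {x : Spor.M23} (hx : orderOf x = 11) : UGood 1 23 x := by
  intro H hH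
  obtain ⟨h1, h2⟩ := fix23 (N := 55) (by norm_num) (by decide) (fun R hR => (cn23_11 hR).2) hx H
  have h3 := idx23 B hH
  change 23 * _ ≤ 1 * H.index
  rcases h1 with h1 | h1
  · rw [h1]; omega
  · set f := Nat.card (fixedBy (Spor.M23 ⧸ H) x)
    have h4 : f ∣ 5 := Nat.dvd_of_mul_dvd_mul_left (by norm_num : 0 < 11) h1
    have h5 := Nat.le_of_dvd (by norm_num) h4
    omega

theorem u3 (B : Base) {x w : Spor.M23} (hw : orderOf w = 7)
    (hxw : x * w * x⁻¹ = w ^ 2) : UGood 5 23 x := by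
  have := M23.fin
  intro H hH
  obtain ⟨h1, h2⟩ := fix23 (N := 42) (by norm_num) (by decide) (fun R hR => (cn23_7 hR).2) hw H
  have h3 := idx23 B hH
  have h4 := fix_regular (q := 7) (by norm_num) hw (y := x) (by rw [hxw]; exact pow_mem (mem_zpowers w) 2) (by
    intro h
    rw [h, mul_inv_cancel_right, pow_two, left_eq_mul] at hxw
    rw [hxw, orderOf_one] at hw
    norm_num at hw) H
  change 7 * _ ≤ H.index + _ at h4
  change 23 * _ ≤ 5 * H.index
  set f := Nat.card (fixedBy (Spor.M23 ⧸ H) x)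
  set g := Nat.card (fixedBy (Spor.M23 ⧸ H) w)
  rcases h1 with h1 | h1
  · omega
  · have h5 : g ∣ 6 := Nat.dvd_of_mul_dvd_mul_left (by norm_num : 0 < 7) h1
    have h6 := Nat.le_of_dvd (by norm_num) h5
    omega

/-- `MS` and `Spor.M23` -/
def eM : MS ≃* Spor.M23 where
  toFun a := ⟨pm a, (a : M24).2, a.2⟩
  invFun a := ⟨⟨(a : Equiv.Perm GolayPt), a.2.1⟩, a.2.2⟩
  left_inv _ := rfl
  right_inv _ := rfl
  map_mul' _ _ := rfl

theorem orderOf_eM {p : ℕ} (hp : p.Prime) {x : MS} (h1 : x ^ p = 1) (h2 : x ≠ 1) : orderOf (eM x) = p := by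
  have := Fact.mk hp
  rw [MulEquiv.orderOf_eq]
  exact orderOf_eq_prime h1 h2

theorem w3_ne : w3 ≠ 1 := by
  intro h
  have h1 := eW1
  have h2 := FprMtt.y3_ne
  unfold FprMtt.y3 at h2
  have h3 : FprMtt.pm w3 (SporadicA.GolayBase.pt 0) ≠ SporadicA.GolayBase.pt 0 := by
    have h : FprMtt.W3 (SporadicA.GolayBase.pt 0) ≠ SporadicA.GolayBase.pt 0 := by decide +kernel
    exact h
  rw [h] at h3
  exact h3 rfl

/-! ### `Co2` and `Co1` -/

section Conway

variable {G : Type} [Group G] [Finite G] (known : Known G 23 1 11)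
  (hidx : ∀ H : Subgroup G, H ≠ ⊤ → H.index % 23 = 0 ∨ 2025 ≤ H.index)
include known

omit [Finite G] in
theorem norm_known {R : Subgroup G} (hR : Nat.card R = 23) : Nat.card (normalizer (R : Set G)) = 253 := by
  obtain ⟨z, hz, rfl⟩ := eq_zpowers' (by norm_num) hR
  rw [known.norm z hz]

theorem fix_of_known {y : G} (hy : orderOf y = 23) (H : Subgroup G) :
    Nat.card (fixedBy (G ⧸ H) y) ≤ 11 ∧ Nat.card (fixedBy (G ⧸ H) y) % 23 = H.index % 23 := by
  refine ⟨?_, fix_modEq (by norm_num) H hy⟩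
  rcases fix_prime_all_dvd (p := 23) (by norm_num) (by rw [pow_two]; exact known.nsq) H hy with h | ⟨R, hR, h⟩
  · omega
  · rw [norm_known known hR] at h
    exact Nat.le_of_dvd (by norm_num) (Nat.dvd_of_mul_dvd_mul_left (by norm_num : 0 < 23) h)

include hidx

/-- **`23 fix(x) ≤ a n + (23 - a) F`**, where `F = 0` or `F ≤ 11`, `n ≥ 2025` -/
theorem bound (f : Spor.M23 →* G) (hf : ∀ y : Spor.M23, y ^ 23 = 1 → f y = 1 → y = 1) {a : ℕ}
    {x : Spor.M23} (hx : UGood a 23 x) {H : Subgroup G} (hH : H ≠ ⊤) :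
    ∃ F : ℕ, 23 * Nat.card (fixedBy (G ⧸ H) (f x)) + a * F ≤ 23 * F + a * Nat.card (G ⧸ H) ∧
      (F = 0 ∨ F ≤ 11 ∧ 2025 ≤ Nat.card (G ⧸ H)) := by
  have hfin := M23.fin
  have h23 : Fact (Nat.Prime 23) := ⟨by norm_num⟩
  obtain ⟨y, hy⟩ := exists_prime_orderOf_dvd_card' (G := Spor.M23) 23 (by rw [card23]; decide)
  have hfy : orderOf (f y) = 23 := by
    apply orderOf_eq_prime
    · rw [← map_pow, ← hy, pow_orderOf_eq_one, map_one]
    · intro h
      have h1 := hf y (by rw [← hy, pow_orderOf_eq_one]) h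
      rw [h1, orderOf_one] at hy
      norm_num at hy
  have hU : UGood a 23 (⟨f x, ⟨x, rfl⟩⟩ : f.range) := hx.of_surjective (f := f.rangeRestrict) f.rangeRestrict_surjective
  have h1 := bound_of_uGood (X := G ⧸ H) (K := f.range) (x := f x) ⟨x, rfl⟩ hU
  obtain ⟨h2, h3⟩ := fix_of_known known hfy H
  have h4 : (fs f.range (G ⧸ H)).ncard ≤ Nat.card (fixedBy (G ⧸ H) (f y)) := by
    rw [Nat.card_coe_set_eq]
    refine Set.ncard_le_ncard ?_ (Set.toFinite _)
    intro ω hω
    exact hω ⟨y, rfl⟩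
  refine ⟨_, h1, ?_⟩
  have h5 : Nat.card (G ⧸ H) = H.index := rfl
  rw [h5]
  rcases hidx H hH with h | h
  · left; omega
  · right; exact ⟨by omega, h⟩

/-- **the uniform elements** -/
theorem uniform (B : Base) (f : MS →* G) (hf : ∀ y : MS, y ^ 23 = 1 → f y = 1 → y = 1) :
    UGood 2 9 (f x3) ∧ UGood 1 7 (f x5) ∧ UGood 1 10 (f x7) ∧ UGood 1 20 (f y5) := by
  have hf' : ∀ y : Spor.M23, y ^ 23 = 1 → (f.comp eM.symm.toMonoidHom) y = 1 → y = 1 := by
    intro y h1 h2
    have h3 := hf (eM.symm y) (by rw [← map_pow, h1, map_one]) h2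
    have h4 := congrArg eM h3
    rwa [MulEquiv.apply_symm_apply, map_one] at h4
  have hc : ∀ x : MS, (f.comp eM.symm.toMonoidHom) (eM x) = f x := fun x => by
    show f (eM.symm (eM x)) = f x
    rw [MulEquiv.symm_apply_apply]
  refine ⟨?_, ?_, ?_, ?_⟩
  · intro H hH
    have h1 : UGood 5 23 (eM x3) := u3 B (w := eM w3) (orderOf_eM (by norm_num) eW w3_ne) (by
      rw [← map_inv, ← map_mul, ← map_mul, eW1, map_pow])
    obtain ⟨F, h2, h3⟩ := bound known hidx _ hf' h1 hH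
    rw [hc] at h2
    omega
  · intro H hH
    obtain ⟨F, h2, h3⟩ := bound known hidx _ hf' (u5 B (orderOf_eM (by norm_num) e5 x5_ne)) hH
    rw [hc] at h2
    omega
  · intro H hH
    obtain ⟨F, h2, h3⟩ := bound known hidx _ hf' (u7 B (orderOf_eM (by norm_num) e7 x7_ne)) hH
    rw [hc] at h2
    omega
  · intro H hH
    obtain ⟨F, h2, h3⟩ := bound known hidx _ hf' (u11 B (orderOf_eM (by norm_num) eY5 y5_ne)) hH
    rw [hc] at h2
    omega

/-- the elements of order 23 -/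
theorem twentythree {y : G} (hy : orderOf y = 23) : UGood 1 100 y := by
  intro H hH
  obtain ⟨h1, h2⟩ := fix_of_known known hy H
  change 100 * _ ≤ 1 * H.index
  rcases hidx H hH with h | h
  · omega
  · omega

end Conway

def loc23 : List LD := [⟨23, 23, [(11, 1), (23, 1)]⟩]

theorem loc_known {G : Type} [Group G] {n : ℕ} (hn : Nat.card G = n) (h2 : (n % (23 ^ 2) != 0) = true)
    (known : Known G 23 1 11) : ∀ ld ∈ loc23, Loc G ld := by
  intro ld hld
  rw [loc23, List.mem_singleton] at hld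
  rw [hld]
  refine loc_of_eq hn (by decide +kernel) h2 (by decide +kernel) fun R hR => ?_
  rw [norm_known known hR]
  obtain ⟨z, hz, rfl⟩ := eq_zpowers' (by norm_num) hR
  rw [cent_zpowers', known.cent z hz]
  decide

theorem ctx1 (B : Base) : Ctx Spor.Co1 l_co1 n_co1 o_co1 loc23 where
  fin := BpSpor.MBigCo.finite_co1
  simple := Cfsg.Agent.S0399.result.1
  card := BpSpor.MBigCo.card_co1
  val := v_co1
  nodup := nd_co1
  ords := ords_co1 B
  loc := loc_known BpSpor.MBigCo.card_co1 (by decide +kernel) known_co1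

theorem ctx2 (B : Base) : Ctx Spor.Co2 l_co2 n_co2 o_co2 loc23 where
  fin := Cfsg.Agent.H49.CoStab.finite_co2
  simple := Cfsg.Agent.H49.CoStab.simple_co2
  card := Cfsg.Agent.H49.CoStab.card_co2
  val := v_co2
  nodup := nd_co2
  ords := ords_co2 B
  loc := loc_known Cfsg.Agent.H49.CoStab.card_co2 (by decide +kernel) Cfsg.Agent.H435.Fpr.CoTwo.known

theorem idx1 (B : Base) {H : Subgroup Spor.Co1} (hH : H ≠ ⊤) : H.index % 23 = 0 ∨ 4095 ≤ H.index := by
  rcases idx_of (ctx1 B) (K := 4095) (bd := 0) (P := fun d => d % 23 == 0) (by decide +kernel) hH with h | h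
  · exact Or.inl (beq_iff_eq.1 h)
  · exact Or.inr h

theorem idx2 (B : Base) {H : Subgroup Spor.Co2} (hH : H ≠ ⊤) : H.index % 23 = 0 ∨ 2025 ≤ H.index := by
  rcases idx_of (ctx2 B) (K := 2025) (bd := 0) (P := fun d => d % 23 == 0) (by decide +kernel) hH with h | h
  · exact Or.inl (beq_iff_eq.1 h)
  · exact Or.inr h

/-- **`Co1`** -/
theorem co1 (B : Base) : UGood 2 9 (f1 x3) ∧ UGood 1 7 (f1 x5) ∧ UGood 1 10 (f1 x7) ∧ UGood 1 20 (f1 y5) := by
  have := BpSpor.MBigCo.finite_co1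
  exact uniform known_co1 (fun H hH => (idx1 B hH).imp id (fun h => by omega)) B f1
    fun y h0 h => f1_one (n := 23) (by decide) h0 h

theorem co1_23 (B : Base) {y : Spor.Co1} (hy : orderOf y = 23) : UGood 1 100 y := by
  have := BpSpor.MBigCo.finite_co1
  exact twentythree known_co1 (fun H hH => (idx1 B hH).imp id (fun h => by omega)) hy

/-- **`Co2`** -/
theorem co2 (B : Base) : ∃ f : MS →* Spor.Co2, (∀ y, f y = 1 → y = 1) ∧
    UGood 2 9 (f x3) ∧ UGood 1 7 (f x5) ∧ UGood 1 10 (f x7) ∧ UGood 1 20 (f y5) := by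
  have := Cfsg.Agent.H49.CoStab.finite_co2
  obtain ⟨f, hf⟩ := exists_two
  exact ⟨f, hf, uniform Cfsg.Agent.H435.Fpr.CoTwo.known (fun H hH => idx2 B hH) B f fun y _ h => hf y h⟩

theorem co2_23 (B : Base) {y : Spor.Co2} (hy : orderOf y = 23) : UGood 1 100 y := by
  have := Cfsg.Agent.H49.CoStab.finite_co2
  exact twentythree Cfsg.Agent.H435.Fpr.CoTwo.known (fun H hH => idx2 B hH) hy

end Cfsg.Agent.H444.FprMU
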