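import Mathlib
import Cfsg.Agent.Lib.Cores
import Cfsg.Agent.Lib.HallHigman

/-!
# Central involutions of a Sylow 2-subgroup in a solvable group

`C` is a finite solvable group, `S` a Sylow 2-subgroup, `t` an involution of `Z(S)` and `N` a normal subgroup such that
`t` is central modulo `N`. Then some `t v`, `v ∈ N` an involution of `Z(S)` (or `v = 1`), is central modulo `O(C)`.
-/

set_option autoImplicit false

namespace Cfsg.Agent.H444.CentralMod

open Subgroup Cfsg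

section

variable {C : Type*} [Group C]

/-- `Ω₁(Z(O₂(C)))` -/
def omegaZ (C : Type*) [Group C] : Subgroup C where
  carrier := {x | x ∈ pCore 2 C ∧ x * x = 1 ∧ ∀ q ∈ pCore 2 C, q * x = x * q}
  one_mem' := ⟨one_mem _, by simp, by simp⟩
  mul_mem' := by
    rintro x y ⟨h1, h2, h3⟩ ⟨h4, h5, h6⟩
    refine ⟨mul_mem h1 h4, ?_, fun q hq => ?_⟩
    · calc x * y * (x * y) = x * (y * x) * y := by group
        _ = x * (x * y) * y := by rw [h3 y h4]
        _ = (x * x) * (y * y) := by group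
        _ = 1 := by rw [h2, h5, mul_one]
    · rw [← mul_assoc, h3 q hq, mul_assoc, h6 q hq, mul_assoc]
  inv_mem' := by
    rintro x ⟨h1, h2, h3⟩
    have hx : x⁻¹ = x := inv_eq_of_mul_eq_one_right h2
    rw [hx]
    exact ⟨h1, h2, h3⟩

theorem mem_omegaZ {x : C} : x ∈ omegaZ C ↔ x ∈ pCore 2 C ∧ x * x = 1 ∧ ∀ q ∈ pCore 2 C, q * x = x * q := Iff.rfl

theorem omegaZ_normal : (omegaZ C).Normal := by
  have hn : (pCore 2 C).Normal := Cfsg.Agent.Lib.Cores.pCore_normal 2
  refine ⟨fun x hx g => ?_⟩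
  obtain ⟨h1, h2, h3⟩ := mem_omegaZ.1 hx
  refine mem_omegaZ.2 ⟨hn.conj_mem x h1 g, ?_, fun q hq => ?_⟩
  · calc g * x * g⁻¹ * (g * x * g⁻¹) = g * (x * x) * g⁻¹ := by group
      _ = 1 := by rw [h2]; group
  · have h4 : g⁻¹ * q * g ∈ pCore 2 C := by
      have := hn.conj_mem q hq g⁻¹
      rwa [inv_inv] at this
    calc q * (g * x * g⁻¹) = g * ((g⁻¹ * q * g) * x) * g⁻¹ := by group
      _ = g * (x * (g⁻¹ * q * g)) * g⁻¹ := by rw [h3 _ h4]
      _ = g * x * g⁻¹ * q := by group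

theorem omegaZ_comm (x y : omegaZ C) : x * y = y * x :=
  Subtype.ext ((mem_omegaZ.1 y.2).2.2 x (mem_omegaZ.1 x.2).1)

/-- Core-free version. -/
theorem exists_central [Finite C] (S : Sylow 2 C) (hc : centralizer (pCore 2 C : Set C) ≤ pCore 2 C) {t : C}
    (ht2 : t * t = 1) (htS : ∀ s ∈ (S : Subgroup C), s * t = t * s) (N : Subgroup C) [hNn : N.Normal]
    (hN : ∀ c : C, c * t * c⁻¹ * t⁻¹ ∈ N) :
    ∃ v ∈ N, v ∈ pCore 2 C ∧ v * v = 1 ∧ ∀ c : C, c * (t * v) = (t * v) * c := by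
  classical
  have htQ : t ∈ pCore 2 C := by
    apply hc
    rw [mem_centralizer_iff]
    intro q hq
    exact htS q (Cfsg.Agent.Lib.Cores.pCore_le_sylow S hq)
  have htV : t ∈ omegaZ C :=
    mem_omegaZ.2 ⟨htQ, ht2, fun q hq => htS q (Cfsg.Agent.Lib.Cores.pCore_le_sylow S hq)⟩
  have hVn : (omegaZ C).Normal := omegaZ_normal
  letI : CommGroup (omegaZ C) := { (inferInstance : Group (omegaZ C)) with mul_comm := omegaZ_comm }
  set t' : omegaZ C := ⟨t, htV⟩ with ht'
  set K : Subgroup C := centralizer ({t} : Set C) with hK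
  have hSK : (S : Subgroup C) ≤ K := by
    intro s hs
    rw [hK, mem_centralizer_singleton_iff]
    exact htS s hs
  have hodd : Odd K.index := by
    have h1 : ¬ 2 ∣ (S : Subgroup C).index := S.not_dvd_index
    have h2 : K.index ∣ (S : Subgroup C).index := index_dvd_of_le hSK
    rw [← Nat.not_even_iff_odd, even_iff_two_dvd]
    exact fun h => h1 (h.trans h2)
  letI : Fintype (C ⧸ K) := Fintype.ofFinite _
  have hwd : ∀ c₁ c₂ : C, c₁⁻¹ * c₂ ∈ K → MulAut.conjNormal c₁ t' = MulAut.conjNormal c₂ t' := by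
    intro c₁ c₂ h
    rw [hK, mem_centralizer_singleton_iff] at h
    apply Subtype.ext
    rw [MulAut.conjNormal_apply, MulAut.conjNormal_apply]
    show c₁ * t * c₁⁻¹ = c₂ * t * c₂⁻¹
    calc c₁ * t * c₁⁻¹ = c₁ * (t * (c₁⁻¹ * c₂)) * c₂⁻¹ := by group
      _ = c₁ * (c₁⁻¹ * c₂ * t) * c₂⁻¹ := by rw [h]
      _ = c₂ * t * c₂⁻¹ := by group
  let f : C ⧸ K → omegaZ C := fun q => Quotient.liftOn' q (fun c => MulAut.conjNormal c t')
    (fun c₁ c₂ h => hwd c₁ c₂ (QuotientGroup.leftRel_apply.1 h))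
  have hf : ∀ c : C, f (c : C ⧸ K) = MulAut.conjNormal c t' := fun c => rfl
  have hfs : ∀ (c : C) (q : C ⧸ K), f (c • q) = MulAut.conjNormal c (f q) := by
    intro c q
    induction q using QuotientGroup.induction_on with
    | H g =>
      rw [hf]
      show f ((c * g : C) : C ⧸ K) = _
      rw [hf, map_mul]
      rfl
  set P : omegaZ C := ∏ q : C ⧸ K, f q with hP
  have hPfix : ∀ c : C, MulAut.conjNormal c P = P := by
    intro c
    rw [hP, map_prod]
    refine Fintype.prod_equiv (MulAction.toPerm c) _ _ fun q => ?_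
    rw [MulAction.toPerm_apply, hfs]
  have htm : t' ^ Fintype.card (C ⧸ K) = t' := by
    have h1 : Fintype.card (C ⧸ K) = K.index := by rw [Subgroup.index, Nat.card_eq_fintype_card]
    obtain ⟨k, hk⟩ := hodd
    rw [h1, hk, pow_succ, pow_mul]
    have h2 : t' ^ 2 = 1 := by
      rw [pow_two]
      exact Subtype.ext ht2
    rw [h2, one_pow, one_mul]
  have hPv : P = t' * ∏ q : C ⧸ K, (t'⁻¹ * f q) := by
    have h1 : P = ∏ q : C ⧸ K, (t' * (t'⁻¹ * f q)) := by
      rw [hP]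
      refine Finset.prod_congr rfl fun q _ => ?_
      rw [mul_inv_cancel_left]
    rw [h1, Finset.prod_mul_distrib, Finset.prod_const, Finset.card_univ, htm]
  set v' : omegaZ C := ∏ q : C ⧸ K, (t'⁻¹ * f q) with hv'
  have hvN : v' ∈ N.subgroupOf (omegaZ C) := by
    rw [hv']
    refine Subgroup.prod_mem _ fun q _ => ?_
    induction q using QuotientGroup.induction_on with
    | H g =>
      rw [hf, mem_subgroupOf]
      show t⁻¹ * (g * t * g⁻¹) ∈ N
      have h1 := hN g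
      have h2 := hNn.conj_mem _ h1 t⁻¹
      have h3 : t⁻¹ * (g * t * g⁻¹ * t⁻¹) * t⁻¹⁻¹ = t⁻¹ * (g * t * g⁻¹) := by group
      rwa [h3] at h2
  obtain ⟨h1, h2, h3⟩ := mem_omegaZ.1 v'.2
  refine ⟨v', hvN, h1, h2, fun c => ?_⟩
  have h4 : c * (P : C) * c⁻¹ = P := by
    have := congrArg Subtype.val (hPfix c)
    rwa [MulAut.conjNormal_apply] at this
  have h5 : (P : C) = t * v' := congrArg Subtype.val hPv
  rw [h5] at h4
  exact mul_inv_eq_iff_eq_mul.1 h4

/-- The general version. -/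
theorem exists_central_mod [Finite C] [Group.IsSolvable C] (S : Sylow 2 C) {t : C} (ht : t ∈ (S : Subgroup C))
    (ht2 : t * t = 1) (htS : ∀ s ∈ (S : Subgroup C), s * t = t * s) (N : Subgroup C) (hNn : N.Normal)
    (hXN : pPrimeCore 2 C ≤ N) (hN : ∀ c : C, c * t * c⁻¹ * t⁻¹ ∈ N) :
    ∃ v ∈ N, v ∈ (S : Subgroup C) ∧ v * v = 1 ∧ (∀ s ∈ (S : Subgroup C), s * v = v * s) ∧
      ∀ c : C, c * (t * v) * c⁻¹ * (t * v)⁻¹ ∈ pPrimeCore 2 C := by
  have h2 : Fact (Nat.Prime 2) := ⟨Nat.prime_two⟩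
  have hXn : (pPrimeCore 2 C).Normal := Cfsg.Agent.Lib.Cores.pPrimeCore_normal 2
  set X := pPrimeCore 2 C with hX
  set π := QuotientGroup.mk' X with hπ
  have hπs : Function.Surjective π := QuotientGroup.mk'_surjective X
  have hcop : (Nat.card X).Coprime 2 := Cfsg.Agent.Lib.Cores.pPrimeCore_coprime 2
  -- `S ∩ X = 1`
  have hSX : ∀ s ∈ (S : Subgroup C), s ∈ X → s = 1 := by
    intro s hs hsX
    obtain ⟨k, hk⟩ := IsPGroup.iff_orderOf.1 S.isPGroup' ⟨s, hs⟩
    rw [Subgroup.orderOf_mk] at hk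
    have h3 : orderOf s ∣ Nat.card X := by
      rw [← Subgroup.orderOf_mk s hsX]
      exact _root_.orderOf_dvd_natCard _
    rw [hk] at h3
    rcases Nat.eq_zero_or_pos k with rfl | hk0
    · rwa [pow_zero, orderOf_eq_one_iff] at hk
    · exfalso
      have h4 : 2 ∣ Nat.card X := (dvd_pow_self 2 hk0.ne').trans h3
      have h5 := Nat.Coprime.coprime_dvd_left h4 hcop
      norm_num at h5
  have hsol : Group.IsSolvable (C ⧸ X) := inferInstance
  have hcore : pPrimeCore 2 (C ⧸ X) = ⊥ := Cfsg.Agent.Lib.Cores.pPrimeCore_quotient_pPrimeCore 2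
  have hcc := Cfsg.Agent.Lib.HallHigman.centralizer_pCore_le_of_solvable (G := C ⧸ X) 2 hcore
  set T : Sylow 2 (C ⧸ X) := S.mapSurjective hπs with hT
  have hTmem : ∀ y, y ∈ (T : Subgroup (C ⧸ X)) ↔ ∃ s ∈ (S : Subgroup C), π s = y := by
    intro y
    rfl
  have hNn' : (N.map π).Normal := hNn.map π hπs
  obtain ⟨v, hvN, hvQ, hv2, hvc⟩ := exists_central T hcc (t := π t) (by rw [← map_mul, ht2, map_one])
    (by
      rintro _ ⟨s, hs, rfl⟩
      have := congrArg π (htS s hs)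
      rwa [map_mul, map_mul] at this) (N.map π)
    (by
      intro c
      obtain ⟨c, rfl⟩ := hπs c
      exact ⟨_, hN c, by simp only [map_mul, map_inv]⟩)
  obtain ⟨s, hs, hsv⟩ := (hTmem v).1 (Cfsg.Agent.Lib.Cores.pCore_le_sylow T hvQ)
  have hkey : ∀ c : C, c * (t * s) * c⁻¹ * (t * s)⁻¹ ∈ X := by
    intro c
    have h3 := hvc (π c)
    rw [← hsv] at h3
    rw [← QuotientGroup.eq_one_iff]
    show π (c * (t * s) * c⁻¹ * (t * s)⁻¹) = 1
    simp only [map_mul, map_inv]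
    rw [h3]
    group
  refine ⟨s, ?_, hs, ?_, ?_, hkey⟩
  · obtain ⟨n, hn, hnv⟩ := hvN
    have h3 : π (n⁻¹ * s) = 1 := by rw [map_mul, map_inv, hnv, hsv, inv_mul_cancel]
    have h4 : n⁻¹ * s ∈ X := (QuotientGroup.eq_one_iff _).1 h3
    have h5 := N.mul_mem hn (hXN h4)
    rwa [mul_inv_cancel_left] at h5
  · apply hSX _ ((S : Subgroup C).mul_mem hs hs)
    rw [← QuotientGroup.eq_one_iff]
    show π (s * s) = 1
    rw [map_mul, hsv, hv2]
  · intro y hy
    have h3 : y * (t * s) * y⁻¹ * (t * s)⁻¹ = 1 := by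
      refine hSX _ ?_ (hkey y)
      exact mul_mem (mul_mem (mul_mem hy (mul_mem ht hs)) (inv_mem hy)) (inv_mem (mul_mem ht hs))
    have h4 : y * (t * s) = t * s * y := by
      rw [mul_inv_eq_one, mul_inv_eq_iff_eq_mul] at h3
      exact h3
    have h5 : t * (y * s) = t * (s * y) := by
      rw [← mul_assoc, ← htS y hy, mul_assoc, h4, mul_assoc]
    exact mul_left_cancel h5

end

end Cfsg.Agent.H444.CentralMod
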