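import Cfsg.Agent.H444.FprMU
import Cfsg.Agent.H444.FprGrow
import Cfsg.Agent.H444.FprB
import Cfsg.Agent.H444.FprM

/-!
# The sharp rows `p = 3, 5, 7, 11, 23` of the table of fixed point ratios for `B` and `M` (helper444)
-/

set_option autoImplicit false
open Subgroup MulAction
open scoped Pointwise

namespace Cfsg.Agent.H444.FprBM

open Cfsg.Agent.H398.FPR (UGood)
open Cfsg Cfsg.Agent.SporadicA.GolayBase
open Cfsg.Agent.H444.FprMtt
open Cfsg.Agent.H444.FprConway (f1 f1_one exists_two orderOf_image)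
open Cfsg.Agent.H940.Eng (Base)
open Cfsg.Agent.H409 (FprRow)
open Cfsg.Spor (Co1)

/-! ### products of order 11 -/

theorem q3 : ∀ p : GolayPt, ((X3 * (Y5 * X3 * Y5⁻¹)) ^ 11) p = p := by decide +kernel
theorem q3' : (X3 * (Y5 * X3 * Y5⁻¹)) (pt 0) ≠ pt 0 ∨ (X3 * (Y5 * X3 * Y5⁻¹)) (pt 1) ≠ pt 1 := by decide +kernel
theorem q7 : ∀ p : GolayPt, ((X7 * (V3 ^ 2 * X7 * (V3 ^ 2)⁻¹)) ^ 11) p = p := by decide +kernel
theorem q7' : (X7 * (V3 ^ 2 * X7 * (V3 ^ 2)⁻¹)) (pt 0) ≠ pt 0 ∨ (X7 * (V3 ^ 2 * X7 * (V3 ^ 2)⁻¹)) (pt 1) ≠ pt 1 := by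
  decide +kernel

theorem prod3 : (x3 * (y5 * x3 * y5⁻¹)) ^ 11 = 1 ∧ x3 * (y5 * x3 * y5⁻¹) ≠ 1 := by
  refine ⟨ext' fun p => by simp only [map_mul, map_inv, map_pow, map_one]; exact q3 p, ?_⟩
  rcases q3' with h | h
  · apply ne_one_of (p := pt 0)
    simp only [map_mul, map_inv]
    exact h
  · apply ne_one_of (p := pt 1)
    simp only [map_mul, map_inv]
    exact h

theorem prod7 : (x7 * (v3 ^ 2 * x7 * (v3 ^ 2)⁻¹)) ^ 11 = 1 ∧ x7 * (v3 ^ 2 * x7 * (v3 ^ 2)⁻¹) ≠ 1 := by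
  refine ⟨ext' fun p => by simp only [map_mul, map_inv, map_pow, map_one]; exact q7 p, ?_⟩
  rcases q7' with h | h
  · apply ne_one_of (p := pt 0)
    simp only [map_mul, map_inv, map_pow]
    exact h
  · apply ne_one_of (p := pt 1)
    simp only [map_mul, map_inv, map_pow]
    exact h

theorem image {L : Type*} [Group L] (f : MS →* L) (hf : ∀ (n : ℕ) (y : MS), Odd n → y ^ n = 1 → f y = 1 → y = 1) :
    (orderOf (f x3) = 3 ∧ ∃ g : L, orderOf (f x3 * (g * f x3 * g⁻¹)) = 11) ∧ orderOf (f x5) = 5 ∧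
    (orderOf (f x7) = 7 ∧ ∃ g : L, orderOf (f x7 * (g * f x7 * g⁻¹)) = 11) ∧ orderOf (f y5) = 11 := by
  have h11 : Fact (Nat.Prime 11) := ⟨by norm_num⟩
  refine ⟨⟨orderOf_image f (by norm_num) e3 fun h => x3_ne (hf 3 _ (by decide) e3 h), f y5, ?_⟩,
    orderOf_image f (by norm_num) e5 fun h => x5_ne (hf 5 _ (by decide) e5 h),
    ⟨orderOf_image f (by norm_num) e7 fun h => x7_ne (hf 7 _ (by decide) e7 h), f (v3 ^ 2), ?_⟩,
    orderOf_image f (by norm_num) eY5 fun h => y5_ne (hf 11 _ (by decide) eY5 h)⟩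
  · rw [← map_inv, ← map_mul, ← map_mul, ← map_mul]
    exact orderOf_eq_prime (by rw [← map_pow, prod3.1, map_one]) fun h =>
      prod3.2 (hf 11 _ (by decide) prod3.1 h)
  · rw [← map_inv, ← map_mul, ← map_mul, ← map_mul]
    exact orderOf_eq_prime (by rw [← map_pow, prod7.1, map_one]) fun h =>
      prod7.2 (hf 11 _ (by decide) prod7.1 h)

theorem pow_of {r b k : ℕ} (hk : b ≤ 2 ^ k) (h : ∀ j < k, 0 < j → 2 ^ j % r ≠ 1) :
    ∀ j : ℕ, 0 < j → 2 ^ j % r = 1 → b ≤ 1 * 2 ^ j := by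
  intro j h0 h1
  have h2 : k ≤ j := by
    by_contra hlt
    exact h j (not_le.1 hlt) h0 h1
  rw [one_mul]
  exact hk.trans (Nat.pow_le_pow_right (by norm_num) h2)

/-! ### the Baby Monster -/

section Baby

open Cfsg.Agent.BabyM Cfsg.Agent.BabyM.Model Cfsg.Agent.KFacts.AutLarge Cfsg.Agent.BabyU.ClosModel
open Cfsg.Agent.BabyU.ClosLane Cfsg.Agent.KFacts

theorem row_of_b {p : ℕ} (hp : p.Prime) (hp2 : p ≠ 2) {a b : ℕ} (hle : a ≤ b) (hb : 0 < b)
    {x : Spor.Co2} (hx : orderOf x = p) (hU : UGood a b x)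
    (hc : (∀ j : ℕ, 0 < j → 2 ^ j % p = 1 → b ≤ a * 2 ^ j) ∨
      (b ≤ 32 * a ∧ ∃ g : Spor.Co2, orderOf (x * (g * x * g⁻¹)) = 11)) {c d : ℕ}
    (hn : ∀ n : ℕ, 47 ≤ n → c * (a * n + (b - a)) ≤ b * (d * n)) : FprRow c d p Inst.M.G := by
  have := A.finite_G
  have hs : IsSimpleGroup Inst.M.G := A.simple
  obtain ⟨π, hπs, hπ⟩ := Baby.Inst.quot A
  obtain ⟨e⟩ := Schreier.CoTwoStab.exists_equiv _ GroupInst.dt_l₀
  have ho : ∀ x : Spor.Co2, orderOf (e.symm x) = orderOf x := fun x =>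
    orderOf_injective e.symm.toMonoidHom e.symm.injective x
  refine H444.FprGrow.row (Baby.Inst.large A) (Baby.Inst.irr' A) π hπ (Baby.Inst.odd_index A) hπs hp hp2
    (y := e.symm x) (by rw [ho, hx]) hle hb ?_ ?_ ?_
  · exact hU.of_surjective (f := e.symm.toMonoidHom) e.symm.surjective
  · rcases hc with hc | ⟨hc, g, hg⟩
    · exact Or.inl hc
    · refine Or.inr ⟨hc, e.symm g, ?_⟩
      rw [← map_inv, ← map_mul, ← map_mul, ← map_mul, ho, hg]
  · intro H hH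
    have h1 := Cfsg.Agent.H394.SqBasic.le_index_of_prime_dvd hH (p := 47) (by norm_num)
      (by rw [A.card_G]; norm_num)
    exact hn _ h1

theorem row_b (B : Base) {p : ℕ} (hp : p = 3 ∨ p = 5 ∨ p = 7 ∨ p = 11 ∨ p = 23) : FprRow (p + 1) 1 p Inst.M.G := by
  obtain ⟨f, hf, h3, h5, h7, h11⟩ := FprMU.co2 B
  obtain ⟨⟨i3, j3⟩, i5, ⟨i7, j7⟩, i11⟩ := image f fun n y _ _ h => hf y h
  rcases hp with rfl | rfl | rfl | rfl | rfl
  · exact row_of_b (by norm_num) (by norm_num) (by norm_num) (by norm_num) i3 h3 (Or.inr ⟨by norm_num, j3⟩)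
      fun n hn => by omega
  · exact row_of_b (by norm_num) (by norm_num) (by norm_num) (by norm_num) i5 h5
      (Or.inl (pow_of (k := 3) (by norm_num) (by decide))) fun n hn => by omega
  · exact row_of_b (by norm_num) (by norm_num) (by norm_num) (by norm_num) i7 h7 (Or.inr ⟨by norm_num, j7⟩)
      fun n hn => by omega
  · exact row_of_b (by norm_num) (by norm_num) (by norm_num) (by norm_num) i11 h11
      (Or.inl (pow_of (k := 5) (by norm_num) (by decide))) fun n hn => by omega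
  · have := Cfsg.Agent.H49.CoStab.finite_co2
    have h23 : Fact (Nat.Prime 23) := ⟨by norm_num⟩
    obtain ⟨y, hy⟩ := exists_prime_orderOf_dvd_card' (G := Spor.Co2) 23
      (by rw [Cfsg.Agent.H435.Fpr.CoTwo.card_co2]; norm_num)
    exact row_of_b (by norm_num) (by norm_num) (by norm_num) (by norm_num) hy (FprMU.co2_23 B hy)
      (Or.inl (pow_of (k := 7) (by norm_num) (by decide))) fun n hn => by omega

universe u in
/-- **`FprRow (p + 1) 1 p`, `p = 3, 5, 7, 11, 23`, for the Baby Monster** -/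
theorem rowIsoB (B : Base) {S : Type u} [Group S] [IsSimpleGroup S] (h : Spor.IsoB S) {p : ℕ}
    (hp : p = 3 ∨ p = 5 ∨ p = 7 ∨ p = 11 ∨ p = 23) : FprRow (p + 1) 1 p S := by
  have := A.finite_G
  obtain ⟨e⟩ := Baby.Sheet.exists_iso_of_isoB h
  exact (row_b B hp).of_mulEquiv (by rcases hp with rfl | rfl | rfl | rfl | rfl <;> norm_num) e

end Baby

/-! ### the Monster -/

section Monster

open Cfsg.Agent.H444.FprM Cfsg.Agent.MonsterX

theorem row_of_m {p : ℕ} (hp : p.Prime) (hp2 : p ≠ 2) {a b : ℕ} (hle : a ≤ b) (hb : 0 < b)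
    {x : Co1} (hx : orderOf x = p) (hU : UGood a b x)
    (hc : (∀ j : ℕ, 0 < j → 2 ^ j % p = 1 → b ≤ a * 2 ^ j) ∨
      (b ≤ 32 * a ∧ ∃ g : Co1, orderOf (x * (g * x * g⁻¹)) = 11)) {c d : ℕ}
    (hn : ∀ n : ℕ, 71 ≤ n → c * (a * n + (b - a)) ≤ b * (d * n)) : FprRow c d p MG := by
  have := FprM.finite
  obtain ⟨Q, z, π, D⟩ := exists_data
  exact H444.FprGrow.row D.large D.irr π D.ker D.odd D.surj hp hp2 hx hle hb hU hc fun H hH => hn _ (FprM.idx hH)

theorem row_m (B : Base) {p : ℕ} (hp : p = 3 ∨ p = 5 ∨ p = 7 ∨ p = 11 ∨ p = 23) : FprRow (p + 1) 1 p MG := by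
  obtain ⟨h3, h5, h7, h11⟩ := FprMU.co1 B
  obtain ⟨⟨i3, j3⟩, i5, ⟨i7, j7⟩, i11⟩ := image f1 fun n y h0 h1 h => f1_one h0 h1 h
  rcases hp with rfl | rfl | rfl | rfl | rfl
  · exact row_of_m (by norm_num) (by norm_num) (by norm_num) (by norm_num) i3 h3 (Or.inr ⟨by norm_num, j3⟩)
      fun n hn => by omega
  · exact row_of_m (by norm_num) (by norm_num) (by norm_num) (by norm_num) i5 h5
      (Or.inl (pow_of (k := 3) (by norm_num) (by decide))) fun n hn => by omega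
  · exact row_of_m (by norm_num) (by norm_num) (by norm_num) (by norm_num) i7 h7 (Or.inr ⟨by norm_num, j7⟩)
      fun n hn => by omega
  · exact row_of_m (by norm_num) (by norm_num) (by norm_num) (by norm_num) i11 h11
      (Or.inl (pow_of (k := 5) (by norm_num) (by decide))) fun n hn => by omega
  · have := BpSpor.MBigCo.finite_co1
    have h23 : Fact (Nat.Prime 23) := ⟨by norm_num⟩
    obtain ⟨y, hy⟩ := exists_prime_orderOf_dvd_card' (G := Co1) 23
      (by rw [BpSpor.MBigCo.card_co1]; norm_num)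
    exact row_of_m (by norm_num) (by norm_num) (by norm_num) (by norm_num) hy (FprMU.co1_23 B hy)
      (Or.inl (pow_of (k := 7) (by norm_num) (by decide))) fun n hn => by omega

universe u in
/-- **`FprRow (p + 1) 1 p`, `p = 3, 5, 7, 11, 23`, for the Monster** -/
theorem rowIsoM (B : Base) {S : Type u} [Group S] (h : Spor.IsoM S) {p : ℕ}
    (hp : p = 3 ∨ p = 5 ∨ p = 7 ∨ p = 11 ∨ p = 23) : FprRow (p + 1) 1 p S := by
  have := FprM.finite
  obtain ⟨f⟩ := h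
  obtain ⟨g⟩ := MonsterP.Equiv.equiv
  exact (row_m B hp).of_mulEquiv (by rcases hp with rfl | rfl | rfl | rfl | rfl <;> norm_num) (f.trans g).symm

end Monster

end Cfsg.Agent.H444.FprBM
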