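import Cfsg.Agent.H444.FprMChain
import Cfsg.Agent.H444.FprBM
import Cfsg.Agent.H433.Fpr.Fi23
import Cfsg.Agent.H843.FullB3

/-!
# The sharp row `p = 13` of the Baby Monster (helper444)

* `fix_le` : elements of the same prime order `p`, `p ^ 2 ∤ |S|`, have the same number of fixed points;
* `uGood` : `UGood 1 25 x` for `x ∈ Fi23` of order 13;
* `chain` : a row of `S` from a subgroup `L` and a row of another prime of `S`;
* `rowIso` : `FprRow 14 1 13` for the Baby Monster.
-/

set_option autoImplicit false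
open Subgroup MulAction

namespace Cfsg.Agent.H444.FprBThirteen

open Cfsg
open Cfsg.Agent.H398.FPR (UGood)
open Cfsg.Agent.H409 (FprRow)
open Cfsg.Agent.H940.Eng (Base)

theorem fix_le {S : Type*} [Group S] [Finite S] {p : ℕ} (hp : p.Prime) (h2 : ¬ p ^ 2 ∣ Nat.card S) (H : Subgroup S)
    {x y : S} (hx : orderOf x = p) (hy : orderOf y = p) :
    Nat.card (fixedBy (S ⧸ H) x) ≤ Nat.card (fixedBy (S ⧸ H) y) := by
  obtain ⟨g, hg⟩ := Cfsg.Agent.H940.Eng.exists_conj_le hp h2 (R := zpowers y) (by rw [Nat.card_zpowers, hy])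
    (L := zpowers x) (by rw [Nat.card_zpowers, hx])
  have h3 : g * y * g⁻¹ ∈ zpowers x := hg ⟨y, mem_zpowers y, rfl⟩
  obtain ⟨k, hk⟩ := mem_zpowers_iff.1 h3
  have h4 : Nat.card (fixedBy (S ⧸ H) (g * y * g⁻¹)) = Nat.card (fixedBy (S ⧸ H) y) := by
    have h5 := Cfsg.Agent.H715.Fpr.card_fixedBy_conj H y g⁻¹
    rw [inv_inv] at h5
    exact h5
  rw [← h4, ← hk, Nat.card_coe_set_eq, Nat.card_coe_set_eq]
  refine Set.ncard_le_ncard ?_ (Set.toFinite _)
  intro w hw
  have h6 : x ∈ stabilizer S w := hw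
  exact mem_stabilizer_iff.1 (zpow_mem h6 k)

theorem fi23_idx (B : Base) {H : Subgroup Spor.Fi23} (hH : H ≠ ⊤) : 900 ≤ H.index := by
  rcases FprMU.idx_of (Cfsg.Agent.H433.Fpr.Fi23.ctx B) (K := 900) (bd := 40) (P := fun _ => false)
    (by decide +kernel) hH with h | h
  · exact absurd h (by decide)
  · exact h

/-- **elements of order 13 of `Fi23`** -/
theorem uGood (B : Base) {x : Spor.Fi23} (hx : orderOf x = 13) : UGood 1 25 x := by
  have := Cfsg.Agent.H961.SepFi23.fin
  intro H hH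
  change 25 * _ ≤ 1 * H.index
  have h1 : 13 * Nat.card (fixedBy (Spor.Fi23 ⧸ H) x) ≤ 468 := Cfsg.Agent.H715.Fpr.fix_prime_all (p := 13) (by norm_num) (by rw [Cfsg.Agent.H961.SepFi23.card]; decide)
    (N := 468) (fun R hR => (Cfsg.Agent.H961.SepFi23.data13 hR).2.le) H hx
  have h2 := fi23_idx B hH
  omega

/-- **a row of `S` from a subgroup `L` and a row of another prime of `S`** -/
theorem chain {S L : Type*} [Group S] [Finite S] [Group L] (f : L →* S) (hf : Function.Injective f) {p q a b c : ℕ}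
    (hq : q.Prime) (h2 : ¬ q ^ 2 ∣ Nat.card S) {x u : L} (hx : orderOf x = p) (hu : orderOf u = q) (hU : UGood a b x)
    (hb : 0 < b) (hc : 1 < c) (hR : FprRow c 1 q S) (hn : (p + 1) * (a * c + b) ≤ b * c) : FprRow (p + 1) 1 p S := by
  intro H hH
  obtain ⟨v, ⟨k, hk⟩, hv⟩ := hR H hH
  have hpos : 0 < Nat.card (S ⧸ H) := Nat.card_pos
  have hk1 : k = 1 := by
    rcases Nat.lt_or_ge k 1 with h0 | h0
    · obtain rfl : k = 0 := by omega
      rw [pow_zero, orderOf_eq_one_iff] at hk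
      rw [hk] at hv
      have h3 : fixedBy (S ⧸ H) (1 : S) = Set.univ := by
        ext w
        exact ⟨fun _ => trivial, fun _ => one_smul S w⟩
      rw [h3, Nat.card_congr (Equiv.Set.univ (S ⧸ H))] at hv
      have h4 := Nat.le_of_mul_le_mul_right hv hpos
      omega
    · by_contra hne
      apply h2
      refine (pow_dvd_pow q (show 2 ≤ k by omega)).trans ?_
      rw [← hk]
      exact orderOf_dvd_natCard v
  rw [hk1, pow_one] at hk
  have hfu : orderOf (f u) = q := by rw [← hu]; exact orderOf_injective f hf u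
  have hfx : orderOf (f x) = p := by rw [← hx]; exact orderOf_injective f hf x
  have h5 := fix_le hq h2 H hfu hk
  let e : L ≃* f.range := MonoidHom.ofInjective hf
  have hee : ∀ l : L, ((e l : f.range) : S) = f l := fun l => rfl
  have h6 := FprMChain.bound_quot e.symm.toMonoidHom e.symm.surjective (x := e x)
    (by
      show UGood a b (e.symm (e x))
      rw [e.symm_apply_apply]
      exact hU) (X := S ⧸ H)
  have h7 : {ω : S ⧸ H | (stabilizer f.range ω).map e.symm.toMonoidHom = ⊤}.ncard ≤ Nat.card (fixedBy (S ⧸ H) (f u)) := by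
    rw [Nat.card_coe_set_eq]
    refine Set.ncard_le_ncard ?_ (Set.toFinite _)
    intro ω hω
    have h8 : u ∈ (stabilizer f.range ω).map e.symm.toMonoidHom := by
      rw [show (stabilizer f.range ω).map e.symm.toMonoidHom = ⊤ from hω]
      trivial
    obtain ⟨s, hs, hs2⟩ := h8
    have h9 : s = e u := by
      rw [← hs2]
      exact (e.apply_symm_apply s).symm
    rw [h9] at hs
    exact hs
  have h10 : Nat.card (fixedBy (S ⧸ H) (e x)) = Nat.card (fixedBy (S ⧸ H) (f x)) := rfl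
  rw [h10] at h6
  refine ⟨f x, ⟨1, by rw [pow_one, hfx]⟩, ?_⟩
  set n := Nat.card (S ⧸ H)
  set F := Nat.card (fixedBy (S ⧸ H) (f x))
  set Φ := {ω : S ⧸ H | (stabilizer f.range ω).map e.symm.toMonoidHom = ⊤}.ncard
  have h11 : c * Φ ≤ n := by
    calc c * Φ ≤ c * Nat.card (fixedBy (S ⧸ H) v) := Nat.mul_le_mul_left _ (h7.trans h5)
      _ ≤ 1 * n := hv
      _ = n := one_mul n
  have hbc : 0 < b * c := Nat.mul_pos hb (by omega)
  apply Nat.le_of_mul_le_mul_left _ hbc
  calc b * c * ((p + 1) * F) = (p + 1) * (c * (b * F)) := by ring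
    _ ≤ (p + 1) * (c * (a * n + b * Φ)) := Nat.mul_le_mul_left _ (Nat.mul_le_mul_left _ h6)
    _ = (p + 1) * (a * c * n + b * (c * Φ)) := by ring
    _ ≤ (p + 1) * (a * c * n + b * n) :=
        Nat.mul_le_mul_left _ (Nat.add_le_add_left (Nat.mul_le_mul_left _ h11) _)
    _ = (p + 1) * (a * c + b) * n := by ring
    _ ≤ b * c * n := Nat.mul_le_mul_right _ hn
    _ = b * c * (1 * n) := by rw [one_mul]

open Cfsg.Agent.BabyM Cfsg.Agent.BabyM.Model Cfsg.Agent.KFacts.AutLarge Cfsg.Agent.BabyU.ClosModel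
  Cfsg.Agent.BabyU.ClosLane Cfsg.Agent.KFacts in
theorem row23 (B : Base) : FprRow 32 1 23 Inst.M.G := by
  have := Cfsg.Agent.H49.CoStab.finite_co2
  have h23 : Fact (Nat.Prime 23) := ⟨by norm_num⟩
  obtain ⟨y, hy⟩ := exists_prime_orderOf_dvd_card' (G := Spor.Co2) 23
    (by rw [Cfsg.Agent.H435.Fpr.CoTwo.card_co2]; norm_num)
  exact FprBM.row_of_b (by norm_num) (by norm_num) (by norm_num) (by norm_num) hy (FprMU.co2_23 B hy)
    (Or.inl (FprBM.pow_of (k := 7) (by norm_num) (by decide))) fun n hn => by omega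

open Cfsg.Agent.BabyM Cfsg.Agent.BabyM.Model Cfsg.Agent.KFacts.AutLarge Cfsg.Agent.BabyU.ClosModel
  Cfsg.Agent.BabyU.ClosLane Cfsg.Agent.KFacts in
universe u in
/-- **`FprRow 14 1 13` for the Baby Monster** -/
theorem rowIso (B : Base) {S : Type u} [Group S] (h : Spor.IsoB S) : FprRow 14 1 13 S := by
  have := A.finite_G
  have hc : Nat.card S = 4154781481226426191177580544000000 := by
    obtain ⟨e⟩ := h
    rw [Nat.card_congr e.toEquiv]
    exact BM.KHAll.card_B
  have hfS : Finite S := Nat.finite_of_card_ne_zero (by rw [hc]; norm_num)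
  have hsS : IsSimpleGroup S := by
    obtain ⟨e⟩ := h
    exact (MulEquiv.isSimpleGroup_congr e).2 BM.KHAll.isB.1
  obtain ⟨e⟩ := Baby.Sheet.exists_iso_of_isoB h
  have h1 : FprRow 32 1 23 S := (row23 B).of_mulEquiv (by norm_num) e
  obtain ⟨f, hf⟩ := Cfsg.Agent.H843.FullB3.exists_hom
  obtain ⟨g⟩ := h
  have hfin := Cfsg.Agent.H961.SepFi23.fin
  have h13 : Fact (Nat.Prime 13) := ⟨by norm_num⟩
  have h23 : Fact (Nat.Prime 23) := ⟨by norm_num⟩
  obtain ⟨x, hx⟩ := exists_prime_orderOf_dvd_card' (G := Spor.Fi23) 13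
    (by rw [Cfsg.Agent.H961.SepFi23.card]; decide)
  obtain ⟨u, hu⟩ := exists_prime_orderOf_dvd_card' (G := Spor.Fi23) 23
    (by rw [Cfsg.Agent.H961.SepFi23.card]; decide)
  exact chain (g.symm.toMonoidHom.comp f) (g.symm.injective.comp hf) (q := 23) (by norm_num) (by rw [hc]; norm_num)
    hx hu (uGood B hx) (by norm_num) (by norm_num) h1 (by norm_num)

end Cfsg.Agent.H444.FprBThirteen
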