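import Cfsg.Agent.H444.FprThirteen

/-!
# The rows of `Co1` and `Co2` in the table of fixed point ratios (helper444)
-/

set_option autoImplicit false
open Subgroup MulAction

namespace Cfsg.Agent.H444.FprCo

open Cfsg
open Cfsg.Agent.H398.FPR (UGood)
open Cfsg.Agent.H940.Eng Cfsg.Agent.H940.Eng.D
open Cfsg.Agent.H444.Fpr (Known)
open Cfsg.Agent.H715.Fpr
open Cfsg.Agent.H715.Fpr.MathData (card23 cn23_5)
open Cfsg.Agent.H444.FprMtt (MS x3 x5 x7 y5)
open Cfsg.Agent.H444.FprConway (f1 f1_one exists_two known_co1)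
open Cfsg.Agent.H444.FprMU
open Cfsg.Agent.H409 (FprRow)

theorem row_of_uGood {S : Type*} [Group S] {p a b : ℕ} {x : S} (hx : ∃ k : ℕ, orderOf x = p ^ k) (h : UGood a b x)
    (hab : ∀ m n : ℕ, b * m ≤ a * n → (p + 1) * m ≤ 1 * n) : FprRow (p + 1) 1 p S :=
  fun H hH => ⟨x, hx, hab _ _ (h H hH)⟩

/-- a 2-element of `M23` -/
theorem u2 (B : Base) : ∃ x : Spor.M23, (∃ k : ℕ, orderOf x = 2 ^ k) ∧ UGood 7 23 x := by
  have := M23.fin
  obtain ⟨g, y, hgo, hyo, hyg, hne⟩ : Acts 2 5 Spor.M23 :=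
    acts_of card23 (by decide +kernel) (by decide +kernel) (by decide +kernel) (fun _ hR => cn23_5 hR) 1
      (by decide +kernel)
  refine ⟨y, hyo, ?_⟩
  intro H hH
  obtain ⟨h1, h2⟩ := fix23 (N := 60) (by norm_num) (by decide) (fun R hR => (cn23_5 hR).2) hgo H
  have h3 := idx23 B hH
  have h4 := fix_regular (q := 5) (by norm_num) hgo hyg hne H
  change 5 * _ ≤ H.index + _ at h4
  change 23 * _ ≤ 7 * H.index
  set f := Nat.card (fixedBy (Spor.M23 ⧸ H) y)
  set g' := Nat.card (fixedBy (Spor.M23 ⧸ H) g)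
  rcases h1 with h1 | h1
  · omega
  · have h5 : g' ∣ 12 := Nat.dvd_of_mul_dvd_mul_left (by norm_num : 0 < 5) h1
    have h6 := Nat.le_of_dvd (by norm_num) h5
    have h7 : g' ≠ 8 := by
      intro h
      rw [h] at h5
      revert h5
      decide
    omega

section

variable {G : Type} [Group G] [Finite G] (known : Known G 23 1 11)
  (hidx : ∀ H : Subgroup G, H ≠ ⊤ → H.index % 23 = 0 ∨ 2025 ≤ H.index)
include known hidx

theorem row2 (B : Base) (f : MS →* G) (hf : ∀ y : MS, y ^ 23 = 1 → f y = 1 → y = 1) : FprRow 3 1 2 G := by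
  obtain ⟨x, ⟨k, hk⟩, hU⟩ := u2 B
  have hf' : ∀ y : Spor.M23, y ^ 23 = 1 → (f.comp eM.symm.toMonoidHom) y = 1 → y = 1 := by
    intro y h1 h2
    have h3 := hf (eM.symm y) (by rw [← map_pow, h1, map_one]) h2
    have h4 := congrArg eM h3
    rwa [MulEquiv.apply_symm_apply, map_one] at h4
  intro H hH
  refine ⟨(f.comp eM.symm.toMonoidHom) x, ?_, ?_⟩
  · obtain ⟨m, -, hm⟩ := (Nat.dvd_prime_pow Nat.prime_two).1 (hk ▸ orderOf_map_dvd (f.comp eM.symm.toMonoidHom) x)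
    exact ⟨m, hm⟩
  · obtain ⟨F, h2, h3⟩ := bound known hidx _ hf' hU hH
    omega

theorem row (B : Base) (f : MS →* G) (hf : ∀ (n : ℕ) (y : MS), Odd n → y ^ n = 1 → f y = 1 → y = 1) {p : ℕ}
    (hp : p = 2 ∨ p = 3 ∨ p = 5 ∨ p = 7 ∨ p = 11 ∨ p = 23) : FprRow (p + 1) 1 p G := by
  obtain ⟨h3, h5, h7, h11⟩ := uniform known hidx B f fun y h0 h => hf 23 y (by decide) h0 h
  obtain ⟨⟨i3, -⟩, i5, ⟨i7, -⟩, i11⟩ := FprBM.image f hf
  rcases hp with rfl | rfl | rfl | rfl | rfl | rfl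
  · exact row2 known hidx B f fun y h0 h => hf 23 y (by decide) h0 h
  · exact row_of_uGood ⟨1, by rw [i3, pow_one]⟩ h3 fun m n h => by omega
  · exact row_of_uGood ⟨1, by rw [i5, pow_one]⟩ h5 fun m n h => by omega
  · exact row_of_uGood ⟨1, by rw [i7, pow_one]⟩ h7 fun m n h => by omega
  · exact row_of_uGood ⟨1, by rw [i11, pow_one]⟩ h11 fun m n h => by omega
  · have h23 : Fact (Nat.Prime 23) := ⟨by norm_num⟩
    obtain ⟨y, hy⟩ := exists_prime_orderOf_dvd_card' (G := G) 23 known.dvd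
    exact row_of_uGood ⟨1, by rw [hy, pow_one]⟩ (twentythree known hidx hy) fun m n h => by omega

end

theorem row_co1 (B : Base) {p : ℕ} (hp : p.Prime) (hd : p ∣ Nat.card Spor.Co1) : FprRow (p + 1) 1 p Spor.Co1 := by
  have := BpSpor.MBigCo.finite_co1
  have h1 := valid_mem v_co1 hp (by rw [BpSpor.MBigCo.card_co1] at hd; exact hd)
  have h2 : p = 13 ∨ (p = 2 ∨ p = 3 ∨ p = 5 ∨ p = 7 ∨ p = 11 ∨ p = 23) := by
    simp only [l_co1, List.map_cons, List.map_nil, List.mem_cons, List.not_mem_nil, or_false] at h1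
    omega
  rcases h2 with rfl | h2
  · have h13 : Fact (Nat.Prime 13) := ⟨by norm_num⟩
    obtain ⟨y, hy⟩ := exists_prime_orderOf_dvd_card' (G := Spor.Co1) 13 hd
    exact row_of_uGood ⟨1, by rw [hy, pow_one]⟩ (FprThirteen.uGood B hy) fun m n h => by omega
  · exact row known_co1 (fun H hH => (idx1 B hH).imp id (fun h => by omega)) B f1
      (fun n y h0 h1 h => f1_one h0 h1 h) h2

theorem row_co2 (B : Base) {p : ℕ} (hp : p.Prime) (hd : p ∣ Nat.card Spor.Co2) : FprRow (p + 1) 1 p Spor.Co2 := by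
  have := Cfsg.Agent.H49.CoStab.finite_co2
  have h1 := valid_mem v_co2 hp (by rw [Cfsg.Agent.H49.CoStab.card_co2] at hd; exact hd)
  have h2 : p = 2 ∨ p = 3 ∨ p = 5 ∨ p = 7 ∨ p = 11 ∨ p = 23 := by
    simp only [l_co2, List.map_cons, List.map_nil, List.mem_cons, List.not_mem_nil, or_false] at h1
    omega
  obtain ⟨f, hf⟩ := exists_two
  exact row Cfsg.Agent.H435.Fpr.CoTwo.known (fun H hH => idx2 B hH) B f (fun n y _ _ h => hf y h) h2

universe u

/-- **the rows of `Co1`** -/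
theorem rowIso1 (B : Base) {S : Type u} [Group S] (h : Cfsg.Spor.IsoCo1 S) {p : ℕ} (hp : p.Prime)
    (hd : p ∣ Nat.card S) : FprRow (p + 1) 1 p S := by
  obtain ⟨e⟩ := h
  have := BpSpor.MBigCo.finite_co1
  exact (row_co1 B hp (by rw [← Nat.card_congr e.toEquiv]; exact hd)).of_mulEquiv hp e.symm

/-- **the rows of `Co2`** -/
theorem rowIso2 (B : Base) {S : Type u} [Group S] (h : Cfsg.Spor.IsoCo2 S) {p : ℕ} (hp : p.Prime)
    (hd : p ∣ Nat.card S) : FprRow (p + 1) 1 p S := by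
  obtain ⟨e⟩ := h
  have := Cfsg.Agent.H49.CoStab.finite_co2
  exact (row_co2 B hp (by rw [← Nat.card_congr e.toEquiv]; exact hd)).of_mulEquiv hp e.symm

end Cfsg.Agent.H444.FprCo
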