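import Cfsg.Agent.H444.FprMIdx
import Cfsg.Agent.H241.NHMonF
import Cfsg.Agent.H715.Fpr.Row2
import Cfsg.Agent.H858.NormC

/-!
# The large primes of the Monster: `FprRow (p + 1) 1 p` from bounds for centralizers (helper444)

* `row_of_cent` : `(p + 1) (p - 1) c ≤ 196883`, `|C(y)| ≤ c p`;
* `row_seventeen` : `p = 17`, from the theorem of Feit and Thompson (`Three`).
-/

set_option autoImplicit false
open Subgroup MulAction

namespace Cfsg.Agent.H444.FprMBig

open Cfsg Cfsg.Agent.H444.FprM Cfsg.Agent.MonsterX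
open Cfsg.Agent.H409 (FprRow)

/-- fixed points of elements of order `p` -/
theorem fix_of_cent {p c : ℕ} (hp : p.Prime) (h2 : ¬ p ^ 2 ∣ 808017424794512875886459904961710757005754368000000000)
    (hc : ∀ y : MG, orderOf y = p → Nat.card (centralizer ({y} : Set MG)) ≤ c * p) (H : Subgroup MG) {x : MG}
    (hx : orderOf x = p) : Nat.card (fixedBy (MG ⧸ H) x) ≤ (p - 1) * c := by
  have := FprM.finite
  have hN : ∀ R : Subgroup MG, Nat.card R = p → Nat.card (normalizer (R : Set MG)) ≤ p * ((p - 1) * c) := by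
    intro R hR
    obtain ⟨j, hj, h3⟩ := Cfsg.Agent.H858.NormC.exists_card_normalizer_prime hp hR
    have := Fact.mk hp
    obtain ⟨z, hz⟩ := exists_prime_orderOf_dvd_card' (G := R) p (by rw [hR])
    have hz' : orderOf (z : MG) = p := by rw [Subgroup.orderOf_coe, hz]
    have h4 : R = zpowers (z : MG) := by
      refine (Subgroup.eq_of_le_of_card_ge (by rw [zpowers_le]; exact z.2) ?_).symm
      rw [Nat.card_zpowers, hz', hR]
    have h5 : centralizer (R : Set MG) ≤ centralizer ({(z : MG)} : Set MG) :=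
      centralizer_le (by rw [Set.singleton_subset_iff]; exact z.2)
    have h6 : Nat.card (centralizer (R : Set MG)) ≤ c * p := (Subgroup.card_le_of_le h5).trans (hc _ hz')
    calc Nat.card (normalizer (R : Set MG)) = j * Nat.card (centralizer (R : Set MG)) := h3
      _ ≤ (p - 1) * (c * p) := Nat.mul_le_mul (Nat.le_of_dvd (by have := hp.two_le; omega) hj) h6
      _ = p * ((p - 1) * c) := by ring
  exact Nat.le_of_mul_le_mul_left
    (Cfsg.Agent.H715.Fpr.fix_prime_all hp (by rw [card_M]; exact h2) hN H hx) hp.pos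

theorem row_of_cent {p c : ℕ} (hp : p.Prime) (hd : p ∣ 808017424794512875886459904961710757005754368000000000)
    (h2 : ¬ p ^ 2 ∣ 808017424794512875886459904961710757005754368000000000)
    (hc : ∀ y : MG, orderOf y = p → Nat.card (centralizer ({y} : Set MG)) ≤ c * p)
    (hn : (p + 1) * ((p - 1) * c) ≤ 196883) : FprRow (p + 1) 1 p MG := by
  intro H hH
  have := FprM.finite
  have := Fact.mk hp
  obtain ⟨x, hx⟩ := exists_prime_orderOf_dvd_card' (G := MG) p (by rw [card_M]; exact hd)
  refine ⟨x, ⟨1, by rw [hx, pow_one]⟩, ?_⟩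
  calc (p + 1) * Nat.card (fixedBy (MG ⧸ H) x) ≤ (p + 1) * ((p - 1) * c) :=
        Nat.mul_le_mul_left _ (fix_of_cent hp h2 hc H hx)
    _ ≤ 1 * Nat.card (MG ⧸ H) := by rw [one_mul]; exact hn.trans (FprMIdx.idx hH)

/-- the fixed points of elements of order 17 -/
theorem fix_seventeen (h3 : Cfsg.Agent.H241.NH.Three.{0}) (H : Subgroup MG) {x : MG} (hx : orderOf x = 17) :
    Nat.card (fixedBy (MG ⧸ H) x) ≤ 2688 :=
  fix_of_cent (p := 17) (c := 168) (by norm_num) (by norm_num)
    (fun y hy => Nat.le_of_dvd (by norm_num) (Cfsg.Agent.H241.Mon.card_seventeen h3 hy)) H hx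

theorem row_seventeen (h3 : Cfsg.Agent.H241.NH.Three.{0}) : FprRow 18 1 17 MG :=
  row_of_cent (c := 168) (by norm_num) (by norm_num) (by norm_num)
    (fun y hy => Nat.le_of_dvd (by norm_num) (Cfsg.Agent.H241.Mon.card_seventeen h3 hy)) (by norm_num)

theorem transfer {a b p : ℕ} (hp : p.Prime) (h : FprRow a b p MG) {S : Type*} [Group S] (hS : Spor.IsoM S) :
    FprRow a b p S := by
  have := FprM.finite
  obtain ⟨f⟩ := hS
  obtain ⟨g⟩ := MonsterP.Equiv.equiv
  exact h.of_mulEquiv hp (f.trans g).symm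

end Cfsg.Agent.H444.FprMBig
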