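import Cfsg.Agent.H444.FprMBig
import Cfsg.Agent.H436.MonLoc

/-!
# From the Baby Monster to the Monster (helper444)

* `bound_quot` : `f : K → L` surjective, `UGood a b (f x)`: `b fix(x) ≤ a |X| + b |Φ|`, `Φ` the points whose stabilizers
  map onto `L`;
* `row_of_b` : the row of an odd prime `p` of the Monster from `UGood a b x`, `x` of order `p` in `B`.
-/

set_option autoImplicit false
open Subgroup MulAction

namespace Cfsg.Agent.H444.FprMChain

open Cfsg.Agent.H398.FPR (UGood sum_orbits card_fixedBy_comap ratio_mono)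
open Cfsg.Agent.H409 (FprRow)

/-- A bound for all orbits. -/
theorem sum' {K : Type*} [Group K] {a b : ℕ} {x : K} {X : Type*} [MulAction K X] [Finite X]
    (hX : ∀ z : X, b * Nat.card (fixedBy (K ⧸ stabilizer K z) x) ≤ a * Nat.card (K ⧸ stabilizer K z)) :
    b * Nat.card (fixedBy X x) ≤ a * Nat.card X := by
  have h1 := sum_orbits (M := K) (X := X) (A := fixedBy X x) (Y := Set.univ)
    (fun _ _ _ => trivial) (c1 := b) (c2 := a) (by
      intro y _
      have h2 := hX y
      let e := orbitEquivQuotientStabilizer K y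
      have h3 : Nat.card (K ⧸ stabilizer K y) = (orbit K y).ncard := by
        rw [← Nat.card_coe_set_eq]
        exact Nat.card_congr e.symm
      have h4 : Nat.card (fixedBy (K ⧸ stabilizer K y) x) = (fixedBy X x ∩ orbit K y).ncard := by
        have heq : ∀ z : orbit K y, ((x • z : orbit K y) : X) = x • (z : X) := fun _ => rfl
        have he : ∀ z : orbit K y, e (x • z) = x • e z := by
          intro z
          apply e.symm.injective
          rw [Equiv.symm_apply_apply]
          apply Subtype.ext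
          refine QuotientGroup.induction_on (e z) (C := fun w => e z = w → _) ?_ rfl
          intro g hg
          have h5 : z = e.symm (g : K ⧸ stabilizer K y) := by
            rw [← hg, Equiv.symm_apply_apply]
          have h6 : ((e.symm (g : K ⧸ stabilizer K y) : orbit K y) : X) = g • y := rfl
          have h7 : ((e.symm ((x * g : K) : K ⧸ stabilizer K y) : orbit K y) : X) =
            (x * g) • y := rfl
          rw [hg, heq, h5, h6]
          show x • g • y = ((e.symm ((x * g : K) : K ⧸ stabilizer K y) : orbit K y) : X)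
          rw [h7, mul_smul]
        rw [← Nat.card_coe_set_eq]
        let φ : (fixedBy X x ∩ orbit K y : Set X) ≃ fixedBy (K ⧸ stabilizer K y) x :=
          { toFun := fun z => ⟨e ⟨z.1, z.2.2⟩, by
              show x • e ⟨z.1, z.2.2⟩ = e ⟨z.1, z.2.2⟩
              rw [← he]
              congr 1
              exact Subtype.ext z.2.1⟩
            invFun := fun w => ⟨(e.symm w.1 : orbit K y), by
              show x • ((e.symm w.1 : orbit K y) : X) = ((e.symm w.1 : orbit K y) : X)
              have h8 : x • e.symm w.1 = e.symm w.1 := by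
                apply e.injective
                rw [he, Equiv.apply_symm_apply]
                exact w.2
              exact congrArg Subtype.val h8, (e.symm w.1).2⟩
            left_inv := fun z => by
              apply Subtype.ext
              show ((e.symm (e ⟨z.1, z.2.2⟩) : orbit K y) : X) = z.1
              rw [Equiv.symm_apply_apply]
            right_inv := fun w => by
              apply Subtype.ext
              show e ⟨((e.symm w.1 : orbit K y) : X), _⟩ = w.1
              exact e.apply_symm_apply w.1 }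
        exact Nat.card_congr φ.symm
      rw [h3, h4] at h2
      exact h2)
  rw [Set.inter_univ, Set.ncard_univ] at h1
  rw [Nat.card_coe_set_eq]
  exact h1

/-- **The orbits where the quotient moves.** -/
theorem bound_quot {K L : Type*} [Group K] [Finite K] [Group L] (f : K →* L) (hf : Function.Surjective f) {a b : ℕ}
    {x : K} (h : UGood a b (f x)) {X : Type*} [MulAction K X] [Finite X] :
    b * Nat.card (fixedBy X x) ≤ a * Nat.card X + b * {ω : X | (stabilizer K ω).map f = ⊤}.ncard := by
  classical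
  obtain ⟨Φ, hΦ⟩ : ∃ Φ : Set X, Φ = {ω : X | (stabilizer K ω).map f = ⊤} := ⟨_, rfl⟩
  rw [← hΦ]
  have hst : ∀ (k : K) (y : X), y ∈ Φ → k • y ∈ Φ := by
    intro k y hy
    rw [hΦ, Set.mem_ofPred_eq] at hy ⊢
    rw [eq_top_iff]
    intro l _
    have h1 : (f k)⁻¹ * l * f k ∈ (stabilizer K y).map f := by rw [hy]; trivial
    obtain ⟨s, hs, hs2⟩ := h1
    refine ⟨k * s * k⁻¹, ?_, ?_⟩
    · show (k * s * k⁻¹) • (k • y) = k • y
      rw [smul_smul, inv_mul_cancel_right, mul_smul]
      exact congrArg _ hs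
    · rw [map_mul, map_mul, map_inv, hs2]
      group
  let Y : SubMulAction K X :=
    { carrier := Φᶜ
      smul_mem' := by
        intro k y hy hky
        apply hy
        have h1 := hst k⁻¹ _ hky
        rwa [inv_smul_smul] at h1 }
  have hstab : ∀ y : Y, stabilizer K y = stabilizer K (y : X) := by
    intro y
    ext k
    rw [mem_stabilizer_iff, mem_stabilizer_iff]
    exact ⟨fun h => congrArg Subtype.val h, fun h => Subtype.ext h⟩
  have hfinY : Finite Y := inferInstanceAs (Finite (Φᶜ : Set X))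
  have h1 := sum' (K := K) (a := a) (b := b) (x := x) (X := Y) (by
    intro z
    have hz : (stabilizer K (z : X)).map f ≠ ⊤ := by
      intro h0
      exact z.2 (by rw [hΦ]; exact h0)
    rw [hstab]
    refine ratio_mono (M := ((stabilizer K (z : X)).map f).comap f) (le_comap_map _ _) x ?_
    obtain ⟨h5, h6⟩ := card_fixedBy_comap hf ((stabilizer K (z : X)).map f) x
    rw [h5, h6]
    exact h _ hz)
  have hcY : Nat.card Y = (Φᶜ).ncard := Nat.card_coe_set_eq _
  have h2 := Set.ncard_add_ncard_compl Φ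
  have h3 : Nat.card (fixedBy X x) ≤ Φ.ncard + Nat.card (fixedBy Y x) := by
    have h4 : fixedBy X x ⊆ Φ ∪ (Subtype.val '' (fixedBy Y x) : Set X) := by
      intro y hy
      by_cases h5 : y ∈ Φ
      · exact Or.inl h5
      · right
        exact ⟨⟨y, h5⟩, Subtype.ext hy, rfl⟩
    have h5 := (Set.ncard_le_ncard h4 (Set.toFinite _)).trans (Set.ncard_union_le _ _)
    rw [Set.ncard_image_of_injective _ Subtype.val_injective] at h5
    rw [Nat.card_coe_set_eq, Nat.card_coe_set_eq]
    exact h5
  rw [hcY] at h1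
  calc b * Nat.card (fixedBy X x) ≤ b * (Φ.ncard + Nat.card (fixedBy Y x)) := Nat.mul_le_mul_left _ h3
    _ = b * Nat.card (fixedBy Y x) + b * Φ.ncard := by ring
    _ ≤ a * (Φᶜ).ncard + b * Φ.ncard := Nat.add_le_add_right h1 _
    _ ≤ a * Nat.card X + b * Φ.ncard := by
        refine Nat.add_le_add_right (Nat.mul_le_mul_left _ ?_) _
        omega

/-! ### `2.B` in the Monster -/

theorem mem_of_map_top {K L : Type*} [Group K] [Group L] (f : K →* L) {t : K} (ht : t * t = 1)
    (htc : ∀ k : K, k * t = t * k) (hk : ∀ c, f c = 1 → c = 1 ∨ c = t) {S : Subgroup K} (hS : S.map f = ⊤) {u : K}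
    (hu : Odd (orderOf u)) : u ∈ S := by
  have h1 : f u ∈ S.map f := by rw [hS]; trivial
  obtain ⟨s, hs, hs2⟩ := h1
  have h2 : f (s⁻¹ * u) = 1 := by rw [map_mul, map_inv, hs2, inv_mul_cancel]
  rcases hk _ h2 with h3 | h3
  · have h4 : u = s := (inv_mul_eq_one.1 h3).symm
    rw [h4]
    exact hs
  · have h4 : u = s * t := by rw [← h3, mul_inv_cancel_left]
    have h5 : u * u ∈ S := by
      have h6 : u * u = s * s := by
        calc u * u = (s * t) * (s * t) := by rw [← h4]
          _ = s * (t * s) * t := by group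
          _ = s * (s * t) * t := by rw [← htc s]
          _ = s * s * (t * t) := by group
          _ = s * s := by rw [ht, mul_one]
      rw [h6]
      exact mul_mem hs hs
    obtain ⟨m, hm⟩ := hu
    have h7 : u = (u * u) ^ (m + 1) := by
      rw [← pow_two, ← pow_mul, show 2 * (m + 1) = (2 * m + 1) + 1 by ring, pow_succ, ← hm, pow_orderOf_eq_one,
        one_mul]
    rw [h7]
    exact pow_mem h5 _

/-- a lift of odd prime order -/
theorem exists_lift {K L : Type*} [Group K] [Group L] (f : K →* L) (hf : Function.Surjective f) {t : K}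
    (ht : t * t = 1) (hk : ∀ c, f c = 1 → c = 1 ∨ c = t) {p : ℕ} (hp : p.Prime) (hp2 : p ≠ 2) {x : L}
    (hx : orderOf x = p) : ∃ y : K, f y = x ∧ orderOf y = p := by
  obtain ⟨y, rfl⟩ := hf x
  obtain ⟨m, hm⟩ : Odd p := hp.odd_of_ne_two hp2
  have h1 : (y ^ p) * (y ^ p) = 1 := by
    rcases hk (y ^ p) (by rw [map_pow, ← hx, pow_orderOf_eq_one]) with h | h
    · rw [h, one_mul]
    · rw [h, ht]
  have h2 : f (y ^ (2 * (m + 1))) = f y := by
    rw [map_pow, show 2 * (m + 1) = (2 * m + 1) + 1 by ring, pow_succ, ← hm, ← hx, pow_orderOf_eq_one, one_mul]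
  refine ⟨y ^ (2 * (m + 1)), h2, ?_⟩
  have := Fact.mk hp
  apply orderOf_eq_prime
  · rw [← pow_mul, show 2 * (m + 1) * p = (p * 2) * (m + 1) by ring, pow_mul, pow_mul, pow_two, h1, one_pow]
  · intro h3
    rw [h3, map_one] at h2
    rw [← h2, orderOf_one] at hx
    exact hp.one_lt.ne hx

section Monster

open Cfsg Cfsg.Agent.H444.FprM Cfsg.Agent.MonsterX

theorem fix47 (hK : Cfsg.Agent.H995.CopEngine.AllKnown.{0}) (H : Subgroup MG) {u : MG} (hu : orderOf u = 47) :
    Nat.card (fixedBy (MG ⧸ H) u) ≤ 92 :=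
  FprMBig.fix_of_cent (p := 47) (c := 2) (by norm_num) (by norm_num)
    (fun y hy => by rw [mul_comm]; exact (Cfsg.Agent.H436.MonLoc.card47 hK hy).le) H hu

theorem row_47 (hK : Cfsg.Agent.H995.CopEngine.AllKnown.{0}) : FprRow 48 1 47 MG :=
  FprMBig.row_of_cent (c := 2) (by norm_num) (by norm_num) (by norm_num)
    (fun y hy => by rw [mul_comm]; exact (Cfsg.Agent.H436.MonLoc.card47 hK hy).le) (by norm_num)

/-- **from `B` to `M`** -/
theorem row_of_b (hK : Cfsg.Agent.H995.CopEngine.AllKnown.{0}) {p a b : ℕ} (hp : p.Prime) (hp2 : p ≠ 2) (hb : 0 < b)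
    {x : Spor.BabyMonster} (hx : orderOf x = p) (hU : UGood a b x)
    (hn : ∀ n : ℕ, 196883 ≤ n → (p + 1) * (a * n + b * 92) ≤ b * n) : FprRow (p + 1) 1 p MG := by
  have := FprM.finite
  obtain ⟨t, ht, -, hct, q, hq, hqk⟩ := Cfsg.Agent.H241.Mon.exists_cov
  have htt : t * t = 1 := by rw [← pow_two, ← ht, pow_orderOf_eq_one]
  let K : Subgroup MG := centralizer ({t} : Set MG)
  let t' : K := ⟨t, mem_centralizer_singleton_iff.2 rfl⟩
  have htt' : t' * t' = 1 := Subtype.ext htt
  have htc : ∀ k : K, k * t' = t' * k := fun k => Subtype.ext (mem_centralizer_singleton_iff.1 k.2)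
  have hqk' : ∀ c : K, q c = 1 → c = 1 ∨ c = t' := fun c hc => (hqk c hc).imp_right fun h => Subtype.ext h
  obtain ⟨y, hy, hyo⟩ := exists_lift q hq htt' hqk' hp hp2 hx
  have := Fact.mk hp
  have h47 : Fact (Nat.Prime 47) := ⟨by norm_num⟩
  obtain ⟨u, hu⟩ := exists_prime_orderOf_dvd_card' (G := K) 47 (by
    show 47 ∣ Nat.card (centralizer ({t} : Set MG))
    rw [hct]
    norm_num)
  intro H hH
  refine ⟨(y : MG), ⟨1, by rw [pow_one, Subgroup.orderOf_coe, hyo]⟩, ?_⟩
  have h1 := bound_quot q hq (x := y) (by rw [hy]; exact hU) (X := MG ⧸ H)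
  have h2 : {ω : MG ⧸ H | (stabilizer K ω).map q = ⊤}.ncard ≤ 92 := by
    have h3 := fix47 hK H (u := (u : MG)) (by rw [Subgroup.orderOf_coe, hu])
    rw [Nat.card_coe_set_eq] at h3
    refine (Set.ncard_le_ncard ?_ (Set.toFinite _)).trans h3
    intro ω hω
    have h4 : u ∈ stabilizer K ω := mem_of_map_top q htt' htc hqk' hω (by rw [hu]; decide)
    exact h4
  have h5 : b * Nat.card (fixedBy (MG ⧸ H) (y : MG)) ≤ a * Nat.card (MG ⧸ H) + b * 92 :=
    le_trans h1 (Nat.add_le_add_left (Nat.mul_le_mul_left _ h2) _)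
  apply Nat.le_of_mul_le_mul_left _ hb
  calc b * ((p + 1) * Nat.card (fixedBy (MG ⧸ H) (y : MG))) = (p + 1) * (b * Nat.card (fixedBy (MG ⧸ H) (y : MG))) := by
        ring
    _ ≤ (p + 1) * (a * Nat.card (MG ⧸ H) + b * 92) := Nat.mul_le_mul_left _ h5
    _ ≤ b * Nat.card (MG ⧸ H) := hn _ (FprMIdx.idx hH)
    _ = b * (1 * Nat.card (MG ⧸ H)) := by rw [one_mul]

end Monster

end Cfsg.Agent.H444.FprMChain
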