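import Cfsg.Agent.H401.Final

/-!
# Fixed point ratios of `p`-elements: unique Sylow subgroups and averages

`Row p S` : for every proper subgroup `H` of `S` some `p`-element `x` fixes at most `(p - 1) / (2 p - 1)` of the
cosets of `H`.

* `exists_fixedBy_le` : Burnside: some element of `P` has at most as many fixed points as there are `P`-orbits;
* `exists_pelt` : `p * fix x ≤ (p - 1) * |fix P| + n`;
* `row_of_ratio` : it is enough that `|fix P|` is small if `P` has fixed points (`p` odd);
* `row_of_uniq` : some element of `S` lies in only one Sylow `p`-subgroup (`p` odd);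
* `row_of_cyclic` : cyclic Sylow subgroups.
-/

set_option autoImplicit false

open Subgroup MulAction

namespace Cfsg.Agent.H444.Fpr

open Cfsg.Agent.H401

universe u

/-- For every proper subgroup `H` some `p`-element fixes at most `(p - 1) / (2 p - 1)` of the cosets of `H`. -/
def Row (p : ℕ) (S : Type*) [Group S] : Prop :=
  ∀ H : Subgroup S, H ≠ ⊤ → ∃ x : S, (∃ k : ℕ, orderOf x = p ^ k) ∧
    (2 * p - 1) * Nat.card (fixedBy (S ⧸ H) x) ≤ (p - 1) * Nat.card (S ⧸ H)

theorem exists_fixedBy_le (P X : Type*) [Group P] [Finite P] [MulAction P X] [Finite X] :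
    ∃ x : P, Nat.card (fixedBy X x) ≤ Nat.card (orbitRel.Quotient P X) := by
  classical
  have := Fintype.ofFinite P
  have := Fintype.ofFinite X
  have := Fintype.ofFinite (orbitRel.Quotient P X)
  by_contra hcon
  push Not at hcon
  have h1 := sum_card_fixedBy_eq_card_orbits_mul_card_group P X
  have h2 : ∑ _x : P, Fintype.card (orbitRel.Quotient P X) < ∑ x : P, Fintype.card (fixedBy X x) := by
    apply Finset.sum_lt_sum_of_nonempty ⟨1, Finset.mem_univ 1⟩
    intro x _
    have := hcon x
    rwa [Nat.card_eq_fintype_card, Nat.card_eq_fintype_card] at this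
  rw [h1, Finset.sum_const, Finset.card_univ, smul_eq_mul, mul_comm] at h2
  exact lt_irrefl _ h2

section

variable {p : ℕ} [Fact p.Prime] {G : Type*} [Group G] [Finite G]

theorem orderOf_mem (P : Sylow p G) {x : G} (hx : x ∈ P) : ∃ k : ℕ, orderOf x = p ^ k := by
  obtain ⟨k, hk⟩ := IsPGroup.iff_orderOf.1 P.isPGroup' ⟨x, hx⟩
  exact ⟨k, by rw [← hk, Subgroup.orderOf_mk]⟩

theorem exists_pelt {X : Type*} [MulAction G X] [Finite X] (P : Sylow p G) : ∃ x ∈ P,
    p * Nat.card (fixedBy X x) ≤ (p - 1) * (fs (P : Subgroup G) X).ncard + Nat.card X := by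
  obtain ⟨x, hx⟩ := exists_fixedBy_le (P : Subgroup G) X
  refine ⟨x, x.2, (Nat.mul_le_mul_left p ?_).trans (card_orbits_le (Ω := X) P.isPGroup')⟩
  exact hx

omit [Fact p.Prime] in
theorem numeric (hp3 : 3 ≤ p) {f n c : ℕ} (h : p * c ≤ (p - 1) * f + n)
    (hf : (2 * p - 1) * ((p - 1) * f) + 3 * p * n ≤ (p ^ 2 + 1) * n) : (2 * p - 1) * c ≤ (p - 1) * n := by
  obtain ⟨q, rfl⟩ : ∃ q, p = q + 3 := ⟨p - 3, by omega⟩
  have e1 : 2 * (q + 3) - 1 = 2 * q + 5 := by omega
  have e2 : q + 3 - 1 = q + 2 := by omega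
  rw [e1, e2] at hf ⊢
  rw [e2] at h
  apply Nat.le_of_mul_le_mul_left _ (show 0 < q + 3 by omega)
  have h1 := Nat.mul_le_mul_left (2 * q + 5) h
  nlinarith [h1, hf]

/-- A subgroup of index prime to `p` contains a Sylow subgroup. -/
theorem exists_sylow_le {H : Subgroup G} (h : ¬ p ∣ H.index) : ∃ P : Sylow p G, (P : Subgroup G) ≤ H := by
  obtain ⟨Q⟩ : Nonempty (Sylow p H) := inferInstance
  refine ⟨(Q.2.map H.subtype).toSylow ?_, ?_⟩
  · have h1 : ((Q : Subgroup H).map H.subtype).index = (Q : Subgroup H).index * H.index := by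
      rw [index_map_subtype]
    rw [h1, (Fact.out : p.Prime).dvd_mul, not_or]
    exact ⟨Q.not_dvd_index, h⟩
  · rw [IsPGroup.toSylow_coe]
    exact map_subtype_le _

omit [Finite G] in
theorem index_stabilizer_mk (H : Subgroup G) (x : G ⧸ H) : (stabilizer G x).index = H.index := by
  have h := index_stabilizer_of_transitive G x
  rw [h]
  rfl

/-- If `p` divides the index, a Sylow subgroup fixes no coset. -/
theorem fs_eq_empty (P : Sylow p G) {H : Subgroup G} (h : p ∣ H.index) : fs (P : Subgroup G) (G ⧸ H) = ∅ := by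
  rw [Set.eq_empty_iff_forall_notMem]
  intro x hx
  have h1 : (P : Subgroup G) ≤ stabilizer G x := hx
  have h2 := index_dvd_of_le h1
  rw [index_stabilizer_mk] at h2
  exact P.not_dvd_index (h.trans h2)

end

section

variable {p : ℕ} [Fact p.Prime] {S : Type*} [Group S] [Finite S]

/-- The averaging argument. -/
theorem row_of_ratio (hp2 : p ≠ 2) (P : Sylow p S)
    (h : ∀ H : Subgroup S, H ≠ ⊤ → ¬ p ∣ H.index →
      (2 * p - 1) * ((p - 1) * (fs (P : Subgroup S) (S ⧸ H)).ncard) + 3 * p * H.index ≤ (p ^ 2 + 1) * H.index) :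
    Row p S := by
  intro H hH
  have hp := (Fact.out : p.Prime)
  have hp3 : 3 ≤ p := by
    have := hp.two_le
    omega
  obtain ⟨x, hx, hx2⟩ := exists_pelt (X := S ⧸ H) P
  refine ⟨x, orderOf_mem P hx, numeric hp3 hx2 ?_⟩
  have hi : H.index = Nat.card (S ⧸ H) := rfl
  by_cases hd : p ∣ H.index
  · rw [fs_eq_empty P hd, Set.ncard_empty, mul_zero, mul_zero, zero_add]
    apply Nat.mul_le_mul_right
    nlinarith
  · rw [← hi]
    exact h H hH hd

/-- **An element in only one Sylow subgroup.** -/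
theorem row_of_uniq {S : Type u} [Group S] [Finite S] (hS : PGen p S) (hp2 : p ≠ 2) {P : Sylow p S} {z : S}
    (hz : z ∈ P) (huniq : ∀ Q : Sylow p S, z ∈ Q → Q = P) : Row p S := by
  intro H hH
  have hp := (Fact.out : p.Prime)
  have hp3 : 3 ≤ p := by
    have := hp.two_le
    omega
  by_cases hd : p ∣ H.index
  · obtain ⟨x, hx, hx2⟩ := exists_pelt (X := S ⧸ H) P
    refine ⟨x, orderOf_mem P hx, numeric hp3 hx2 ?_⟩
    rw [fs_eq_empty P hd, Set.ncard_empty, mul_zero, mul_zero, zero_add]
    apply Nat.mul_le_mul_right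
    nlinarith
  · refine ⟨z, orderOf_mem P hz, ?_⟩
    have hF := thmF _ S rfl hS H hH P
    refine (Nat.mul_le_mul_left _ ?_).trans hF
    rw [← Nat.card_coe_set_eq]
    apply Nat.card_mono (Set.toFinite _)
    intro y hy
    have hzy : z ∈ stabilizer S y := hy
    have hdy : ¬ p ∣ (stabilizer S y).index := by rwa [index_stabilizer_mk]
    obtain ⟨P', hP'⟩ := exists_sylow_le hdy
    have hzp : IsPGroup p (zpowers (⟨z, hzy⟩ : stabilizer S y)) := by
      obtain ⟨k, hk⟩ := orderOf_mem P hz
      exact isPGroup_zpowers (t := k) (by rw [← hk, Subgroup.orderOf_mk])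
    obtain ⟨R, hR⟩ := hzp.exists_le_sylow
    obtain ⟨Q, hQ⟩ := exists_sylow_map hP' R
    have hzQ : z ∈ Q := by
      have h1 : z ∈ (Q : Subgroup S) := by
        rw [hQ]
        exact ⟨⟨z, hzy⟩, hR (mem_zpowers _), rfl⟩
      exact h1
    have hQP := huniq Q hzQ
    show (P : Subgroup S) ≤ stabilizer S y
    rw [← hQP, hQ]
    exact map_subtype_le _

omit [Finite S] in
theorem fixedBy_eq_fs_of_cyclic {X : Type*} [MulAction S X] {P : Subgroup S} {z : S} (hz : zpowers z = P) :
    fixedBy X z = fs P X := by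
  ext y
  rw [mem_fs, ← hz, zpowers_le]
  rfl

/-- **Cyclic Sylow subgroups.** -/
theorem row_of_cyclic {S : Type u} [Group S] [Finite S] (hS : PGen p S) (P : Sylow p S)
    (hP : IsCyclic (P : Subgroup S)) : Row p S := by
  intro H hH
  obtain ⟨⟨z, hz⟩, hgen⟩ := hP.exists_generator
  have hz' : zpowers z = (P : Subgroup S) := by
    apply le_antisymm
    · rw [zpowers_le]
      exact hz
    · intro y hy
      obtain ⟨k, hk⟩ := hgen ⟨y, hy⟩
      exact ⟨k, by simpa using congrArg Subtype.val hk⟩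
  refine ⟨z, orderOf_mem P hz, ?_⟩
  have hF := thmF _ S rfl hS H hH P
  rwa [← fixedBy_eq_fs_of_cyclic hz', ← Nat.card_coe_set_eq] at hF

end

/-- A simple group of order divisible by `p` is generated by its Sylow `p`-subgroups. -/
theorem pGen_of_simple {p : ℕ} [Fact p.Prime] {S : Type*} [Group S] [Finite S] [IsSimpleGroup S]
    (hp : p ∣ Nat.card S) : PGen p S := by
  have hn : (plus p (⊤ : Subgroup S)).Normal := by
    rw [← normalizer_eq_top_iff, eq_top_iff]
    exact le_normalizer_plus ⊤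
  rcases hn.eq_bot_or_eq_top with h | h
  · exfalso
    obtain ⟨P⟩ : Nonempty (Sylow p S) := inferInstance
    have h1 : (P : Subgroup S) ≤ ⊥ := by
      rw [← h]
      exact le_plus le_top
    have h2 := P.dvd_card_of_dvd_card hp
    have h3 : Nat.card P = 1 := by
      have : (P : Subgroup S) = ⊥ := le_bot_iff.1 h1
      show Nat.card (P : Subgroup S) = 1
      rw [this, Subgroup.card_bot]
    rw [h3] at h2
    exact (Fact.out : p.Prime).one_lt.ne' (Nat.dvd_one.1 h2)
  · exact h

end Cfsg.Agent.H444.Fpr
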