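import Cfsg.Agent.H444.FprTh
import Cfsg.Agent.H444.FprNorm
import Cfsg.Agent.S0033
import Cfsg.Agent.H715.Fpr.Row4
import Cfsg.Agent.OddOrderLocal.FittingHall

/-!
# Fixed point ratios: the Thompson group at the prime 13 (helper444)

`structK` : `H940.Eng.struct` with the normal subgroup `K`. In a subgroup `H` of index 144305 of `Th` such that
`|N_H(R)| = 26` the subgroup `K` would be nilpotent of order `2 ^ 12 * 3 ^ 9`, but the centralizer of an involution of
`Th` has no subgroup of order `3 ^ 9`.
-/

set_option autoImplicit false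
set_option linter.style.haveILetI false

namespace Cfsg.Agent.H444.FprThB

open Subgroup MulAction Cfsg Cfsg.Agent.OrdDiv Cfsg.Agent.H940 Cfsg.Agent.H940.Eng Cfsg.Agent.H940.Eng.D
open Cfsg.Agent.H715.Fpr Cfsg.Agent.H409 Cfsg.Agent.H444.ThLoc

universe u

/-- **the structure at a prime dividing the order once** -/
theorem structK {X : Type u} [Group X] [Finite X] {r : ℕ} (hr : r.Prime) (h2 : ¬ r ^ 2 ∣ Nat.card X)
    (R : Subgroup X) (hR : Nat.card R = r) :
    ∃ (K : Subgroup X) (c s ν t : ℕ), K.Normal ∧ c = Nat.card ↥(normalizer (R : Set X) ⊓ K) ∧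
      Nat.card X = Nat.card K * s * t ∧ Nat.card (normalizer (R : Set X)) = c * ν * t ∧
      c ∣ Nat.card (centralizer (R : Set X)) ∧ ¬ r ∣ Nat.card K ∧ r ∣ ν ∧ ν ∣ s ∧ s / ν ≡ 1 [MOD r] ∧
      (∀ p : ℕ, p.Prime → ∃ j : ℕ, p ^ j ∣ c ∧ p ^ ((Nat.card K).factorization p) ≡ p ^ j [MOD r]) ∧
      (s = r ∨ ∃ (S : Type u) (_ : Group S) (_ : Finite S), IsSimpleGroup S ∧ (¬ ∀ a b : S, a * b = b * a) ∧
        Nat.card S = s) := by
  haveI := Fact.mk hr
  obtain ⟨K, ⟨hKn, hrK⟩, hKmax⟩ := exists_card_max (P := fun T : Subgroup X => T.Normal ∧ ¬ r ∣ Nat.card T)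
    ⟨⊥, inferInstance, by rw [card_bot]; exact hr.one_lt.ne' ∘ Nat.dvd_one.1⟩
  let f : X →* X ⧸ K := QuotientGroup.mk' K
  have hf : Function.Surjective f := QuotientGroup.mk'_surjective K
  have hker : f.ker = K := QuotientGroup.ker_mk' K
  have hRK : R ⊓ K = ⊥ := by
    have h3 : Nat.card ↥(R ⊓ K) ∣ r := hR ▸ card_dvd_of_le inf_le_left
    rcases (Nat.dvd_prime hr).1 h3 with h4 | h4
    · exact card_eq_one.1 h4
    · exact absurd (h4 ▸ card_dvd_of_le (inf_le_right : R ⊓ K ≤ K)) hrK
  have hmapcard : ∀ A : Subgroup X, Nat.card ↥(A.map f) * Nat.card ↥(A ⊓ K) = Nat.card A := by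
    intro A
    have h3 := card_mul_index (f.comp A.subtype).ker
    rw [index_ker] at h3
    have h4 : Nat.card (f.comp A.subtype).ker = Nat.card ↥(A ⊓ K) := by
      have h5 : (f.comp A.subtype).ker.map A.subtype = A ⊓ K := by
        ext x
        rw [mem_map, mem_inf]
        constructor
        · rintro ⟨a, ha, rfl⟩
          refine ⟨a.2, ?_⟩
          rw [← hker, MonoidHom.mem_ker]
          exact ha
        · rintro ⟨hxA, hxK⟩
          refine ⟨⟨x, hxA⟩, ?_, rfl⟩
          rw [← hker, MonoidHom.mem_ker] at hxK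
          exact hxK
      rw [← h5, card_map_of_injective A.subtype_injective]
    have h6 : (f.comp A.subtype).range = A.map f := by
      ext y
      constructor
      · rintro ⟨a, rfl⟩
        exact ⟨a, a.2, rfl⟩
      · rintro ⟨a, ha, rfl⟩
        exact ⟨⟨a, ha⟩, rfl⟩
    rw [h4, h6, mul_comm] at h3
    exact h3
  have hXY : Nat.card X = Nat.card K * Nat.card (X ⧸ K) := by
    rw [← index_eq_card, card_mul_index]
  have hRbar : Nat.card ↥(R.map f) = r := by
    have := hmapcard R
    rwa [hRK, card_bot, mul_one, hR] at this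
  have hY2 : ¬ r ^ 2 ∣ Nat.card (X ⧸ K) := fun h => h2 (hXY ▸ (h.trans (dvd_mul_left _ _)))
  have hno : ∀ N : Subgroup (X ⧸ K), N.Normal → ¬ r ∣ Nat.card N → N = ⊥ := by
    intro N hN hrN
    have h3 : Nat.card ↥(N.comap f) = Nat.card K * Nat.card N := MaxCls.card_comap_quot K N
    have h4 := hKmax (N.comap f) ⟨hN.comap f, by
      rw [h3]
      intro h
      rcases hr.dvd_mul.1 h with h5 | h5
      · exact hrK h5
      · exact hrN h5⟩
    rw [h3] at h4
    have h5 : 0 < Nat.card K := Nat.card_pos
    have h6 : 0 < Nat.card N := Nat.card_pos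
    have h7 : Nat.card N ≤ 1 := by
      by_contra hlt
      push Not at hlt
      nlinarith
    exact card_eq_one.1 (le_antisymm h7 h6)
  obtain ⟨s, ν, t, e1, e2, e3, e4, e5, e6⟩ := struct_top hr hY2 hno (R.map f) hRbar
  set N := normalizer (R : Set X) with hN
  -- the normalizer in the quotient
  have hNbar : normalizer ((R.map f : Subgroup (X ⧸ K)) : Set (X ⧸ K)) = N.map f := by
    apply le_antisymm
    · intro y hy
      obtain ⟨x, rfl⟩ := hf y
      rw [← conj_eq_iff] at hy
      set R' := R.map (MulAut.conj x).toMonoidHom with hR'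
      have hR'c : Nat.card R' = r := by rw [hR', card_map_of_injective (MulAut.conj x).injective, hR]
      -- `R'` and `R` are Sylow subgroups of `L = K R`
      have hR'f : R'.map f = R.map f := by
        rw [← hy, hR', map_map, map_map]
        congr 1
      set L := K ⊔ R with hL
      have hRL : R ≤ L := le_sup_right
      have hR'L : R' ≤ L := by
        intro z hz
        have h3 : f z ∈ R.map f := by rw [← hR'f]; exact ⟨z, hz, rfl⟩
        obtain ⟨w, hw, hw'⟩ := h3
        have h4 : z * w⁻¹ ∈ K := by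
          rw [← hker, MonoidHom.mem_ker, map_mul, map_inv, hw', mul_inv_cancel]
        have h5 : z = (z * w⁻¹) * w := by group
        rw [h5]
        exact mul_mem (mem_sup_left h4) (mem_sup_right hw)
      have hL2 : ¬ r ^ 2 ∣ Nat.card L := fun h => h2 (h.trans (card_subgroup_dvd_card _))
      have hRLc : Nat.card (R'.subgroupOf L) = r := by
        rw [Nat.card_congr (subgroupOfEquivOfLe hR'L).toEquiv, hR'c]
      have hRLc2 : Nat.card (R.subgroupOf L) = r := by
        rw [Nat.card_congr (subgroupOfEquivOfLe hRL).toEquiv, hR]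
      obtain ⟨l, hl⟩ := exists_conj_le hr hL2 hRLc (L := R.subgroupOf L) (by rw [hRLc2])
      have hl' : R'.map (MulAut.conj (l : X)).toMonoidHom = R := by
        apply eq_of_le_of_card_ge
        · rintro _ ⟨z, hz, rfl⟩
          exact hl ⟨⟨z, hR'L hz⟩, hz, rfl⟩
        · rw [card_map_of_injective (MulAut.conj (l : X)).injective, hR'c, hR]
      have hlx : (l : X) * x ∈ N := by
        rw [hN, ← conj_eq_iff]
        have h7 : R.map (MulAut.conj ((l : X) * x)).toMonoidHom =
            (R.map (MulAut.conj x).toMonoidHom).map (MulAut.conj (l : X)).toMonoidHom := by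
          rw [map_map]
          congr 1
          ext z
          simp
        rw [h7]
        exact hl'
      have hlf : f (l : X) ∈ N.map f := by
        have hlL : (l : X) ∈ K ⊔ R := l.2
        rw [mem_sup_of_normal_left] at hlL
        obtain ⟨a, ha, b, hb, hab⟩ := hlL
        refine ⟨b, le_normalizer hb, ?_⟩
        rw [← hab, map_mul]
        have : f a = 1 := by rw [← MonoidHom.mem_ker, hker]; exact ha
        rw [this, one_mul]
      have h8 : f x = (f (l : X))⁻¹ * f ((l : X) * x) := by rw [map_mul]; group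
      rw [h8]
      exact mul_mem (inv_mem hlf) ⟨_, hlx, rfl⟩
    · rintro _ ⟨x, hx, rfl⟩
      rw [← conj_eq_iff]
      have h3 : R.map (MulAut.conj x).toMonoidHom = R := conj_eq_iff.2 hx
      conv_rhs => rw [← h3]
      rw [map_map, map_map]
      congr 1
  have hNc : Nat.card N = Nat.card ↥(N ⊓ K) * ν * t := by
    rw [← hmapcard N, ← hNbar, e2]
    ring
  refine ⟨K, Nat.card ↥(N ⊓ K), s, ν, t, hKn, rfl, by rw [hXY, e1, mul_assoc], hNc, ?_,
    hrK, e3, e4, e5, ?_, e6⟩
  · apply card_dvd_of_le
    intro x hx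
    have hxN : x ∈ N := (mem_inf.1 hx).1
    have hxK : x ∈ K := (mem_inf.1 hx).2
    rw [mem_centralizer_iff]
    intro a ha
    have h3 : x * a * x⁻¹ * a⁻¹ ∈ R ⊓ K := by
      refine mem_inf.2 ⟨mul_mem ((mem_normalizer_iff.1 hxN a).1 ha) (inv_mem (show a ∈ R from ha)), ?_⟩
      have h4 : a * x⁻¹ * a⁻¹ ∈ K := hKn.conj_mem _ (inv_mem hxK) a
      have h5 : x * a * x⁻¹ * a⁻¹ = x * (a * x⁻¹ * a⁻¹) := by group
      rw [h5]
      exact mul_mem hxK h4
    rw [hRK, mem_bot] at h3
    have h6 : x * a = a * x := by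
      have := congrArg (· * a * x) h3
      simpa [mul_assoc] using this
    exact h6.symm
  · intro p hp
    haveI := Fact.mk hp
    by_cases hpr : p = r
    · subst hpr
      refine ⟨0, by simp, ?_⟩
      rw [Nat.factorization_eq_zero_of_not_dvd hrK]
    · -- an `R`-invariant Sylow `p`-subgroup of `K`
      let Q0 : Sylow p K := default
      set Q0' : Subgroup X := (Q0 : Subgroup K).map K.subtype with hQ0'
      have hQ0K : Q0' ≤ K := map_subtype_le _
      have hfr : normalizer (Q0' : Set X) ⊔ K = ⊤ := Sylow.normalizer_sup_eq_top Q0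
      have hrN : r ∣ Nat.card (normalizer (Q0' : Set X)) := by
        have h3 := card_sup_mul_card_inf K (normalizer (Q0' : Set X))
        rw [sup_comm, hfr, card_top] at h3
        have h4 : r ∣ Nat.card K * Nat.card (normalizer (Q0' : Set X)) := by
          rw [← h3]
          exact Dvd.dvd.mul_right (hR ▸ card_subgroup_dvd_card R) _
        exact (hr.dvd_mul.1 h4).resolve_left hrK
      obtain ⟨g, hg⟩ := exists_conj_le hr h2 hR hrN
      -- `Q = Q0' conjugated by g⁻¹` is normalized by `R`
      set Q : Subgroup X := Q0'.map (MulAut.conj g⁻¹).toMonoidHom with hQ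
      have hQK : Q ≤ K := by
        rintro _ ⟨z, hz, rfl⟩
        exact hKn.conj_mem _ (hQ0K hz) g⁻¹
      have hRQ : R ≤ normalizer (Q : Set X) := by
        intro a ha
        have h3 : g * a * g⁻¹ ∈ normalizer (Q0' : Set X) := hg ⟨a, ha, rfl⟩
        rw [← conj_eq_iff] at h3 ⊢
        rw [hQ, map_map]
        conv_rhs => rw [← h3, map_map]
        congr 1
        ext z
        simp [mul_assoc]
      have hQc : Nat.card Q = p ^ ((Nat.card K).factorization p) := by
        rw [hQ, card_map_of_injective (MulAut.conj g⁻¹).injective, hQ0', card_map_of_injective K.subtype_injective]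
        exact Q0.card_eq_multiplicity
      -- the action of `R` on `Q`
      letI : MulAction R Q := {
        smul := fun a z => ⟨(a : X) * z * (a : X)⁻¹, (mem_normalizer_iff.1 (hRQ a.2) z).1 z.2⟩
        one_smul := fun z => Subtype.ext (by show (1 : X) * z * (1 : X)⁻¹ = z; simp)
        mul_smul := fun a b z => Subtype.ext (by
          show ((a : X) * b) * z * ((a : X) * b)⁻¹ = a * (b * z * (b : X)⁻¹) * (a : X)⁻¹
          group) }
      have hsm : ∀ (a : R) (z : Q), ((a • z : Q) : X) = (a : X) * z * (a : X)⁻¹ := fun _ _ => rfl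
      have hRp : IsPGroup r R := IsPGroup.of_card (n := 1) (by rw [hR, pow_one])
      have hmod : Nat.card Q ≡ Nat.card (MulAction.fixedPoints R Q) [MOD r] := hRp.card_modEq_card_fixedPoints Q
      -- the fixed points
      set D : Subgroup X := Q ⊓ centralizer (R : Set X) with hD
      have hDc : Nat.card (MulAction.fixedPoints R Q) = Nat.card D := by
        refine Nat.card_congr ?_
        refine ⟨fun z => ⟨((z : Q) : X), mem_inf.2 ⟨(z : Q).2, ?_⟩⟩, fun z => ⟨⟨(z : X), (mem_inf.1 z.2).1⟩, ?_⟩, fun z => rfl, fun z => rfl⟩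
        · show ((z : Q) : X) ∈ centralizer (R : Set X)
          rw [mem_centralizer_iff]
          intro a ha
          have h3 := congrArg Subtype.val (z.2 ⟨a, ha⟩)
          rw [hsm] at h3
          have h4 : a * ((z : Q) : X) * a⁻¹ = ((z : Q) : X) := h3
          calc a * ((z : Q) : X) = a * ((z : Q) : X) * a⁻¹ * a := by group
            _ = ((z : Q) : X) * a := by rw [h4]
        · intro a
          apply Subtype.ext
          rw [hsm]
          have h3 := (mem_centralizer_iff.1 (mem_inf.1 z.2).2) (a : X) a.2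
          show (a : X) * (z : X) * (a : X)⁻¹ = z
          rw [h3]
          group
      have hDp : IsPGroup p D := by
        have h3 : IsPGroup p Q := IsPGroup.of_card hQc
        exact h3.to_le inf_le_left
      obtain ⟨j, hj⟩ := IsPGroup.iff_card.1 hDp
      refine ⟨j, ?_, ?_⟩
      · rw [← hj]
        apply card_dvd_of_le
        intro z hz
        have hzQ : z ∈ Q := (mem_inf.1 hz).1
        have hzC : z ∈ centralizer (R : Set X) := (mem_inf.1 hz).2
        refine mem_inf.2 ⟨?_, hQK hzQ⟩
        rw [hN, mem_normalizer_iff]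
        intro a
        have h3 : ∀ b ∈ R, z * b * z⁻¹ = b := by
          intro b hb
          rw [← (mem_centralizer_iff.1 hzC) b hb]
          group
        constructor
        · intro ha
          rw [h3 a ha]
          exact ha
        · intro ha
          have h4 := h3 _ ha
          have h5 : z * a * z⁻¹ = a := by
            have h6 : z * (z * a * z⁻¹) * z⁻¹ = z * a * z⁻¹ := h4
            have h7 : z⁻¹ * (z * (z * a * z⁻¹) * z⁻¹) * z = z⁻¹ * (z * a * z⁻¹) * z := by rw [h6]
            have h8 : z⁻¹ * (z * (z * a * z⁻¹) * z⁻¹) * z = z * a * z⁻¹ := by group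
            have h9 : z⁻¹ * (z * a * z⁻¹) * z = a := by group
            rw [h8, h9] at h7
            exact h7
          rw [← h5]
          exact ha
      · rw [← hQc, ← hj, ← hDc]
        exact hmod

/-- the normal subgroup is nilpotent when `R` has no fixed points -/
theorem nilp {X : Type u} [Group X] [Finite X] {r : ℕ} (hr : r.Prime) {R K : Subgroup X} (hR : Nat.card R = r)
    (hK : K.Normal) (h1 : normalizer (R : Set X) ⊓ K = ⊥) : Group.IsNilpotent K := by
  have := Fact.mk hr
  obtain ⟨x, hx, rfl⟩ := eq_zpowers' hr hR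
  have hfree : ∀ g ∈ K, x * g * x⁻¹ = g → g = 1 := by
    intro g hg h
    have h2 : g ∈ normalizer ((zpowers x : Subgroup X) : Set X) ⊓ K := by
      refine mem_inf.2 ⟨?_, hg⟩
      have h3 : g ∈ centralizer ({x} : Set X) := mem_centralizer_singleton_iff.2 (mul_inv_eq_iff_eq_mul.1 h).symm
      rw [← cent_zpowers'] at h3
      exact centralizer_le_normalizer _ h3
    rw [h1, mem_bot] at h2
    exact h2
  by_cases hKb : K = ⊥
  · rw [hKb]
    infer_instance
  have hφ : ∀ t : K, ((MulAut.conjNormal x t : K) : X) = x * t * x⁻¹ := fun t => MulAut.conjNormal_apply x t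
  refine Cfsg.Agent.S0033.result (MulAut.conjNormal x : MulAut K) ?_ r hr ?_
  · intro g hg
    apply Subtype.ext
    apply hfree g g.2
    have h2 : MulAut.conjNormal x g = g := hg
    rw [← hφ, h2]
  · apply orderOf_eq_prime
    · rw [← map_pow, ← hx, pow_orderOf_eq_one, map_one]
    · intro h
      apply hKb
      rw [eq_bot_iff]
      intro g hg
      rw [mem_bot]
      apply hfree g hg
      have h2 := hφ ⟨g, hg⟩
      rw [h] at h2
      exact h2.symm

/-- `|G| / 144305` -/
def mH : ℕ := 628848230400

/-- the check -/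
def ck (k : ℕ) : Bool :=
  k % 13 == 0 || 2 ^ (val 2 15 k) % 13 != 1 || 3 ^ (val 3 10 k) % 13 != 1 || 5 ^ (val 5 2 k) % 13 != 1 ||
    (k % 2 == 0 && Nat.blt 4 (val 3 10 k)) ||
    ((13 :: o_th).all fun s => k * s != mH && k * s * 2 != mH)

theorem ck_all : ((divsT [(2, 15), (3, 10), (5, 2), (13, 1)]).all ck) = true := by decide +kernel

theorem fac_le {p e k m : ℕ} (hp : p.Prime) (hk : k ∣ m) (hm : m ≠ 0) (h : ¬ p ^ (e + 1) ∣ m) : k.factorization p ≤ e := by
  by_contra hlt
  exact h (((hp.pow_dvd_iff_le_factorization (ne_zero_of_dvd_ne_zero hm hk)).2 (by omega)).trans hk)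

/-- a subgroup of index 144305 -/
theorem key (B : Base) {H : Subgroup G} (hH : H.index = 144305) {R : Subgroup G} (hR : Nat.card R = 13) (hRH : R ≤ H)
    (h26 : Nat.card ↥(normalizer (R : Set G) ⊓ H) = 26) : False := by
  have h13 : Nat.Prime 13 := by norm_num
  have := Fact.mk h13
  have hc : Nat.card H = mH := by
    have h1 := card_mul_index H
    rw [card, hH, n_th] at h1
    unfold mH
    omega
  have hR' : Nat.card (R.subgroupOf H) = 13 := by rw [Nat.card_congr (subgroupOfEquivOfLe hRH).toEquiv, hR]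
  have hN : Nat.card (normalizer ((R.subgroupOf H : Subgroup H) : Set H)) = 26 := by
    rw [← subgroupOf_normalizer_eq hRH, ← h26, ← subgroupOf_map_subtype,
      card_map_of_injective H.subtype_injective]
  have h2 : ¬ 13 ^ 2 ∣ Nat.card H := by rw [hc]; decide
  obtain ⟨K, c, s, ν, t, hKn, hcK, e1, e2, e3, e4, e5, e6, e7, e8, e9⟩ := structK h13 h2 _ hR'
  rw [hN] at e2
  have hcpos : 0 < c := by rw [hcK]; exact Nat.card_pos
  -- `c = 1`
  have hC : Nat.card (centralizer ((R.subgroupOf H : Subgroup H) : Set H)) ∣ Nat.card (centralizer (R : Set G)) := by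
    rw [← card_map_of_injective H.subtype_injective]
    apply card_dvd_of_le
    rintro _ ⟨a, ha, rfl⟩
    rw [mem_centralizer_iff]
    intro w hw
    exact congrArg Subtype.val ((mem_centralizer_iff.1 ha) ⟨w, hRH hw⟩ (mem_subgroupOf.2 hw))
  have h3 : c ∣ 3 ^ 10 * 13 := by
    have h4 := (e3.trans hC).trans (dvd13 hR)
    have h5 : prodl [(3, 10), (13, 1)] = 3 ^ 10 * 13 := by decide
    rwa [h5] at h4
  obtain ⟨ν', rfl⟩ := e5
  have h4 : c * (ν' * t) = 2 := by
    have h5 : 13 * (c * (ν' * t)) = 13 * 2 := by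
      calc 13 * (c * (ν' * t)) = c * (13 * ν') * t := by ring
        _ = 26 := e2.symm
    exact Nat.eq_of_mul_eq_mul_left (by norm_num) h5
  have hc1 : c = 1 := by
    have h5 : c ∣ 2 := ⟨_, h4.symm⟩
    rcases (Nat.dvd_prime Nat.prime_two).1 h5 with h6 | h6
    · exact h6
    · rw [h6] at h3
      exfalso
      revert h3
      decide
  rw [hc1, one_mul] at h4
  have ht : t = 1 ∨ t = 2 := (Nat.dvd_prime Nat.prime_two).1 ⟨ν', by rw [← h4, mul_comm]⟩
  have hcop : ∀ p : ℕ, p.Prime → p ^ ((Nat.card K).factorization p) % 13 = 1 := by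
    intro p hp
    obtain ⟨j, hj, hj2⟩ := e8 p hp
    rw [hc1, Nat.dvd_one] at hj
    rw [hj] at hj2
    exact hj2
  have hbot : normalizer ((R.subgroupOf H : Subgroup H) : Set H) ⊓ K = ⊥ :=
    card_eq_one.1 (hcK.symm.trans hc1)
  have hnil := nilp h13 hR' hKn hbot
  have hKm : Nat.card K ∣ mH := hc ▸ card_subgroup_dvd_card K
  have hm0 : mH ≠ 0 := by decide
  -- the 3-part
  have hthree : 2 ∣ Nat.card K → (Nat.card K).factorization 3 ≤ 4 := by
    intro h2K
    have h2F : Fact (Nat.Prime 2) := ⟨Nat.prime_two⟩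
    have h3F : Fact (Nat.Prime 3) := ⟨Nat.prime_three⟩
    obtain ⟨τ, hτ⟩ := exists_prime_orderOf_dvd_card' (G := K) 2 h2K
    have hτG : orderOf (((τ : K) : H) : G) = 2 := by rw [Subgroup.orderOf_coe, Subgroup.orderOf_coe, hτ]
    let P : Sylow 3 K := default
    have hPc : Nat.card P = 3 ^ ((Nat.card K).factorization 3) := P.card_eq_multiplicity
    have hPle : ((P : Subgroup K).map (H.subtype.comp K.subtype)) ≤ centralizer ({(((τ : K) : H) : G)} : Set G) := by
      rintro _ ⟨a, ha, rfl⟩
      rw [mem_centralizer_singleton_iff]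
      obtain ⟨k, hk⟩ := (IsPGroup.iff_orderOf.1 P.2) ⟨a, ha⟩
      have hk' : orderOf a = 3 ^ k := by
        rw [← hk]
        exact Subgroup.orderOf_coe (⟨a, ha⟩ : (P : Subgroup K))
      have h5 : Commute a τ := Cfsg.Agent.OddOrderLocal.FittingHall.commute_of_coprime_orderOf (by
        rw [hk', hτ]
        exact Nat.Coprime.pow_left k (by norm_num))
      exact congrArg (fun u : K => ((u : H) : G)) h5.eq
    have h5 := card_dvd_of_le hPle
    have hinj : Function.Injective (H.subtype.comp K.subtype) := fun a b h =>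
      K.subtype_injective (H.subtype_injective h)
    rw [card_map_of_injective hinj, hPc, H513.NilpTh.card_inv hτG] at h5
    by_contra hlt
    have h6 : 3 ^ 5 ∣ 92897280 := (pow_dvd_pow 3 (by omega)).trans h5
    revert h6
    decide
  -- the order of the simple factor
  have hs : s ∈ 13 :: o_th := by
    rcases e9 with h | ⟨S, i1, i2, hS, hna, hSc⟩
    · rw [h]
      exact List.mem_cons_self
    · rw [← hSc]
      refine List.mem_cons_of_mem _ (ords_th B S hS hna ?_)
      rw [hSc]
      have h5 : s ∣ Nat.card H := ⟨Nat.card K * t, by rw [e1]; ring⟩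
      exact h5.trans (by rw [hc]; decide)
  have h5 := ck_all
  rw [List.all_eq_true] at h5
  have h6 := h5 _ (mem_divsT (l := [(2, 15), (3, 10), (5, 2), (13, 1)]) (by
    intro x hx
    simp only [List.mem_cons, List.not_mem_nil, or_false] at hx
    rcases hx with rfl | rfl | rfl | rfl <;> norm_num) (d := Nat.card K) (by
      have h7 : prodl [(2, 15), (3, 10), (5, 2), (13, 1)] = mH := by decide
      rw [h7]
      exact hKm))
  have hK0 : Nat.card K ≠ 0 := Nat.card_pos.ne'
  unfold ck at h6
  rw [val_eq Nat.prime_two _ _ hK0 (fac_le Nat.prime_two hKm hm0 (by decide)),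
    val_eq Nat.prime_three _ _ hK0 (fac_le Nat.prime_three hKm hm0 (by decide)),
    val_eq Nat.prime_five _ _ hK0 (fac_le Nat.prime_five hKm hm0 (by decide)),
    hcop 2 Nat.prime_two, hcop 3 Nat.prime_three, hcop 5 Nat.prime_five] at h6
  simp only [bne_self_eq_false, Bool.or_false, Bool.or_eq_true, beq_iff_eq, Bool.and_eq_true, Nat.blt_eq] at h6
  rcases h6 with (h6 | ⟨h6, h7⟩) | h6
  · exact e4 (Nat.dvd_of_mod_eq_zero h6)
  · have := hthree (Nat.dvd_of_mod_eq_zero h6)
    omega
  · rw [List.all_eq_true] at h6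
    have h7 := h6 s hs
    rw [Bool.and_eq_true, bne_iff_ne, bne_iff_ne] at h7
    rw [hc] at e1
    rcases ht with rfl | rfl
    · exact h7.1 (by rw [e1, mul_one])
    · exact h7.2 e1.symm

theorem norm_mem {R : Subgroup G} (hR : Nat.card R = 13) :
    Nat.card (normalizer (R : Set G)) ∈ ([468, 12636, 341172] : List ℕ) := by
  have h1 := cn13 hR
  simp only [List.mem_cons, List.not_mem_nil, or_false, Prod.mk.injEq] at h1 ⊢
  omega

/-- elements of order 13 on the cosets of a subgroup of index 144305 -/
theorem fix_le (B : Base) {H : Subgroup G} (hH : H.index = 144305) {x : G} (hx : orderOf x = 13) :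
    14 * Nat.card (fixedBy (G ⧸ H) x) ≤ 144305 := by
  have h13 : Nat.Prime 13 := by norm_num
  have := Fact.mk h13
  have hsq : ¬ 13 ^ 2 ∣ Nat.card G := by rw [card]; decide
  by_contra hlt
  have hmod : Nat.card (fixedBy (G ⧸ H) x) % 13 = H.index % 13 := fix_modEq h13 H hx
  rw [hH] at hmod
  have hf : Nat.card (fixedBy (G ⧸ H) x) = 13122 := by
    set f := Nat.card (fixedBy (G ⧸ H) x)
    rcases fix_prime_all_dvd h13 hsq H hx with h | ⟨R, hR, h⟩
    · omega
    · have h1 := norm_mem hR
      simp only [List.mem_cons, List.not_mem_nil, or_false] at h1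
      rcases h1 with h1 | h1 | h1
      · rw [h1] at h
        have := Nat.le_of_dvd (by norm_num) h
        omega
      · rw [h1] at h
        have := Nat.le_of_dvd (by norm_num) h
        omega
      · rw [h1] at h
        obtain ⟨k, hk⟩ := h
        have hk3 : k < 3 := by
          by_contra h3
          have h4 : 13 * f * 3 ≤ 341172 := hk ▸ Nat.mul_le_mul_left _ (not_lt.1 h3)
          omega
        interval_cases k <;> omega
  have hne : Nonempty (fixedBy (G ⧸ H) x) := by
    by_contra hno
    rw [not_nonempty_iff] at hno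
    rw [Nat.card_of_isEmpty] at hf
    norm_num at hf
  obtain ⟨w, hw⟩ := hne
  obtain ⟨a, rfl⟩ := QuotientGroup.mk_surjective w
  have h3 : ((x * a : G) : G ⧸ H) = (a : G) := hw
  have h4 := QuotientGroup.eq.1 h3.symm
  rw [← mul_assoc] at h4
  rw [← card_fixedBy_conj H x a] at hf
  have h5 : orderOf (a⁻¹ * x * a) = 13 := by
    have h5 : a⁻¹ * x * a = MulAut.conj a⁻¹ x := by simp
    rw [h5, MulEquiv.orderOf_eq, hx]
  set y := a⁻¹ * x * a with hy
  have hRc : Nat.card (zpowers y) = 13 := by rw [Nat.card_zpowers, h5]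
  have hRp : IsPGroup 13 (zpowers y) := IsPGroup.of_card (n := 1) (by rw [hRc, pow_one])
  have hidx : ¬ 13 ∣ (zpowers y).index := by
    intro h
    apply hsq
    rw [← card_mul_index (zpowers y), hRc, pow_two]
    exact Nat.mul_dvd_mul_left 13 h
  have h6 := Fpr.card_fix_mul (X := G ⧸ H) (hRp.toSylow hidx) (a := ((1 : G) : G ⧸ H)) (by
    intro z hz
    have h7 : zpowers y ≤ H := zpowers_le.2 h4
    have h8 : z ∈ H := h7 hz
    change ((z * 1 : G) : G ⧸ H) = ((1 : G) : G ⧸ H)
    rw [QuotientGroup.eq]
    rw [mul_one, mul_one]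
    exact inv_mem h8)
  have h7 : (((hRp.toSylow hidx) : Sylow 13 G) : Subgroup G) = zpowers y := rfl
  have h8 : {ω : G ⧸ H | ∀ z ∈ (hRp.toSylow hidx : Sylow 13 G), z • ω = ω} = fixedBy (G ⧸ H) y := by
    ext ω
    constructor
    · intro h
      exact h y (mem_zpowers y)
    · intro h z hz
      have h9 : zpowers y ≤ stabilizer G ω := zpowers_le.2 h
      exact h9 hz
  have h9 : stabilizer G ((1 : G) : G ⧸ H) = H := stabilizer_quotient H
  rw [h7, h8, h9, ← Nat.card_coe_set_eq, hf] at h6
  have h10 := norm_mem hRc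
  simp only [List.mem_cons, List.not_mem_nil, or_false] at h10
  have h11 : 0 < Nat.card ↥(normalizer ((zpowers y : Subgroup G) : Set G) ⊓ H) := Nat.card_pos
  refine key B hH hRc (zpowers_le.2 h4) ?_
  omega

def D13 : Dat2 := ⟨13, [], [], [341172], []⟩

/-- the check of one index -/
def fth (d : ℕ) : Bool := d == 1 || Nat.blt d 0 || D13.good n_th d || [82460, 144305, 164920, 247380].contains d ||
  bad l_th n_th [] 30 loc o_th (n_th / d)

theorem all_split {α : Type*} {f : α → Bool} {L : List α} (n : ℕ) (h1 : (L.take n).all f = true)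
    (h2 : (L.drop n).all f = true) : L.all f = true := by
  rw [← List.take_append_drop n L, List.all_append, h1, h2]
  rfl

theorem chk13a : ((divsT l_th).take 800).all fth = true := by decide +kernel

theorem chk13b : (((divsT l_th).drop 800).take 1000).all fth = true := by decide +kernel

theorem chk13c : ((((divsT l_th).drop 800).drop 1000).take 800).all fth = true := by decide +kernel

theorem chk13d : (((((divsT l_th).drop 800).drop 1000).drop 800).take 1400).all fth = true := by decide +kernel

theorem chk13e : ((((((divsT l_th).drop 800).drop 1000).drop 800).drop 1400).take 4000).all fth = true := by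
  decide +kernel

theorem chk13f : ((((((divsT l_th).drop 800).drop 1000).drop 800).drop 1400).drop 4000).all fth = true := by
  decide +kernel

theorem chk13 : rcheck2 l_th n_th D13 0 [82460, 144305, 164920, 247380] 30 loc o_th = true :=
  show (divsT l_th).all fth = true from all_split 800 chk13a (all_split 1000 chk13b (all_split 800 chk13c
    (all_split 1400 chk13d (all_split 4000 chk13e chk13f))))

theorem exB : ∀ d ∈ ([82460, 164920, 247380] : List ℕ), ((([468, 12636, 341172] : List ℕ)).all fun N => exactB 13 N d) = true := by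
  decide +kernel

theorem row13 (B : Base) : FprRow 14 1 13 G := by
  have h13 : Nat.Prime 13 := by norm_num
  have := Fact.mk h13
  have hsq : ¬ 13 ^ 2 ∣ Nat.card G := by rw [card]; decide
  have hd : 13 ∣ Nat.card G := by rw [card]; decide
  refine row_of_check2 (ctx B) (D := D13) (lb := 0) (allow := [82460, 144305, 164920, 247380])
    (bd := 30) ⟨by decide +kernel, by simp [D13], by simp [D13], ?_, by simp [D13]⟩ chk13 lb_zero ?_
  · intro N hN R hR
    have hN' : N ∈ ([341172] : List ℕ) := hN
    rw [List.mem_singleton.1 hN']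
    have h1 := norm_mem hR
    simp only [List.mem_cons, List.not_mem_nil, or_false] at h1
    rcases h1 with h1 | h1 | h1 <;> rw [h1] <;> norm_num
  · intro H _ hH
    by_cases h1 : H.index = 144305
    · obtain ⟨x, hx⟩ := exists_prime_orderOf_dvd_card' (G := G) 13 hd
      refine ⟨x, ⟨1, hx⟩, ?_⟩
      have h2 : Nat.card (G ⧸ H) = 144305 := h1
      rw [h2, one_mul]
      exact fix_le B h1 hx
    · refine fix_of_exactB h13 hd hsq (LN := [468, 12636, 341172]) (fun R hR => norm_mem hR) ?_
      simp only [List.mem_cons, List.not_mem_nil, or_false] at hH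
      apply exB
      simp only [List.mem_cons, List.not_mem_nil, or_false]
      rcases hH with h2 | h2 | h2 | h2
      · exact Or.inl h2
      · exact absurd h2 h1
      · exact Or.inr (Or.inl h2)
      · exact Or.inr (Or.inr h2)

/-- **the rows of `Th`** -/
theorem row (B : Base) {p : ℕ} (hp : p.Prime) (hd : p ∣ Nat.card G) : FprRow (p + 1) 1 p G := by
  have h1 := valid_mem v_th hp (by rw [← card]; exact hd)
  simp only [l_th, List.map_cons, List.map_nil, List.mem_cons, List.not_mem_nil, or_false] at h1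
  rcases h1 with rfl | rfl | rfl | rfl | rfl | rfl | rfl
  · exact FprTh.row2 B
  · exact FprTh.row3 B
  · exact FprTh.row5 B
  · exact FprTh.row7 B
  · exact row13 B
  · exact FprTh.row19 B
  · exact FprTh.row31 B

universe v in
theorem rowIso (B : Base) {S : Type v} [Group S] (h : Cfsg.Spor.IsoTh S) {p : ℕ} (hp : p.Prime)
    (hd : p ∣ Nat.card S) : FprRow (p + 1) 1 p S := by
  obtain ⟨e⟩ := h
  exact (row B hp (by rw [← Nat.card_congr e.toEquiv]; exact hd)).of_mulEquiv hp e.symm

end Cfsg.Agent.H444.FprThB
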