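import Cfsg.Agent.H715.Fpr.M11
import Cfsg.Agent.H715.Fpr.M12
import Cfsg.Agent.H715.Fpr.M22
import Cfsg.Agent.H715.Fpr.M23
import Cfsg.Agent.H715.Fpr.M24
import Cfsg.Agent.H715.Fpr.HS
import Cfsg.Agent.H715.Fpr.J1
import Cfsg.Agent.H715.Fpr.J2
import Cfsg.Agent.H715.Fpr.J3
import Cfsg.Agent.H715.Fpr.J4
import Cfsg.Agent.H715.Fpr.McL
import Cfsg.Agent.H435.Fpr.McLRow
import Cfsg.Agent.H147.Fpr.Co3
import Cfsg.Agent.H147.Fpr.He
import Cfsg.Agent.H147.Fpr.RuOdd
import Cfsg.Agent.H147.Fpr.Suz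
import Cfsg.Agent.H147.Fpr.ON
import Cfsg.Agent.H438.Fpr.HNC
import Cfsg.Agent.H438.Fpr.LyC
import Cfsg.Agent.H438.Fpr.TitsB
import Cfsg.Agent.H433.Fpr.Fi22
import Cfsg.Agent.H433.Fpr.Fi23
import Cfsg.Agent.H435.Fpr.FiTwentyFour
import Cfsg.Agent.H444.FprThB
import Cfsg.Agent.H444.FprCo
import Cfsg.Agent.H444.FprThirteen
import Cfsg.Agent.H444.FprOdd

/-!
# The fixed point ratios of the sporadic groups (helper444)

* `spor` : `FprRow (p + 1) 1 p S` for the 26 sporadic groups and every prime `p` dividing the order (the rows of the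
  Baby Monster and the Monster not yet done are hypotheses);
* `sporTwoK` : `FprRow (2 * p - 1) (p - 1) p S`, complete;
* `tits`, `titsTwoK` : the same for the Tits group.
-/

set_option autoImplicit false
open Subgroup MulAction
open scoped Pointwise

namespace Cfsg.Agent.H444.FprSporAll

open Cfsg
open Cfsg.Agent.H409 (FprRow)
open Cfsg.Agent.H940.Eng (Base)

universe u

variable {S : Type u} [Group S]

/-- Sylow subgroups of prime order -/
theorem row_of_prime_order {p : ℕ} (hp : p.Prime) [Finite S] [IsSimpleGroup S] (hd : p ∣ Nat.card S)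
    (hn : ¬ p ^ 2 ∣ Nat.card S) : FprRow (2 * p - 1) (p - 1) p S := by
  have : Fact p.Prime := ⟨hp⟩
  obtain ⟨P⟩ : Nonempty (Sylow p S) := inferInstance
  obtain ⟨k, hk⟩ := IsPGroup.iff_card.1 P.isPGroup'
  have hc : Nat.card P = p := by
    have h1 : p ∣ Nat.card P := P.dvd_card_of_dvd_card hd
    have h2 : k < 2 := by
      by_contra h
      exact hn ((pow_dvd_pow p (not_lt.1 h)).trans (hk ▸ P.card_subgroup_dvd_card))
    have h3 : k ≠ 0 := by
      rintro rfl
      rw [hk, pow_zero, Nat.dvd_one] at h1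
      exact hp.one_lt.ne' h1
    rw [hk, show k = 1 by omega, pow_one]
  exact Cfsg.Agent.H444.Fpr.row_of_cyclic (Cfsg.Agent.H444.Fpr.pGen_of_simple hd) P (isCyclic_of_prime_card hc)

/-- from `1 / (p + 1)` to `(p - 1) / (2 p - 1)` -/
theorem mono {p : ℕ} (hp : p.Prime) [Finite S] (h : FprRow (p + 1) 1 p S) : FprRow (2 * p - 1) (p - 1) p S := by
  refine h.mono (by norm_num) ?_
  obtain ⟨k, rfl⟩ : ∃ k, p = k + 2 := ⟨p - 2, by have := hp.two_le; omega⟩
  have h1 : 2 * (k + 2) - 1 = 2 * k + 3 := by omega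
  have h2 : k + 2 - 1 = k + 1 := by omega
  rw [h1, h2]
  nlinarith

theorem dvd_prod_cases {p : ℕ} (hp : p.Prime) {q n : ℕ} (hq : q.Prime) (h : p ∣ q * n) : p = q ∨ p ∣ n :=
  (hp.dvd_mul.1 h).imp_left (Nat.prime_dvd_prime_iff_eq hp hq).1

theorem primes_b {p : ℕ} (hp : p.Prime) (hd : p ∣ 4154781481226426191177580544000000) :
    p = 2 ∨ p = 3 ∨ p = 5 ∨ p = 7 ∨ p = 11 ∨ p = 13 ∨ p = 17 ∨ p = 19 ∨ p = 23 ∨ p = 31 ∨ p = 47 := by
  have h : p ∣ 2 * (3 * (5 * (7 * (11 * (13 * (17 * (19 * (23 * (31 * (47 * 1)))))))))) := by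
    refine hp.dvd_of_dvd_pow (n := 41) (hd.trans ?_)
    norm_num
  rcases dvd_prod_cases hp (by norm_num) h with h | h
  · tauto
  rcases dvd_prod_cases hp (by norm_num) h with h | h
  · tauto
  rcases dvd_prod_cases hp (by norm_num) h with h | h
  · tauto
  rcases dvd_prod_cases hp (by norm_num) h with h | h
  · tauto
  rcases dvd_prod_cases hp (by norm_num) h with h | h
  · tauto
  rcases dvd_prod_cases hp (by norm_num) h with h | h
  · tauto
  rcases dvd_prod_cases hp (by norm_num) h with h | h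
  · tauto
  rcases dvd_prod_cases hp (by norm_num) h with h | h
  · tauto
  rcases dvd_prod_cases hp (by norm_num) h with h | h
  · tauto
  rcases dvd_prod_cases hp (by norm_num) h with h | h
  · tauto
  rcases dvd_prod_cases hp (by norm_num) h with h | h
  · tauto
  · exact absurd (Nat.dvd_one.1 h) hp.one_lt.ne'

theorem primes_m {p : ℕ} (hp : p.Prime) (hd : p ∣ 808017424794512875886459904961710757005754368000000000) :
    p = 2 ∨ p = 3 ∨ p = 5 ∨ p = 7 ∨ p = 11 ∨ p = 13 ∨ p = 17 ∨ p = 19 ∨ p = 23 ∨ p = 29 ∨ p = 31 ∨ p = 41 ∨ p = 47 ∨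
      p = 59 ∨ p = 71 := by
  have h : p ∣ 2 * (3 * (5 * (7 * (11 * (13 * (17 * (19 * (23 * (29 * (31 * (41 * (47 * (59 * (71 * 1))))))))))))))
      := by
    refine hp.dvd_of_dvd_pow (n := 46) (hd.trans ?_)
    norm_num
  rcases dvd_prod_cases hp (by norm_num) h with h | h
  · tauto
  rcases dvd_prod_cases hp (by norm_num) h with h | h
  · tauto
  rcases dvd_prod_cases hp (by norm_num) h with h | h
  · tauto
  rcases dvd_prod_cases hp (by norm_num) h with h | h
  · tauto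
  rcases dvd_prod_cases hp (by norm_num) h with h | h
  · tauto
  rcases dvd_prod_cases hp (by norm_num) h with h | h
  · tauto
  rcases dvd_prod_cases hp (by norm_num) h with h | h
  · tauto
  rcases dvd_prod_cases hp (by norm_num) h with h | h
  · tauto
  rcases dvd_prod_cases hp (by norm_num) h with h | h
  · tauto
  rcases dvd_prod_cases hp (by norm_num) h with h | h
  · tauto
  rcases dvd_prod_cases hp (by norm_num) h with h | h
  · tauto
  rcases dvd_prod_cases hp (by norm_num) h with h | h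
  · tauto
  rcases dvd_prod_cases hp (by norm_num) h with h | h
  · tauto
  rcases dvd_prod_cases hp (by norm_num) h with h | h
  · tauto
  rcases dvd_prod_cases hp (by norm_num) h with h | h
  · tauto
  · exact absurd (Nat.dvd_one.1 h) hp.one_lt.ne'

/-! ### the Baby Monster and the Monster -/

section BM

open Cfsg.Agent.BabyM Cfsg.Agent.BabyM.Model Cfsg.Agent.KFacts.AutLarge
open Cfsg.Agent.BabyU.ClosModel Cfsg.Agent.BabyU.ClosLane Cfsg.Agent.KFacts

theorem card_b [IsSimpleGroup S] (h : Spor.IsoB S) : Nat.card S = 4154781481226426191177580544000000 := by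
  obtain ⟨e⟩ := Baby.Sheet.exists_iso_of_isoB h
  rw [← Nat.card_congr e.toEquiv, A.card_G]

theorem finite_b [IsSimpleGroup S] (h : Spor.IsoB S) : Finite S :=
  Nat.finite_of_card_ne_zero (by rw [card_b h]; norm_num)

theorem card_m (h : Spor.IsoM S) : Nat.card S = 808017424794512875886459904961710757005754368000000000 := by
  obtain ⟨f⟩ := h
  obtain ⟨g⟩ := MonsterP.Equiv.equiv
  rw [Nat.card_congr (f.trans g).toEquiv, FprM.card_M]

theorem finite_m (h : Spor.IsoM S) : Finite S := Nat.finite_of_card_ne_zero (by rw [card_m h]; norm_num)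

theorem rowB_two [IsSimpleGroup S] (h : Spor.IsoB S) : FprRow 3 1 2 S := Cfsg.Agent.H435.Fpr.Baby.fprRow h

/-- `FprRow (2 p - 1) (p - 1) p` for the Baby Monster -/
theorem twoKB (B : Base) [IsSimpleGroup S] (h : Spor.IsoB S) {p : ℕ} (hp : p.Prime) (hd : p ∣ Nat.card S) :
    FprRow (2 * p - 1) (p - 1) p S := by
  have := finite_b h
  have hc := card_b h
  rcases primes_b hp (hc ▸ hd) with h1 | h1 | h1 | h1 | h1 | h1 | h1 | h1 | h1 | h1 | h1
  · subst h1
    exact rowB_two h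
  · exact mono hp (FprBM.rowIsoB B h (by tauto))
  · exact mono hp (FprBM.rowIsoB B h (by tauto))
  · exact mono hp (FprBM.rowIsoB B h (by tauto))
  · exact mono hp (FprBM.rowIsoB B h (by tauto))
  · exact row_of_prime_order hp hd (by rw [hc, h1]; norm_num)
  · exact row_of_prime_order hp hd (by rw [hc, h1]; norm_num)
  · exact row_of_prime_order hp hd (by rw [hc, h1]; norm_num)
  · exact mono hp (FprBM.rowIsoB B h (by tauto))
  · exact row_of_prime_order hp hd (by rw [hc, h1]; norm_num)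
  · exact row_of_prime_order hp hd (by rw [hc, h1]; norm_num)

/-- `FprRow (2 p - 1) (p - 1) p` for the Monster -/
theorem twoKM (B : Base) [IsSimpleGroup S] (h : Spor.IsoM S) {p : ℕ} (hp : p.Prime) (hd : p ∣ Nat.card S) :
    FprRow (2 * p - 1) (p - 1) p S := by
  have := finite_m h
  have hc := card_m h
  rcases primes_m hp (hc ▸ hd) with h1 | h1 | h1 | h1 | h1 | h1 | h1 | h1 | h1 | h1 | h1 | h1 | h1 | h1 | h1
  · subst h1
    exact FprM.rowIso_two h
  · exact mono hp (FprBM.rowIsoM B h (by tauto))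
  · exact mono hp (FprBM.rowIsoM B h (by tauto))
  · exact mono hp (FprBM.rowIsoM B h (by tauto))
  · exact mono hp (FprBM.rowIsoM B h (by tauto))
  · subst h1
    exact FprThirteen.rowIso' B h
  · exact row_of_prime_order hp hd (by rw [hc, h1]; norm_num)
  · exact row_of_prime_order hp hd (by rw [hc, h1]; norm_num)
  · exact mono hp (FprBM.rowIsoM B h (by tauto))
  · exact row_of_prime_order hp hd (by rw [hc, h1]; norm_num)
  · exact row_of_prime_order hp hd (by rw [hc, h1]; norm_num)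
  · exact row_of_prime_order hp hd (by rw [hc, h1]; norm_num)
  · exact row_of_prime_order hp hd (by rw [hc, h1]; norm_num)
  · exact row_of_prime_order hp hd (by rw [hc, h1]; norm_num)
  · exact row_of_prime_order hp hd (by rw [hc, h1]; norm_num)

/-- `FprRow (p + 1) 1 p` for the Baby Monster -/
theorem sharpB (B : Base) [IsSimpleGroup S] (h : Spor.IsoB S) {p : ℕ} (hp : p.Prime) (hd : p ∣ Nat.card S)
    (ho : p = 13 ∨ p = 17 ∨ p = 19 ∨ p = 31 ∨ p = 47 → FprRow (p + 1) 1 p S) : FprRow (p + 1) 1 p S := by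
  rcases primes_b hp (card_b h ▸ hd) with h1 | h1 | h1 | h1 | h1 | h1 | h1 | h1 | h1 | h1 | h1
  · subst h1
    exact rowB_two h
  all_goals first
  | exact FprBM.rowIsoB B h (by tauto)
  | exact ho (by tauto)

/-- `FprRow (p + 1) 1 p` for the Monster -/
theorem sharpM (B : Base) (h : Spor.IsoM S) {p : ℕ} (hp : p.Prime) (hd : p ∣ Nat.card S)
    (ho : p = 17 ∨ p = 19 ∨ p = 29 ∨ p = 31 ∨ p = 41 ∨ p = 47 ∨ p = 59 ∨ p = 71 → FprRow (p + 1) 1 p S) :
    FprRow (p + 1) 1 p S := by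
  rcases primes_m hp (card_m h ▸ hd) with h1 | h1 | h1 | h1 | h1 | h1 | h1 | h1 | h1 | h1 | h1 | h1 | h1 | h1 | h1
  · subst h1
    exact FprM.rowIso_two h
  · exact FprBM.rowIsoM B h (by tauto)
  · exact FprBM.rowIsoM B h (by tauto)
  · exact FprBM.rowIsoM B h (by tauto)
  · exact FprBM.rowIsoM B h (by tauto)
  · subst h1
    exact FprThirteen.rowIso B h
  all_goals first
  | exact FprBM.rowIsoM B h (by tauto)
  | exact ho (by tauto)

end BM

/-! ### all sporadic groups -/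

/-- the sharp rows of `McL` -/
theorem sharpMcL (B : Base) (h : Spor.IsoMcL S) {p : ℕ} (hp : p.Prime) (hd : p ∣ Nat.card S) :
    FprRow (p + 1) 1 p S := by
  rcases eq_or_ne p 2 with rfl | hp2
  · exact Cfsg.Agent.H435.Fpr.fprRow_mcL_two h
  · exact Cfsg.Agent.H715.Fpr.McL.rowIso B h hp hp2 hd

/-- the sporadic groups other than `B` and `M` -/
theorem spor_or (B : Base) (h : Cfsg.IsSporadicGroup S) {p : ℕ} (hp : p.Prime) (hd : p ∣ Nat.card S) :
    FprRow (p + 1) 1 p S ∨ Spor.IsoB S ∨ Spor.IsoM S := by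
  rcases h with h | h | h | h | h | h | h | h | h | h | h | h | h | h | h | h | h | h | h | h | h | h | h | h | h | h
  · exact Or.inl (Cfsg.Agent.H715.Fpr.M11.rowIso B h hp hd)
  · exact Or.inl (Cfsg.Agent.H715.Fpr.M12.rowIso B h hp hd)
  · exact Or.inl (Cfsg.Agent.H715.Fpr.M22.rowIso B h hp hd)
  · exact Or.inl (Cfsg.Agent.H715.Fpr.M23.rowIso B h hp hd)
  · exact Or.inl (Cfsg.Agent.H715.Fpr.M24.rowIso B h hp hd)
  · exact Or.inl (Cfsg.Agent.H715.Fpr.J1.rowIso B h hp hd)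
  · exact Or.inl (Cfsg.Agent.H715.Fpr.J2.rowIso B h hp hd)
  · exact Or.inl (Cfsg.Agent.H715.Fpr.J3.rowIso B h hp hd)
  · exact Or.inl (Cfsg.Agent.H715.Fpr.J4.rowIso B h hp hd)
  · exact Or.inl (FprCo.rowIso1 B h hp hd)
  · exact Or.inl (FprCo.rowIso2 B h hp hd)
  · exact Or.inl (Cfsg.Agent.H147.Fpr.Co3.rowIso B h hp hd)
  · exact Or.inl (sharpMcL B h hp hd)
  · exact Or.inl (Cfsg.Agent.H715.Fpr.HS.rowIso B h hp hd)
  · exact Or.inl (Cfsg.Agent.H147.Fpr.Suz.rowIso B h hp hd)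
  · exact Or.inl (Cfsg.Agent.H147.Fpr.He.rowIso B h hp hd)
  · exact Or.inl (Cfsg.Agent.H147.Fpr.RuOdd.rowIso B h hp hd)
  · exact Or.inl (Cfsg.Agent.H147.Fpr.ONan.rowIso B h hp hd)
  · exact Or.inl (Cfsg.Agent.H438.Fpr.Ly.rowIso B h hp hd)
  · exact Or.inl (Cfsg.Agent.H433.Fpr.Fi22.rowIso B h hp hd)
  · exact Or.inl (Cfsg.Agent.H433.Fpr.Fi23.rowIso B h hp hd)
  · exact Or.inl (Cfsg.Agent.H435.Fpr.FiTwentyFour.rowIso B h hp hd)
  · exact Or.inl (Cfsg.Agent.H438.Fpr.HN.rowIso B h hp hd)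
  · exact Or.inl (FprThB.rowIso B h hp hd)
  · exact Or.inr (Or.inl h)
  · exact Or.inr (Or.inr h)

/-- **`FprRow (p + 1) 1 p` for the sporadic groups** (open rows of `B` and `M` as hypotheses) -/
theorem spor_of (B : Base) [IsSimpleGroup S] (h : Cfsg.IsSporadicGroup S) {p : ℕ} (hp : p.Prime)
    (hd : p ∣ Nat.card S)
    (hb : Spor.IsoB S → p = 13 ∨ p = 17 ∨ p = 19 ∨ p = 31 ∨ p = 47 → FprRow (p + 1) 1 p S)
    (hm : Spor.IsoM S → p = 17 ∨ p = 19 ∨ p = 29 ∨ p = 31 ∨ p = 41 ∨ p = 47 ∨ p = 59 ∨ p = 71 →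
      FprRow (p + 1) 1 p S) : FprRow (p + 1) 1 p S := by
  rcases spor_or B h hp hd with h1 | h1 | h1
  · exact h1
  · exact sharpB B h1 hp hd (hb h1)
  · exact sharpM B h1 hp hd (hm h1)

/-- **`FprRow (2 p - 1) (p - 1) p` for the sporadic groups** -/
theorem sporTwoK (B : Base) [Finite S] [IsSimpleGroup S] (h : Cfsg.IsSporadicGroup S) {p : ℕ} (hp : p.Prime)
    (hd : p ∣ Nat.card S) : FprRow (2 * p - 1) (p - 1) p S := by
  rcases spor_or B h hp hd with h1 | h1 | h1
  · exact mono hp h1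
  · exact twoKB B h1 hp hd
  · exact twoKM B h1 hp hd

/-- **`FprRow (p + 1) 1 p` for the Tits group** -/
theorem tits (B : Base) (h : Cfsg.Lie.IsoTits S) {p : ℕ} (hp : p.Prime) (hd : p ∣ Nat.card S) :
    FprRow (p + 1) 1 p S :=
  Cfsg.Agent.H438.Fpr.Tits.rowIso B h hp hd

/-- **`FprRow (2 p - 1) (p - 1) p` for the Tits group** -/
theorem titsTwoK (B : Base) [Finite S] (h : Cfsg.Lie.IsoTits S) {p : ℕ} (hp : p.Prime) (hd : p ∣ Nat.card S) :
    FprRow (2 * p - 1) (p - 1) p S :=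
  mono hp (tits B h hp hd)

end Cfsg.Agent.H444.FprSporAll
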