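import Cfsg.Agent.H444.FprSporAll
import Cfsg.Agent.H444.FprBThirteen
import Cfsg.Agent.H715.Mon.Row
import Cfsg.Agent.H715.Mon.RowB47
import Cfsg.Agent.H438.Fpr.MonG

/-!
# The sharp fixed point ratios of the sporadic groups, complete (helper444)

* `spor` : `FprRow (p + 1) 1 p S` for the 26 sporadic groups and every prime `p` dividing the order.
-/

set_option autoImplicit false

namespace Cfsg.Agent.H444.FprSporFin

open Cfsg
open Cfsg.Agent.H409 (FprRow)
open Cfsg.Agent.H940.Eng (Base)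

universe u

variable {S : Type u} [Group S]

/-- the open rows of the Baby Monster -/
theorem rowB (B : Base) (h : Spor.IsoB S) {p : ℕ} (hp : p = 13 ∨ p = 17 ∨ p = 19 ∨ p = 31 ∨ p = 47) :
    FprRow (p + 1) 1 p S := by
  rcases hp with rfl | hp
  · exact FprBThirteen.rowIso B h
  · exact Cfsg.Agent.H715.Mon.RowB.rowIso_all B h hp

/-- the open rows of the Monster -/
theorem rowM (B : Base) (h : Spor.IsoM S) {p : ℕ}
    (hp : p = 17 ∨ p = 19 ∨ p = 29 ∨ p = 31 ∨ p = 41 ∨ p = 47 ∨ p = 59 ∨ p = 71) : FprRow (p + 1) 1 p S := by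
  have h3 := Cfsg.Agent.H715.Mon.Grp.three B
  rcases hp with hp | hp | hp | hp | hp | hp | hp | hp
  · exact Cfsg.Agent.H715.Mon.Row.rowIso B h (Or.inl hp)
  · exact Cfsg.Agent.H715.Mon.Row.rowIso B h (Or.inr (Or.inl hp))
  · exact Cfsg.Agent.H438.Fpr.Mon.rowIso B h3 h (Or.inl hp)
  · exact Cfsg.Agent.H715.Mon.Row.rowIso B h (Or.inr (Or.inr hp))
  · exact Cfsg.Agent.H438.Fpr.Mon.rowIso B h3 h (Or.inr (Or.inl hp))
  · subst hp
    exact FprMBig.transfer (by norm_num) (FprMChain.row_47 fun T _ _ hT => B.known T hT) h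
  · exact Cfsg.Agent.H438.Fpr.Mon.rowIso B h3 h (Or.inr (Or.inr (Or.inl hp)))
  · exact Cfsg.Agent.H438.Fpr.Mon.rowIso B h3 h (Or.inr (Or.inr (Or.inr hp)))

/-- **`FprRow (p + 1) 1 p` for the sporadic groups** -/
theorem spor (B : Base) [IsSimpleGroup S] (h : Cfsg.IsSporadicGroup S) {p : ℕ} (hp : p.Prime)
    (hd : p ∣ Nat.card S) : FprRow (p + 1) 1 p S :=
  FprSporAll.spor_of B h hp hd (fun hb h1 => rowB B hb h1) (fun hm h1 => rowM B hm h1)

end Cfsg.Agent.H444.FprSporFin
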