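import Cfsg.Agent.H444.ThLoc
import Cfsg.Agent.H444.FprCount

/-!
# Fixed point ratios: the Thompson group (helper444)
-/

set_option autoImplicit false

namespace Cfsg.Agent.H444.FprTh

open Subgroup MulAction Cfsg Cfsg.Agent.OrdDiv Cfsg.Agent.H940 Cfsg.Agent.H940.Eng Cfsg.Agent.H940.Eng.D
open Cfsg.Agent.H715.Fpr Cfsg.Agent.H409 Cfsg.Agent.H444.ThLoc

theorem acts19 {p : ℕ} (hp : isPrimeB p = true) (h : (342 % p ^ 1 == 0 && 19 % p ^ 1 != 0) = true) : Acts p 19 G :=
  acts_of card hp (by decide +kernel) (by decide +kernel) (fun _ hR => cn19 hR) 1 h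

theorem acts31 : Acts 5 31 G := by
  obtain ⟨h1, h2⟩ := cn31 card_w
  refine acts_of_card (by norm_num) (by norm_num) card_w 1 (by rw [h2]; norm_num) ?_
  rcases h1 with h1 | h1 <;> rw [h1] <;> norm_num

theorem row2 (B : Base) : FprRow 3 1 2 G :=
  row_of_act2 (ctx B) (q := 19) (N := 342) (by decide +kernel) (by decide +kernel) (by decide +kernel)
    (acts19 (by decide +kernel) (by decide +kernel)) (fun _ hR => (cn19 hR).2.le) 61 0 lb_zero 30 (by decide +kernel)

theorem row3 (B : Base) : FprRow 4 1 3 G :=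
  row_of_act2 (ctx B) (q := 19) (N := 342) (by decide +kernel) (by decide +kernel) (by decide +kernel)
    (acts19 (by decide +kernel) (by decide +kernel)) (fun _ hR => (cn19 hR).2.le) 87 0 lb_zero 30 (by decide +kernel)

theorem row5 (B : Base) : FprRow 6 1 5 G :=
  row_of_act2 (ctx B) (q := 31) (N := 465) (by decide +kernel) (by decide +kernel) (by decide +kernel)
    acts31 (fun _ hR => (cn31 hR).2.le) 108 0 lb_zero 30 (by decide +kernel)

theorem row19 (B : Base) : FprRow 20 1 19 G :=
  row_of_norm2 (ctx B) (by decide +kernel) (fun _ hR => (cn19 hR).2.le) 360 0 lb_zero 30 (by decide +kernel)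

theorem row31 (B : Base) : FprRow 32 1 31 G :=
  row_of_norm2 (ctx B) (by decide +kernel) (fun _ hR => (cn31 hR).2.le) 480 0 lb_zero 30 (by decide +kernel)

/-! ### the prime 7 -/

theorem fact_eq {p k m : ℕ} (hp : p.Prime) (hm : ¬ p ∣ m) : (p ^ k * m).factorization p = k := by
  have hm0 : m ≠ 0 := by rintro rfl; exact hm (dvd_zero p)
  rw [Nat.factorization_mul (pow_ne_zero k hp.ne_zero) hm0, Finsupp.add_apply, hp.factorization_pow,
    Finsupp.single_eq_same, Nat.factorization_eq_zero_of_not_dvd hm, add_zero]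

theorem seven_big {H : Subgroup G} (hH : H.index = 7657) {x : G} (hx : orderOf x = 7) :
    8 * Nat.card (fixedBy (G ⧸ H) x) ≤ 7657 := by
  have h7 : Nat.Prime 7 := by norm_num
  have := Fact.mk h7
  have hc : Nat.card H = 11851370496000 := by
    have h1 := card_mul_index H
    rw [card, hH, n_th] at h1
    omega
  obtain ⟨P⟩ : Nonempty (Sylow 7 H) := inferInstance
  have hP : Nat.card P = 49 := by
    have h1 := Sylow.card_eq_multiplicity P
    rw [hc, show (11851370496000 : ℕ) = 7 ^ 2 * 241864704000 by norm_num, fact_eq h7 (by norm_num)] at h1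
    exact h1
  have h1 := FprCount.fix_mul_norm_le h7 P hP hx
  obtain ⟨j, hj, hj1⟩ := FprCount.card_norm_modEq h7 P hP
  rw [hj, card_seven hx] at h1
  rw [hc] at hj1
  have h2 : j % 7 = 3 := hj1
  have h3 : 3 ≤ j := by
    have := Nat.mod_le j 7
    omega
  have h4 : Nat.card (fixedBy (G ⧸ H) x) * (49 * 3) ≤ (49 - 1) * 1176 :=
    (Nat.mul_le_mul_left _ (Nat.mul_le_mul_left 49 h3)).trans h1
  omega

theorem row7 (B : Base) : FprRow 8 1 7 G := by
  have h7 : Nat.Prime 7 := by norm_num
  have := Fact.mk h7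
  obtain ⟨x, hx⟩ := exists_prime_orderOf_dvd_card' (G := G) 7 (by rw [card]; decide)
  refine row_of_small (ctx B) (D := ⟨7, [], [1176], [], []⟩) (K := 9408) (lb := 0) (allow := [7657]) (bd := 30)
    ⟨by decide +kernel, by simp, ?_, by simp, by simp⟩ (by decide +kernel) lb_zero ?_
  · intro c hc
    rw [List.mem_singleton.1 hc]
    exact ⟨x, ⟨1, hx⟩, (card_seven hx).le⟩
  · intro H _ hH2
    have h1 := List.mem_singleton.1 hH2
    refine ⟨x, ⟨1, hx⟩, ?_⟩
    have h2 : Nat.card (G ⧸ H) = 7657 := h1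
    rw [h2, one_mul]
    exact seven_big h1 hx

end Cfsg.Agent.H444.FprTh
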