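import Cfsg.Agent.H964.NoHall.RowTh

/-!
# An element of order 31 of the Thompson group and an element of order 5 normalizing it (helper444)
-/

set_option autoImplicit false
set_option Elab.async false

namespace Cfsg.Agent.H444.ThWord

open Subgroup Cfsg Cfsg.Agent.H964.NoHall
open Cfsg.Agent.Th.Gen248 Cfsg.Agent.Th.Hom248 Cfsg.Agent.Th.Final

/-- an element of order 31 -/
def wW : Wd := wl [.d, .S, .u, .d, .b, .c, .t, .a, .b]

/-- the second factor of `wF` -/
def wG : Wd := wl [.d, .u, .d, .s, .T, .e, .U, .S, .e, .d, .U, .d, .S, .S]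

/-- an element of order 5 -/
def wF : Wd := .mul (.mul (.mul (.pow (.inv wW) 2) (.g .a)) (.pow wW 2)) wG

set_option maxRecDepth 100000 in
theorem wW_31 : Nat.beq (evN false (.mul (.pow (.pow wW 5) 6) wW)) (evN false .one) = true := by decide +kernel

set_option maxRecDepth 100000 in
theorem wW_ne : Nat.beq (evN false wW) (evN false .one) = false := by decide +kernel

set_option maxRecDepth 100000 in
theorem wF_5 : Nat.beq (evN false (.pow wF 5)) (evN false .one) = true := by decide +kernel

set_option maxRecDepth 100000 in
theorem wWF : Nat.beq (evN false (.mul wW wF)) (evN false (.mul wF (.pow (.pow wW 4) 4))) = true := by decide +kernel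

/-- the element of order 31 -/
noncomputable def w : Spor.Th := thE wW
/-- the element of order 5 -/
noncomputable def f : Spor.Th := thE wF

theorem w_order : orderOf w = 31 := by
  have : Fact (Nat.Prime 31) := ⟨by norm_num⟩
  apply orderOf_eq_prime
  · have h := thE_eq wW_31
    rw [thE_mul, thE_pow, thE_pow, ← pow_mul, ← pow_succ, thE_one] at h
    exact h
  · have h := thE_ne wW_ne
    rwa [thE_one] at h

theorem w_conj : w * f = f * w ^ 16 := by
  have h := thE_eq wWF
  rwa [thE_mul, thE_mul, thE_pow, thE_pow, ← pow_mul] at h

theorem f_order : orderOf f = 5 := by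
  have : Fact (Nat.Prime 5) := ⟨by norm_num⟩
  apply orderOf_eq_prime
  · have h := thE_eq wF_5
    rw [thE_pow, thE_one] at h
    exact h
  · intro h
    have h1 := w_conj
    rw [h, one_mul, mul_one] at h1
    have h2 : w ^ 15 = 1 := by
      have h3 : w * w ^ 15 = w * 1 := by rw [← pow_succ', mul_one]; exact h1.symm
      exact mul_left_cancel h3
    have h3 := orderOf_dvd_of_pow_eq_one h2
    rw [w_order] at h3
    norm_num at h3

end Cfsg.Agent.H444.ThWord
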