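import Mathlib
import Cfsg.Agent.H444.ZNSit
import Cfsg.Agent.H444.RankTwoMain
import Cfsg.Agent.S0215
import Cfsg.Agent.BpAlt.Row

/-!
# ZN-groups: the case of 2-rank at most two
-/

set_option autoImplicit false
set_option linter.unusedSectionVars false

namespace Cfsg.Agent.H444.ZNSit

open Subgroup Cfsg Cfsg.Agent.StdEven.Syl Cfsg.Agent.TwoFusion.RankTwoBasic
open Cfsg.Agent.H444.RankTwoMain.Hyp (fourGroup mem_fourGroup card_fourGroup)

variable {G : Type*} [Group G] [Finite G] {S H : Subgroup G}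

/-- `x ∈ Ω₁(Z(S))` -/
def InZ (S : Subgroup G) (x : G) : Prop := x ∈ S ∧ x * x = 1 ∧ ∀ s ∈ S, s * x = x * s

theorem InZ.one : InZ S 1 := ⟨one_mem _, one_mul _, fun s _ => by rw [one_mul, mul_one]⟩

theorem InZ.mul {x y : G} (hx : InZ S x) (hy : InZ S y) : InZ S (x * y) := by
  refine ⟨mul_mem hx.1 hy.1, ?_, fun s hs => ?_⟩
  · calc x * y * (x * y) = x * (y * x) * y := by group
      _ = x * (x * y) * y := by rw [hx.2.2 y hy.1]
      _ = (x * x) * (y * y) := by group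
      _ = 1 := by rw [hx.2.1, hy.2.1, mul_one]
  · rw [← mul_assoc, hx.2.2 s hs, mul_assoc, hy.2.2 s hs, mul_assoc]

theorem InZ.comm {x y : G} (hx : InZ S x) (hy : InZ S y) : x * y = y * x := hy.2.2 x hx.1

/-- `Ω₁(Z(S))` -/
def zSub (S : Subgroup G) : Subgroup G where
  carrier := {x | InZ S x}
  one_mem' := InZ.one
  mul_mem' := InZ.mul
  inv_mem' := fun {x} hx => by
    have h1 : x⁻¹ = x := inv_eq_of_mul_eq_one_right hx.2.1
    rw [h1]
    exact hx

theorem mem_zSub {x : G} : x ∈ zSub S ↔ InZ S x := Iff.rfl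

theorem zSub_isPGroup (S : Subgroup G) : IsPGroup 2 (zSub S) := fun x => ⟨1, by
  rw [pow_one]
  apply Subtype.ext
  rw [pow_two]
  exact x.2.2.1⟩

theorem isPGroup_zpowers {x : G} (hx : x * x = 1) : IsPGroup 2 (Subgroup.zpowers x) := by
  rintro ⟨_, i, rfl⟩
  refine ⟨1, Subtype.ext ?_⟩
  show (x ^ i) ^ 2 ^ 1 = 1
  rw [pow_one, ← zpow_natCast, ← zpow_mul, mul_comm, zpow_mul, zpow_natCast, pow_two, hx, one_zpow]

/-- conjugates of involutions -/
theorem conj_sq {x : G} (g : G) (hx : x * x = 1) : g * x * g⁻¹ * (g * x * g⁻¹) = 1 := by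
  calc g * x * g⁻¹ * (g * x * g⁻¹) = g * (x * x) * g⁻¹ := by group
    _ = 1 := by rw [hx]; group

theorem conj_ne_one {x : G} (g : G) (hx : x ≠ 1) : g * x * g⁻¹ ≠ 1 := by
  intro h
  rw [mul_inv_eq_one] at h
  exact hx (mul_eq_left.1 h)

/-- The rank hypothesis in the ambient group. -/
theorem rk (hr : PRankLE 2 2 H) {a b c : G} (haH : a ∈ H) (hbH : b ∈ H) (hcH : c ∈ H)
    (ha : a * a = 1) (hb : b * b = 1) (hc : c * c = 1) (hab : a * b = b * a)
    (hac : a * c = c * a) (hbc : b * c = c * b) (ha1 : a ≠ 1) (hb1 : b ≠ 1) (hne : a ≠ b) :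
    c = 1 ∨ c = a ∨ c = b ∨ c = a * b := by
  have h1 := mem_of_commute (G := H) hr (a := ⟨a, haH⟩) (b := ⟨b, hbH⟩) (c := ⟨c, hcH⟩)
    (Subtype.ext ha) (Subtype.ext hb) (Subtype.ext hc) (Subtype.ext hab) (Subtype.ext hac) (Subtype.ext hbc)
    (fun h => ha1 (congrArg Subtype.val h)) (fun h => hb1 (congrArg Subtype.val h))
    (fun h => hne (congrArg Subtype.val h))
  rcases h1 with h1 | h1 | h1 | h1
  · exact Or.inl (congrArg Subtype.val h1)
  · exact Or.inr (Or.inl (congrArg Subtype.val h1))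
  · exact Or.inr (Or.inr (Or.inl (congrArg Subtype.val h1)))
  · exact Or.inr (Or.inr (Or.inr (congrArg Subtype.val h1)))

namespace Sit

theorem R_ne_bot (h : Sit G S H) : S ⊓ H ≠ ⊥ := by
  have : Fact (Nat.Prime 2) := ⟨Nat.prime_two⟩
  intro hbot
  have hHn : H.Normal := ⟨fun x hx g => h.Hn g x hx⟩
  have hodd : Odd (Nat.card H) := by
    by_contra hcon
    rw [Nat.not_odd_iff_even, even_iff_two_dvd] at hcon
    obtain ⟨x, hx⟩ := exists_prime_orderOf_dvd_card' 2 hcon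
    have hx2 : (x : G) * x = 1 := by
      have h1 : x ^ 2 = 1 := by rw [← hx, pow_orderOf_eq_one]
      rw [pow_two] at h1
      exact congrArg Subtype.val h1
    have hx1 : (x : G) ≠ 1 := by
      intro h1
      have h2 : x = 1 := Subtype.ext h1
      rw [h2, orderOf_one] at hx
      norm_num at hx
    obtain ⟨n, -, hn⟩ := h.sylH.exists_conj (isPGroup_zpowers hx2) (by
      rw [Subgroup.zpowers_le]
      exact x.2)
    have h1 := hn _ (Subgroup.mem_zpowers _)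
    rw [hbot, mem_bot] at h1
    exact conj_ne_one n hx1 h1
  have hH : H = ⊥ := h.O1 H hHn hodd
  have hS : S = ⊤ := by
    rw [eq_top_iff]
    intro g _
    obtain ⟨k, hk, s, hs, rfl⟩ := h.HS g
    rw [hH, mem_bot] at hk
    rw [hk, one_mul]
    exact hs
  have h1 : (⊤ : Subgroup G) = ⊥ := h.O2 ⊤ inferInstance (hS ▸ h.syl.two)
  have h2 : Nat.card G = 1 := by
    rw [← Subgroup.card_top, h1, Subgroup.card_bot]
  have h3 := h.even
  rw [h2] at h3
  exact absurd h3 (by decide)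

/-- There is an involution in `Z(S) ∩ H`. -/
theorem exists_z (h : Sit G S H) : ∃ z, InZ S z ∧ z ∈ H ∧ z ≠ 1 := by
  have : Fact (Nat.Prime 2) := ⟨Nat.prime_two⟩
  have hn : ((S ⊓ H).subgroupOf S).Normal := ⟨fun x hx s => by
    rw [mem_subgroupOf, mem_inf] at hx ⊢
    exact ⟨mul_mem (mul_mem s.2 hx.1) (inv_mem s.2), h.Hn s _ hx.2⟩⟩
  have hb : (S ⊓ H).subgroupOf S ≠ ⊥ := by
    intro hb
    apply h.R_ne_bot
    rw [Subgroup.subgroupOf_eq_bot] at hb
    have h1 := hb.le_bot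
    rw [eq_bot_iff]
    intro x hx
    exact h1 (mem_inf.2 ⟨hx, (mem_inf.1 hx).1⟩)
  obtain ⟨z, hzU, hzc, hzo⟩ := Cfsg.Agent.Involutions.NormalFour.exists_mem_center_of_normal (p := 2) h.syl.two _ hb
  rw [mem_subgroupOf, mem_inf] at hzU
  rw [Subgroup.mem_center_iff] at hzc
  refine ⟨z, ⟨z.2, ?_, fun s hs => congrArg Subtype.val (hzc ⟨s, hs⟩)⟩, hzU.2, ?_⟩
  · have h1 : z ^ 2 = 1 := by rw [← hzo, pow_orderOf_eq_one]
    rw [pow_two] at h1
    exact congrArg Subtype.val h1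
  · intro h1
    have h2 : z = 1 := Subtype.ext h1
    rw [h2, orderOf_one] at hzo
    norm_num at hzo

/-- The `Z*`-theorem. -/
theorem zstar (h : Sit G S H) {t : G} (ht : InZ S t) (htH : t ∉ H)
    (hiso : ∀ g : G, g * t * g⁻¹ ∈ S → g * t * g⁻¹ = t) : False := by
  obtain ⟨P, hP⟩ := h.syl.exists_sylow
  have ht1 : t ≠ 1 := by
    rintro rfl
    exact htH (one_mem _)
  obtain ⟨N, hN, hNo, hNc⟩ := Cfsg.Agent.S0215.result P t (orderOf_eq_prime (by rw [pow_two]; exact ht.2.1) ht1)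
    (by rw [← SetLike.mem_coe, ← Sylow.coe_coe, SetLike.mem_coe, hP]; exact ht.1)
    (fun g hg => hiso g (by rw [← hP]; exact hg))
  have hN1 := h.O1 N hN hNo
  have hc : ∀ g, g * t = t * g := by
    intro g
    have h1 := hNc g
    rw [hN1, mem_bot, mul_inv_eq_one, mul_inv_eq_iff_eq_mul] at h1
    exact h1.symm
  have hzn : (Subgroup.zpowers t).Normal := ⟨fun x hx g => by
    obtain ⟨i, rfl⟩ := hx
    have h1 : g * t ^ i * g⁻¹ = t ^ i := by
      rw [((Commute.zpow_right (show Commute g t from hc g) i).eq), mul_inv_cancel_right]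
    exact ⟨i, h1.symm⟩⟩
  have h1 := h.O2 _ hzn (isPGroup_zpowers ht.2.1)
  rw [Subgroup.zpowers_eq_bot] at h1
  exact ht1 h1

/-- `fourGroup` normalizer: it is enough to preserve the involutions of `R` -/
theorem mem_norm_four {z y : G} (hf : Four z y) {T : Subgroup G} (hT : ∀ x ∈ T, x * x = 1 → x ∈ fourGroup hf)
    (hV : fourGroup hf ≤ T) {g : G} (hg : g ∈ normalizer (T : Set G)) :
    g ∈ normalizer (fourGroup hf : Set G) := by
  apply mem_normalizer_of_conj_le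
  intro x hx
  apply hT _ (conj_mem_of_mem_normalizer hg (hV hx))
  apply conj_sq
  rcases (mem_fourGroup hf).1 hx with rfl | rfl | rfl | rfl
  · exact one_mul _
  · exact hf.zz
  · exact hf.tt
  · exact hf.ztzt

theorem sq_of_mem_four {z y : G} (hf : Four z y) {x : G} (hx : x ∈ fourGroup hf) : x * x = 1 := by
  rcases (mem_fourGroup hf).1 hx with rfl | rfl | rfl | rfl
  · exact one_mul _
  · exact hf.zz
  · exact hf.tt
  · exact hf.ztzt

theorem isPGroup_four {z y : G} (hf : Four z y) : IsPGroup 2 (fourGroup hf) := fun x => ⟨1, by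
  rw [pow_one]
  apply Subtype.ext
  rw [pow_two]
  exact sq_of_mem_four hf x.2⟩

theorem four_ne_bot {z y : G} (hf : Four z y) : fourGroup hf ≠ ⊥ := by
  intro h1
  have h2 : z ∈ fourGroup hf := (mem_fourGroup hf).2 (Or.inr (Or.inl rfl))
  rw [h1, mem_bot] at h2
  exact hf.z1 h2

theorem sol_four (h : Sit G S H) {z y : G} (hf : Four z y) :
    Group.IsSolvable (normalizer (fourGroup hf : Set G)) := by
  classical
  set V := fourGroup hf with hV
  have hC : Group.IsSolvable (centralizer (V : Set G)) := isSolvable_of_le (by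
    intro g hg
    rw [mem_centralizer_singleton_iff]
    exact (mem_centralizer_iff.1 hg z ((mem_fourGroup hf).2 (Or.inr (Or.inl rfl)))).symm) (h.solc z hf.zz hf.z1)
  have hM : Group.IsSolvable (MulAut V) := by
    have h1 : Nat.card (MulAut V) ≤ Nat.card (Equiv.Perm V) :=
      Nat.card_le_card_of_injective (MulAut.toPerm V) (fun a b hab => by
        ext x
        have h2 := congrArg (fun f : Equiv.Perm V => f x) hab
        exact congrArg Subtype.val h2)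
    have h2 : Nat.card (Equiv.Perm V) = 24 := by
      rw [Nat.card_perm, card_fourGroup hf]
      rfl
    exact Cfsg.Agent.BpAlt.solvable_of_lt _ (MulAut V) rfl (by omega)
  refine Group.isSolvable_of_ker_le_range (G' := centralizer (V : Set G))
    (Subgroup.inclusion (Subgroup.centralizer_le_normalizer (V : Set G))) V.normalizerMonoidHom ?_
  rw [Subgroup.normalizerMonoidHom_ker]
  intro x hx
  exact ⟨⟨x, mem_subgroupOf.1 hx⟩, rfl⟩

/-- If `Ω₁(Z(S)) ∩ H` has order 4, then `Ω₁(Z(S)) ≤ H`. -/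
theorem four_case (h : Sit G S H) (hr : PRankLE 2 2 H) {z y : G} (hf : Four z y) (hz : InZ S z) (hy : InZ S y)
    (hzH : z ∈ H) (hyH : y ∈ H) : (∀ x ∈ S ⊓ H, x * x = 1 → x ∈ fourGroup hf) ∧ ∀ t, InZ S t → t ∈ H := by
  have hT : ∀ x ∈ S ⊓ H, x * x = 1 → x ∈ fourGroup hf := fun x hx hx2 =>
    (mem_fourGroup hf).2 (rk hr hzH hyH (mem_inf.1 hx).2 hf.zz hf.tt hx2 hf.comm.symm
      (hz.2.2 x (mem_inf.1 hx).1).symm (hy.2.2 x (mem_inf.1 hx).1).symm hf.z1 hf.t1 hf.ne)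
  have hVZ : ∀ x ∈ fourGroup hf, InZ S x := by
    intro x hx
    rcases (mem_fourGroup hf).1 hx with rfl | rfl | rfl | rfl
    · exact InZ.one
    · exact hz
    · exact hy
    · exact hz.mul hy
  have hVH : ∀ x ∈ fourGroup hf, x ∈ H := by
    intro x hx
    rcases (mem_fourGroup hf).1 hx with rfl | rfl | rfl | rfl
    · exact one_mem _
    · exact hzH
    · exact hyH
    · exact mul_mem hzH hyH
  refine ⟨hT, fun t ht => ?_⟩
  by_contra htH
  set V := fourGroup hf with hV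
  set C : Subgroup G := normalizer (V : Set G) with hC
  have hCs : Group.IsSolvable C := h.sol_four hf
  have hSC : S ≤ C := by
    intro s hs
    apply mem_normalizer_of_conj_le
    intro x hx
    rw [(hVZ x hx).2.2 s hs, mul_inv_cancel_right]
    exact hx
  have hSC' : S ⊓ C = S := inf_eq_left.2 hSC
  obtain ⟨v, hvH, hvS, hvC, hv2, -, hvm⟩ := h.central_mod C hCs (by rw [hSC']; exact h.syl.mono hSC le_top)
    ht.1 (hSC ht.1) ht.2.1 ht.2.2
  have hvV : v ∈ V := hT v (mem_inf.2 ⟨hvS, hvH⟩) hv2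
  have ht0 : InZ S (t * v) := ht.mul (hVZ v hvV)
  have ht0H : t * v ∉ H := fun h1 => htH (by
    have h2 := mul_mem h1 (inv_mem hvH)
    rwa [mul_inv_cancel_right] at h2)
  apply h.zstar ht0 ht0H
  intro g hg
  set t₀ := t * v with ht₀
  set s' := g * t₀ * g⁻¹ with hs'
  -- `V` is conjugate in `C(s')` into `gSg⁻¹`
  have hSg : S.map (MulAut.conj g).toMonoidHom ≤ centralizer ({s'} : Set G) := by
    rintro _ ⟨x, hx, rfl⟩
    rw [mem_centralizer_singleton_iff]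
    show g * x * g⁻¹ * s' = s' * (g * x * g⁻¹)
    calc g * x * g⁻¹ * s' = g * (x * t₀) * g⁻¹ := by rw [hs']; group
      _ = g * (t₀ * x) * g⁻¹ := by rw [ht0.2.2 x hx]
      _ = _ := by rw [hs']; group
  have hsylg : IsSyl (S.map (MulAut.conj g).toMonoidHom) (centralizer ({s'} : Set G)) :=
    (h.syl.conj (g := g) ((⊤ : Subgroup G).le_normalizer (mem_top g))).mono hSg le_top
  have hVc : V ≤ centralizer ({s'} : Set G) := by
    intro x hx
    rw [mem_centralizer_singleton_iff]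
    exact ((hVZ x hx).2.2 s' hg).symm
  obtain ⟨c, hc, hcV⟩ := hsylg.exists_conj (isPGroup_four hf) hVc
  rw [mem_centralizer_singleton_iff] at hc
  have hn : g⁻¹ * c ∈ C := by
    apply mem_normalizer_of_conj_le
    intro x hx
    have h1 := mem_map_conj.1 (hcV x hx)
    have h2 : g⁻¹ * (c * x * c⁻¹) * g = g⁻¹ * c * x * (g⁻¹ * c)⁻¹ := by group
    rw [h2] at h1
    exact hT _ (mem_inf.2 ⟨h1, h.Hn _ _ (hVH x hx)⟩) (conj_sq _ (sq_of_mem_four hf hx))
  have h1 := hvm _ (inv_mem hn)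
  have h2 : (g⁻¹ * c)⁻¹ * t₀ * (g⁻¹ * c)⁻¹⁻¹ = s' := by
    have h3 : c⁻¹ * s' * c = s' := by rw [mul_assoc, ← hc, inv_mul_cancel_left]
    calc (g⁻¹ * c)⁻¹ * t₀ * (g⁻¹ * c)⁻¹⁻¹ = c⁻¹ * (g * t₀ * g⁻¹) * c := by group
      _ = s' := h3
  rw [h2] at h1
  have h3 := eq_one_of_mem h.syl.two (oc_odd C) (mul_mem hg (inv_mem ht0.1)) h1
  exact mul_inv_eq_one.1 h3

/-! ### one involution in `Z(S) ∩ H` -/

theorem S_le_centralizer {z : G} (hz : InZ S z) : S ≤ centralizer ({z} : Set G) := fun s hs =>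
  mem_centralizer_singleton_iff.2 (hz.2.2 s hs)

/-- `Z(S)` is central in `C(z)` modulo `O(C(z))`. -/
theorem zmod (h : Sit G S H) {z : G} (hz : InZ S z) (hz1 : z ≠ 1)
    (hu : ∀ x, InZ S x → x ∈ H → x = 1 ∨ x = z) {t : G} (ht : InZ S t) {c : G} (hc : c * z = z * c) :
    c * t * c⁻¹ * t⁻¹ ∈ oc (centralizer ({z} : Set G)) := by
  have hSC := S_le_centralizer hz
  have hSC' : S ⊓ centralizer ({z} : Set G) = S := inf_eq_left.2 hSC
  obtain ⟨v, hvH, hvS, hvC, hv2, hvc, hvm⟩ := h.central_mod (centralizer ({z} : Set G))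
    (h.sol_centralizer hz.2.1 hz1) (by rw [hSC']; exact h.syl.mono hSC le_top) ht.1 (hSC ht.1) ht.2.1 ht.2.2
  have h1 := hvm c (mem_centralizer_singleton_iff.2 hc)
  have hc' : z * c⁻¹ * z⁻¹ = c⁻¹ := by
    rw [mul_inv_eq_iff_eq_mul, eq_inv_mul_iff_mul_eq, ← mul_assoc, hc, mul_inv_cancel_right]
  rcases hu v ⟨hvS, hv2, fun s hs => hvc s hs (hSC hs)⟩ hvH with h2 | h2
  · rwa [h2, mul_one] at h1
  · rw [h2] at h1
    have h3 : c * (t * z) * c⁻¹ * (t * z)⁻¹ = c * t * (z * c⁻¹ * z⁻¹) * t⁻¹ := by group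
    rwa [h3, hc'] at h1

/-- Frattini argument: `C(z) = O(C(z)) (C(Z(S)) ∩ N(S))`. -/
theorem Zprime (h : Sit G S H) {z : G} (hz : InZ S z) (hz1 : z ≠ 1)
    (hu : ∀ x, InZ S x → x ∈ H → x = 1 ∨ x = z) {c : G} (hc : c * z = z * c) :
    ∃ x ∈ oc (centralizer ({z} : Set G)), x * c ∈ normalizer (S : Set G) ∧
      ∀ t, InZ S t → x * c * t = t * (x * c) := by
  set C := centralizer ({z} : Set G) with hC
  set X := oc C with hX
  have hSC := S_le_centralizer hz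
  have hcC : c ∈ C := mem_centralizer_singleton_iff.2 hc
  have hZX : zSub S ≤ normalizer (X : Set G) := by
    intro t ht
    apply mem_normalizer_of_conj_le
    intro x hx
    exact conj_mem_oc' (hSC ht.1) hx
  set W : Subgroup G := zSub S ⊔ X with hW
  have hWm : ∀ w, w ∈ W ↔ ∃ t, InZ S t ∧ ∃ x ∈ X, t * x = w := by
    intro w
    rw [← SetLike.mem_coe, hW, Subgroup.coe_mul_of_left_le_normalizer_right _ _ hZX, Set.mem_mul]
    rfl
  have hsyl : IsSyl (zSub S) W := by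
    refine ⟨le_sup_left, zSub_isPGroup S, fun Q hQ hQW hle => le_antisymm ?_ hle⟩
    intro q hq
    obtain ⟨t, ht, x, hx, rfl⟩ := (hWm q).1 (hQW hq)
    have h1 : x ∈ Q := by
      have h2 := mul_mem (inv_mem (hle (mem_zSub.2 ht))) hq
      rwa [inv_mul_cancel_left] at h2
    have h2 := eq_one_of_mem hQ (oc_odd C) h1 hx
    rw [h2, mul_one]
    exact ht
  have hle : (zSub S).map (MulAut.conj c).toMonoidHom ≤ W := by
    rintro _ ⟨t, ht, rfl⟩
    have h1 := h.zmod hz hz1 hu ht hc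
    have h2 : (MulAut.conj c).toMonoidHom t = t * (t⁻¹ * (c * t * c⁻¹ * t⁻¹) * t⁻¹⁻¹) := by
      show c * t * c⁻¹ = _
      group
    rw [h2]
    exact mul_mem (mem_sup_left ht) (mem_sup_right (conj_mem_oc' (inv_mem (hSC ht.1)) h1))
  obtain ⟨w, hw, hwc⟩ := hsyl.exists_conj (isPGroup_map (zSub_isPGroup S) c) hle
  obtain ⟨t₁, ht₁, x, hx, rfl⟩ := (hWm w).1 hw
  have key : ∀ t, InZ S t → x * c * t = t * (x * c) := by
    intro t ht
    have h1 : InZ S (t₁ * x * (c * t * c⁻¹) * (t₁ * x)⁻¹) := hwc _ (conj_mem_map c ht)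
    have h2 : x * (c * t * c⁻¹) * x⁻¹ = t₁⁻¹ * (t₁ * x * (c * t * c⁻¹) * (t₁ * x)⁻¹) * t₁ := by group
    have ht₁' : t₁⁻¹ = t₁ := inv_eq_of_mul_eq_one_right ht₁.2.1
    have h3 : x * (c * t * c⁻¹) * x⁻¹ ∈ S := by
      rw [h2]
      exact mul_mem (mul_mem (inv_mem ht₁.1) h1.1) ht₁.1
    have hxcz : x * c ∈ C := mul_mem (oc_le C hx) hcC
    have h4 := h.zmod hz hz1 hu ht (mem_centralizer_singleton_iff.1 hxcz)
    have h5 : x * c * t * (x * c)⁻¹ * t⁻¹ = x * (c * t * c⁻¹) * x⁻¹ * t⁻¹ := by group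
    have h6 := eq_one_of_mem h.syl.two (oc_odd C) (by rw [h5]; exact mul_mem h3 (inv_mem ht.1)) h4
    rw [mul_inv_eq_one, mul_inv_eq_iff_eq_mul] at h6
    exact h6
  exact ⟨x, hx, h.hZ _ (fun t htS ht2 htc => key t ⟨htS, ht2, htc⟩), key⟩

/-- involutions `s' ∈ S` conjugate under `C(z)` to `t ∈ Z(S)` are equal to `t`. -/
theorem eq_of_conj (h : Sit G S H) {z : G} (hz : InZ S z) (hz1 : z ≠ 1)
    (hu : ∀ x, InZ S x → x ∈ H → x = 1 ∨ x = z) {t : G} (ht : InZ S t) {c : G} (hc : c * z = z * c)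
    (hcS : c * t * c⁻¹ ∈ S) : c * t * c⁻¹ = t := by
  have h1 := h.zmod hz hz1 hu ht hc
  exact mul_inv_eq_one.1 (eq_one_of_mem h.syl.two (oc_odd _) (mul_mem hcS (inv_mem ht.1)) h1)

/-- 2-elements of `N_H(R)` lie in `R`. -/
theorem mem_R_of_norm (h : Sit G S H) {Q : Subgroup G} (hQ : IsPGroup 2 Q) (hQH : Q ≤ H)
    (hQn : Q ≤ normalizer ((S ⊓ H : Subgroup G) : Set G)) : Q ≤ S ⊓ H := by
  have h1 : IsSyl (S ⊓ H) (H ⊓ normalizer ((S ⊓ H : Subgroup G) : Set G)) :=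
    h.sylH.mono (le_inf inf_le_right (S ⊓ H).le_normalizer) inf_le_left
  obtain ⟨n, hn, hnQ⟩ := h1.exists_conj hQ (le_inf hQH hQn)
  intro x hx
  have h2 := conj_inv_mem_of_mem_normalizer (mem_inf.1 hn).2 (hnQ x hx)
  have h3 : n⁻¹ * (n * x * n⁻¹) * n = x := by group
  rwa [h3] at h2

/-- The situation in which `Z(S) ∩ H` contains one involution `z` but `R = S ∩ H` has other central involutions,
and `z` is not weakly closed. -/
theorem case_A_aux (h : Sit G S H) (hr : PRankLE 2 2 H) {z : G} (hz : InZ S z) (hz1 : z ≠ 1) (hzH : z ∈ H)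
    (hu : ∀ x, InZ S x → x ∈ H → x = 1 ∨ x = z) {y : G} (hy : y ∈ S ⊓ H) (hy2 : y * y = 1) (hy1 : y ≠ 1)
    (hyz : y ≠ z) (hyc : ∀ r ∈ S ⊓ H, r * y = y * r) {k : G} (hkS : k * z * k⁻¹ ∈ S)
    (hkz : k * z * k⁻¹ ≠ z) :
    ∃ hf : Four z y, (∀ x ∈ S ⊓ H, x * x = 1 → x ∈ fourGroup hf) ∧ fourGroup hf ≤ S ⊓ H ∧
      (∀ x ∈ fourGroup hf, ∀ r ∈ S ⊓ H, r * x = x * r) ∧
      ∀ v ∈ fourGroup hf, v ≠ 1 → ∃ m ∈ normalizer ((S ⊓ H : Subgroup G) : Set G), m * z * m⁻¹ = v := by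
  have hzR : z ∈ S ⊓ H := mem_inf.2 ⟨hz.1, hzH⟩
  have hf : Four z y := ⟨hz.2.1, hy2, (hz.2.2 y (mem_inf.1 hy).1), hz1, hy1, fun h => hyz h.symm⟩
  have hT : ∀ x ∈ S ⊓ H, x * x = 1 → x ∈ fourGroup hf := fun x hx hx2 =>
    (mem_fourGroup hf).2 (rk hr hzH (mem_inf.1 hy).2 (mem_inf.1 hx).2 hf.zz hf.tt hx2 hf.comm.symm
      (hz.2.2 x (mem_inf.1 hx).1).symm (hyc x hx).symm hf.z1 hf.t1 hf.ne)
  have hVR : fourGroup hf ≤ S ⊓ H := by
    intro x hx
    rcases (mem_fourGroup hf).1 hx with rfl | rfl | rfl | rfl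
    · exact one_mem _
    · exact hzR
    · exact hy
    · exact mul_mem hzR hy
  have hVc : ∀ x ∈ fourGroup hf, ∀ r ∈ S ⊓ H, r * x = x * r := by
    intro x hx r hr
    have h1 := hz.2.2 r (mem_inf.1 hr).1
    have h2 := hyc r hr
    rcases (mem_fourGroup hf).1 hx with rfl | rfl | rfl | rfl
    · rw [one_mul, mul_one]
    · exact h1
    · exact h2
    · rw [← mul_assoc, h1, mul_assoc, h2, mul_assoc]
  refine ⟨hf, hT, hVR, hVc, ?_⟩
  -- an element of `S` moving `y`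
  obtain ⟨s, hs, hsy⟩ : ∃ s ∈ S, s * y * s⁻¹ = z * y := by
    obtain ⟨s, hs, hsy⟩ : ∃ s ∈ S, s * y ≠ y * s := by
      by_contra hcon
      push Not at hcon
      rcases hu y ⟨(mem_inf.1 hy).1, hy2, hcon⟩ (mem_inf.1 hy).2 with h1 | h1
      · exact hy1 h1
      · exact hyz h1
    refine ⟨s, hs, ?_⟩
    have h1 : s * y * s⁻¹ ∈ S ⊓ H :=
      mem_inf.2 ⟨mul_mem (mul_mem hs (mem_inf.1 hy).1) (inv_mem hs), h.Hn s y (mem_inf.1 hy).2⟩
    rcases (mem_fourGroup hf).1 (hT _ h1 (conj_sq s hy2)) with h2 | h2 | h2 | h2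
    · exact absurd h2 (conj_ne_one s hy1)
    · exfalso
      apply hyz
      rw [mul_inv_eq_iff_eq_mul, ← hz.2.2 s hs] at h2
      exact mul_left_cancel h2
    · exact absurd (mul_inv_eq_iff_eq_mul.1 h2) hsy
    · exact h2
  have hsz : s * z * s⁻¹ = z := by rw [hz.2.2 s hs, mul_inv_cancel_right]
  have hszy : s * (z * y) * s⁻¹ = y := by
    rw [Cfsg.Agent.TwoFusion.RankTwoBasic.conj_mul, hsz, hsy, hf.zzt]
  have hsN : s ∈ normalizer ((S ⊓ H : Subgroup G) : Set G) := h.norm_inf (S.le_normalizer hs)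
  -- `N(R)` fuses `z` and `z'`
  set z' := k * z * k⁻¹ with hz'
  have hz'R : z' ∈ S ⊓ H := mem_inf.2 ⟨hkS, h.Hn k z hzH⟩
  have hz'V : z' ∈ fourGroup hf := hT _ hz'R (conj_sq k hz.2.1)
  obtain ⟨m₀, hm₀, hm₀z⟩ : ∃ m ∈ normalizer ((S ⊓ H : Subgroup G) : Set G), m * z * m⁻¹ = z' := by
    have hRD : IsSyl (S ⊓ H) (H ⊓ centralizer ({z'} : Set G)) :=
      h.sylH.mono (le_inf inf_le_right (fun r hr => mem_centralizer_singleton_iff.2 (hVc _ hz'V r hr))) inf_le_left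
    obtain ⟨c, hc, hcR⟩ := hRD.exists_conj (isPGroup_map h.sylH.two k) (by
      rintro _ ⟨r, hr, rfl⟩
      refine mem_inf.2 ⟨h.Hn k r (mem_inf.1 hr).2, ?_⟩
      rw [mem_centralizer_singleton_iff]
      show k * r * k⁻¹ * z' = z' * (k * r * k⁻¹)
      calc k * r * k⁻¹ * z' = k * (r * z) * k⁻¹ := by rw [hz']; group
        _ = k * (z * r) * k⁻¹ := by rw [hz.2.2 r (mem_inf.1 hr).1]
        _ = _ := by rw [hz']; group)
    refine ⟨c * k, ?_, ?_⟩
    · apply mem_normalizer_of_conj_le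
      intro r hr
      have h1 := hcR _ (conj_mem_map k hr)
      have h2 : c * (k * r * k⁻¹) * c⁻¹ = c * k * r * (c * k)⁻¹ := by group
      rwa [h2] at h1
    · have h1 := mem_centralizer_singleton_iff.1 (mem_inf.1 hc).2
      rw [conj_conj, ← hz', h1, mul_inv_cancel_right]
  have hz'ne : z' ≠ 1 := conj_ne_one k hz1
  -- transitivity
  intro v hv hv1
  have hs0 : s * m₀ * z * (s * m₀)⁻¹ = s * z' * s⁻¹ := by rw [conj_conj, hm₀z]
  rcases (mem_fourGroup hf).1 hv with h1 | h1 | h1 | h1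
  · exact absurd h1 hv1
  · exact ⟨1, one_mem _, by rw [h1]; group⟩
  · rcases (mem_fourGroup hf).1 hz'V with h2 | h2 | h2 | h2
    · exact absurd h2 hz'ne
    · exact absurd h2 hkz
    · exact ⟨m₀, hm₀, by rw [hm₀z, h2, h1]⟩
    · exact ⟨s * m₀, mul_mem hsN hm₀, by rw [hs0, h2, hszy, h1]⟩
  · rcases (mem_fourGroup hf).1 hz'V with h2 | h2 | h2 | h2
    · exact absurd h2 hz'ne
    · exact absurd h2 hkz
    · exact ⟨s * m₀, mul_mem hsN hm₀, by rw [hs0, h2, hsy, h1]⟩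
    · exact ⟨m₀, hm₀, by rw [hm₀z, h2, h1]⟩

/-- In case A, `Ω₁(Z(S)) ≤ H`. -/
theorem case_A_le (h : Sit G S H) {z : G} (hz : InZ S z) (hz1 : z ≠ 1) (hzH : z ∈ H)
    (hu : ∀ x, InZ S x → x ∈ H → x = 1 ∨ x = z) {y : G} (hf : Four z y)
    (hT : ∀ x ∈ S ⊓ H, x * x = 1 → x ∈ fourGroup hf) (hVR : fourGroup hf ≤ S ⊓ H)
    (htr : ∀ v ∈ fourGroup hf, v ≠ 1 → ∃ m ∈ normalizer ((S ⊓ H : Subgroup G) : Set G), m * z * m⁻¹ = v)
    {t : G} (ht : InZ S t) : t ∈ H := by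
  by_contra htH
  set V := fourGroup hf with hV
  set C : Subgroup G := normalizer (V : Set G) with hC
  have hCs : Group.IsSolvable C := h.sol_four hf
  have hNC : normalizer ((S ⊓ H : Subgroup G) : Set G) ≤ C := fun g hg => mem_norm_four hf hT hVR hg
  have hSC : S ≤ C := fun s hs => hNC (h.norm_inf (S.le_normalizer hs))
  have hSC' : S ⊓ C = S := inf_eq_left.2 hSC
  have hVC : V ≤ C := fun x hx => hSC (mem_inf.1 (hVR hx)).1
  obtain ⟨v, hvH, hvS, hvC, hv2, hvc, hvm⟩ := h.central_mod C hCs (by rw [hSC']; exact h.syl.mono hSC le_top)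
    ht.1 (hSC ht.1) ht.2.1 ht.2.2
  have hvZ : InZ S v := ⟨hvS, hv2, fun s hs => hvc s hs (hSC hs)⟩
  have ht0 : InZ S (t * v) := ht.mul hvZ
  have ht0H : t * v ∉ H := fun h1 => htH (by
    have h2 := mul_mem h1 (inv_mem hvH)
    rwa [mul_inv_cancel_right] at h2)
  apply h.zstar ht0 ht0H
  intro g hg
  set t₀ := t * v with ht₀
  set s' := g * t₀ * g⁻¹ with hs'
  have hSg : S.map (MulAut.conj g).toMonoidHom ≤ centralizer ({s'} : Set G) := by
    rintro _ ⟨x, hx, rfl⟩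
    rw [mem_centralizer_singleton_iff]
    show g * x * g⁻¹ * s' = s' * (g * x * g⁻¹)
    calc g * x * g⁻¹ * s' = g * (x * t₀) * g⁻¹ := by rw [hs']; group
      _ = g * (t₀ * x) * g⁻¹ := by rw [ht0.2.2 x hx]
      _ = _ := by rw [hs']; group
  have hsylg : IsSyl (S.map (MulAut.conj g).toMonoidHom) (centralizer ({s'} : Set G)) :=
    (h.syl.conj (g := g) ((⊤ : Subgroup G).le_normalizer (mem_top g))).mono hSg le_top
  obtain ⟨c, hc, hcz⟩ := hsylg.exists_conj (isPGroup_zpowers hz.2.1) (by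
    rw [Subgroup.zpowers_le, mem_centralizer_singleton_iff]
    exact (hz.2.2 s' hg).symm)
  rw [mem_centralizer_singleton_iff] at hc
  have h1 := mem_map_conj.1 (hcz z (Subgroup.mem_zpowers z))
  set n := g⁻¹ * c with hn
  have h2 : g⁻¹ * (c * z * c⁻¹) * g = n * z * n⁻¹ := by rw [hn]; group
  rw [h2] at h1
  have hnV : n * z * n⁻¹ ∈ V := hT _ (mem_inf.2 ⟨h1, h.Hn n z hzH⟩) (conj_sq n hz.2.1)
  have hns : n * s' * n⁻¹ = t₀ := by
    calc n * s' * n⁻¹ = g⁻¹ * (c * s' * c⁻¹) * g := by rw [hn]; group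
      _ = g⁻¹ * s' * g := by rw [hc, mul_inv_cancel_right]
      _ = t₀ := by rw [hs']; group
  obtain ⟨m, hm, hmz⟩ := htr _ hnV (conj_ne_one n hz1)
  obtain ⟨e, he, hem⟩ := exists_mul_conj_eq (oc_odd C) ht0.2.1 (hvm m (hNC hm))
  have heC : e ∈ C := oc_le C he
  have hev : ∀ x ∈ V, e * x * e⁻¹ = x := by
    intro x hx
    have h3 : e * x * e⁻¹ * x⁻¹ ∈ V := mul_mem (conj_mem_of_mem_normalizer heC hx) (inv_mem hx)
    have h4 : e * x * e⁻¹ * x⁻¹ ∈ oc C := by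
      have h5 : e * x * e⁻¹ * x⁻¹ = e * (x * e⁻¹ * x⁻¹) := by group
      rw [h5]
      exact mul_mem he (conj_mem_oc' (hVC hx) (inv_mem he))
    exact mul_inv_eq_one.1 (eq_one_of_mem (isPGroup_four hf) (oc_odd C) h3 h4)
  have hemz : e * m * z * (e * m)⁻¹ = n * z * n⁻¹ := by
    rw [conj_conj, hmz]
    exact hev _ hnV
  -- `q = n⁻¹ (e m)` commutes with `z`
  set q := n⁻¹ * (e * m) with hq
  have hqz : q * z = z * q := by
    have h3 : n⁻¹ * (e * m * z * (e * m)⁻¹) * n = z := by rw [hemz]; group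
    calc q * z = n⁻¹ * (e * m * z * (e * m)⁻¹) * n * (n⁻¹ * (e * m)) := by rw [hq]; group
      _ = z * q := by rw [h3]
  have hqt : q * t₀ * q⁻¹ = s' := by
    calc q * t₀ * q⁻¹ = n⁻¹ * (e * m * t₀ * (e * m)⁻¹) * n := by rw [hq]; group
      _ = n⁻¹ * t₀ * n := by rw [hem]
      _ = n⁻¹ * (n * s' * n⁻¹) * n := by rw [hns]
      _ = s' := by group
  have h3 := h.eq_of_conj hz hz1 hu ht0 hqz (by rw [hqt]; exact hg)
  rw [hqt] at h3
  exact h3

/-- `N_H(R)` is strongly embedded if the involutions of `R` are central in `R` and their centralizers in `H`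
normalize `R`. -/
theorem strongly_embedded (h : Sit G S H) (hc : ∀ v ∈ S ⊓ H, v * v = 1 → v ≠ 1 → (∀ r ∈ S ⊓ H, r * v = v * r) ∧
      ∀ g ∈ H, g * v = v * g → g ∈ normalizer ((S ⊓ H : Subgroup G) : Set G)) :
    ∃ M : Subgroup H, IsStronglyEmbedded M := by
  have : Fact (Nat.Prime 2) := ⟨Nat.prime_two⟩
  obtain ⟨z, hz, hzH, hz1⟩ := h.exists_z
  have hzR : z ∈ S ⊓ H := mem_inf.2 ⟨hz.1, hzH⟩
  refine ⟨(normalizer ((S ⊓ H : Subgroup G) : Set G)).subgroupOf H, ?_, ?_, ?_⟩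
  · intro htop
    rw [Subgroup.subgroupOf_eq_top] at htop
    have hn : (S ⊓ H).Normal := ⟨fun x hx g => by
      obtain ⟨k, hk, s, hs, rfl⟩ := h.HS g
      exact conj_mem_of_mem_normalizer (mul_mem (htop hk) (h.norm_inf (S.le_normalizer hs))) hx⟩
    exact h.R_ne_bot (h.O2 _ hn h.sylH.two)
  · have h1 : orderOf (⟨⟨z, hzH⟩, mem_subgroupOf.2 ((S ⊓ H).le_normalizer hzR)⟩ :
        (normalizer ((S ⊓ H : Subgroup G) : Set G)).subgroupOf H) = 2 := by
      apply orderOf_eq_prime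
      · apply Subtype.ext
        apply Subtype.ext
        rw [pow_two]
        exact hz.2.1
      · intro h2
        exact hz1 (congrArg Subtype.val (congrArg Subtype.val h2))
    rw [even_iff_two_dvd, ← h1]
    exact orderOf_dvd_natCard _
  · intro g hg
    by_contra hcon
    rw [Nat.not_odd_iff_even, even_iff_two_dvd] at hcon
    obtain ⟨⟨u, hu⟩, hu2⟩ := exists_prime_orderOf_dvd_card' 2 hcon
    rw [Subgroup.orderOf_mk] at hu2
    obtain ⟨huM, huM'⟩ := mem_inf.1 hu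
    rw [mem_map_conj] at huM'
    rw [mem_subgroupOf] at huM huM'
    have huu : u * u = 1 := by rw [← pow_two, ← hu2, pow_orderOf_eq_one]
    have huu' : (u : G) * u = 1 := congrArg Subtype.val huu
    have hu1 : (u : G) ≠ 1 := by
      intro h1
      have h2 : u = 1 := Subtype.ext h1
      rw [h2, orderOf_one] at hu2
      norm_num at hu2
    have huR : (u : G) ∈ S ⊓ H := h.mem_R_of_norm (isPGroup_zpowers huu') (by
      rw [Subgroup.zpowers_le]
      exact u.2) (by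
      rw [Subgroup.zpowers_le]
      exact huM) (Subgroup.mem_zpowers _)
    set v : G := (g : G)⁻¹ * u * g with hv
    have hvv : v * v = 1 := by
      have h1 := conj_sq (g : G)⁻¹ huu'
      rwa [inv_inv] at h1
    have hvH : v ∈ H := mul_mem (mul_mem (inv_mem g.2) u.2) g.2
    have hvR : v ∈ S ⊓ H := h.mem_R_of_norm (isPGroup_zpowers hvv) (by
      rw [Subgroup.zpowers_le]
      exact hvH) (by
      rw [Subgroup.zpowers_le]
      exact huM') (Subgroup.mem_zpowers _)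
    have hv1 : v ≠ 1 := by
      have h1 := conj_ne_one (g : G)⁻¹ hu1
      rwa [inv_inv] at h1
    apply hg
    rw [mem_subgroupOf]
    -- `g⁻¹ R g ≤ C_H(v) ≤ N(R)`
    have hle : (S ⊓ H).map (MulAut.conj (g : G)⁻¹).toMonoidHom ≤ S ⊓ H := by
      apply h.mem_R_of_norm (isPGroup_map h.sylH.two _)
      · rintro _ ⟨r, hr, rfl⟩
        exact h.Hn _ r (mem_inf.1 hr).2
      · rintro _ ⟨r, hr, rfl⟩
        apply (hc v hvR hvv hv1).2 _ (h.Hn _ r (mem_inf.1 hr).2)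
        have h1 := (hc u huR huu' hu1).1 r hr
        show (g : G)⁻¹ * r * (g : G)⁻¹⁻¹ * v = v * ((g : G)⁻¹ * r * (g : G)⁻¹⁻¹)
        calc (g : G)⁻¹ * r * (g : G)⁻¹⁻¹ * v = (g : G)⁻¹ * (r * u) * g := by rw [hv]; group
          _ = (g : G)⁻¹ * (u * r) * g := by rw [h1]
          _ = _ := by rw [hv]; group
    have h1 : (g : G)⁻¹ ∈ normalizer ((S ⊓ H : Subgroup G) : Set G) :=
      mem_normalizer_of_conj_le fun r hr => hle (conj_mem_map _ hr)
    have h2 := inv_mem h1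
    rwa [inv_inv] at h2

/-- Case A. -/
theorem case_A (h : Sit G S H) (hr : PRankLE 2 2 H) {z : G} (hz : InZ S z) (hz1 : z ≠ 1) (hzH : z ∈ H)
    (hu : ∀ x, InZ S x → x ∈ H → x = 1 ∨ x = z) {y : G} (hy : y ∈ S ⊓ H) (hy2 : y * y = 1) (hy1 : y ≠ 1)
    (hyz : y ≠ z) (hyc : ∀ r ∈ S ⊓ H, r * y = y * r) {k : G} (hkS : k * z * k⁻¹ ∈ S)
    (hkz : k * z * k⁻¹ ≠ z) : ∃ M : Subgroup H, IsStronglyEmbedded M := by
  obtain ⟨hf, hT, hVR, hVc, htr⟩ := h.case_A_aux hr hz hz1 hzH hu hy hy2 hy1 hyz hyc hkS hkz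
  have hle : ∀ t, InZ S t → t = 1 ∨ t = z := fun t ht => hu t ht (h.case_A_le hz hz1 hzH hu hf hT hVR htr ht)
  have hCz : ∀ c, c * z = z * c → c ∈ normalizer (S : Set G) := by
    intro c hc
    apply h.hZ
    intro t htS ht2 htc
    rcases hle t ⟨htS, ht2, htc⟩ with rfl | rfl
    · rw [mul_one, one_mul]
    · exact hc
  apply h.strongly_embedded
  intro v hv hv2 hv1
  have hvV := hT v hv hv2
  refine ⟨hVc v hvV, fun g _ hgv => ?_⟩
  obtain ⟨m, hm, hmz⟩ := htr v hvV hv1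
  have h1 : m⁻¹ * g * m ∈ normalizer (S : Set G) := by
    apply hCz
    have h2 : m⁻¹ * v * m = z := by rw [← hmz]; group
    calc m⁻¹ * g * m * z = m⁻¹ * (g * (m * z * m⁻¹)) * m := by group
      _ = m⁻¹ * (v * g) * m := by rw [hmz, hgv]
      _ = (m⁻¹ * v * m) * (m⁻¹ * g * m) := by group
      _ = z * (m⁻¹ * g * m) := by rw [h2]
  have h2 := h.norm_inf h1
  have h3 := mul_mem (mul_mem hm h2) (inv_mem hm)
  have h4 : m * (m⁻¹ * g * m) * m⁻¹ = g := by group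
  rwa [h4] at h3

/-- The hypotheses of `RankTwoMain`. -/
theorem hyp_B (h : Sit G S H) (hr : PRankLE 2 2 H) (hres : pResidual 2 H = ⊤) {z : G} (hz : InZ S z) (hz1 : z ≠ 1)
    (hzH : z ∈ H) (hu : ∀ x, InZ S x → x ∈ H → x = 1 ∨ x = z)
    (huR : ∀ y ∈ S ⊓ H, y * y = 1 → (∀ r ∈ S ⊓ H, r * y = y * r) → y = 1 ∨ y = z) :
    RankTwoMain.Hyp H ((S ⊓ H : Subgroup G).subgroupOf H) ((oc (centralizer ({z} : Set G))).subgroupOf H)
      ⟨z, hzH⟩ := by
  have hzR : z ∈ S ⊓ H := mem_inf.2 ⟨hz.1, hzH⟩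
  have hXH : oc (centralizer ({z} : Set G)) ≤ H := h.le_of_odd (oc_odd _)
  exact
    { syl := by
        refine ⟨le_top, h.sylH.two.comap_subtype, fun Q hQ _ hle => ?_⟩
        have h1 := h.sylH.max (Q.map H.subtype) (hQ.map _) (by rintro _ ⟨x, -, rfl⟩; exact x.2)
          (fun x hx => ⟨⟨x, (mem_inf.1 hx).2⟩, hle (mem_subgroupOf.2 hx), rfl⟩)
        ext x
        rw [mem_subgroupOf, ← h1]
        constructor
        · intro hx
          exact ⟨x, hx, rfl⟩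
        · rintro ⟨y, hy, hyx⟩
          have h2 : y = x := Subtype.ext hyx
          rwa [← h2]
      res := hres
      rank := hr
      zR := mem_subgroupOf.2 hzR
      z1 := fun h1 => hz1 (congrArg Subtype.val h1)
      z2 := Subtype.ext hz.2.1
      zc := fun r hr' => Subtype.ext (hz.2.2 r (mem_inf.1 (mem_subgroupOf.1 hr')).1)
      uz := by
        intro x hx hx2 hxc
        rcases huR x (mem_subgroupOf.1 hx) (congrArg Subtype.val hx2) (fun r hr' =>
          congrArg Subtype.val (hxc ⟨r, (mem_inf.1 hr').2⟩ (mem_subgroupOf.2 hr'))) with h1 | h1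
        · exact Or.inl (Subtype.ext h1)
        · exact Or.inr (Subtype.ext h1)
      Xodd := by
        rw [Nat.card_congr (subgroupOfEquivOfLe hXH).toEquiv]
        exact oc_odd _
      Xc := fun x hx => Subtype.ext (mem_centralizer_singleton_iff.1 (oc_le _ (mem_subgroupOf.1 hx)))
      Xn := by
        intro c hc x hx
        rw [mem_subgroupOf] at hx ⊢
        exact conj_mem_oc' (mem_centralizer_singleton_iff.2 (congrArg Subtype.val hc)) hx
      Xz := by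
        intro c hc
        obtain ⟨x, hx, hxc, -⟩ := h.Zprime hz hz1 hu (c := c) (congrArg Subtype.val hc)
        refine ⟨⟨x, hXH hx⟩, mem_subgroupOf.2 hx, ?_⟩
        apply mem_normalizer_of_conj_le
        intro r hr'
        rw [mem_subgroupOf] at hr' ⊢
        exact conj_mem_of_mem_normalizer (h.norm_inf hxc) hr' }

/-- Case B: `z` is the only involution of `Z(R)`. -/
theorem case_B (h : Sit G S H) (hr : PRankLE 2 2 H) (hres : pResidual 2 H = ⊤) {z : G} (hz : InZ S z) (hz1 : z ≠ 1)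
    (hzH : z ∈ H) (hu : ∀ x, InZ S x → x ∈ H → x = 1 ∨ x = z)
    (huR : ∀ y ∈ S ⊓ H, y * y = 1 → (∀ r ∈ S ⊓ H, r * y = y * r) → y = 1 ∨ y = z) {k : G} (hk : k ∈ H)
    (hkS : k * z * k⁻¹ ∈ S) (hkz : k * z * k⁻¹ ≠ z) :
    (∃ n : ℕ, 2 ≤ n ∧ Nonempty (((S ⊓ H : Subgroup G).subgroupOf H) ≃* DihedralGroup n)) ∨
      IsQuasiDihedral ((S ⊓ H : Subgroup G).subgroupOf H) :=
  (h.hyp_B hr hres hz hz1 hzH hu huR).main (w₀ := ⟨k * z * k⁻¹, h.Hn k z hzH⟩)
    (mem_subgroupOf.2 (mem_inf.2 ⟨hkS, h.Hn k z hzH⟩))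
    (fun h1 => hkz (congrArg Subtype.val h1)) ⟨⟨k, hk⟩, Subtype.ext rfl⟩

end Sit

end Cfsg.Agent.H444.ZNSit
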