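import Mathlib
import Cfsg.Prelude.Def_CaseTheorems
import Cfsg.Agent.H444.ZNRankTwo
import Cfsg.Agent.Classification.FlavellB
import Cfsg.Agent.SignalizersComponents.CoprimeGen

/-!
# ZC-groups: characteristic 2 type of `H Z`
-/

set_option autoImplicit false
set_option linter.unusedSectionVars false

namespace Cfsg.Agent.H444.ZNSit

open Subgroup Cfsg Cfsg.Agent.StdEven.Syl Cfsg.Agent.TwoFusion.RankTwoBasic
open Cfsg.Agent.H444.RankTwoMain.Hyp (fourGroup mem_fourGroup card_fourGroup)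

/-- A group in which the centralizers of involutions are solvable with trivial odd core is of characteristic 2 type. -/
theorem char_two_of_cent {K : Type*} [Group K] [Finite K] (heven : Even (Nat.card K))
    (hs : ∀ t : K, t * t = 1 → t ≠ 1 → Group.IsSolvable (centralizer ({t} : Set K)))
    (ho : ∀ t : K, t * t = 1 → t ≠ 1 → pPrimeCore 2 (centralizer ({t} : Set K)) = ⊥) : IsCharacteristicTwoType K := by
  have : Fact (Nat.Prime 2) := ⟨Nat.prime_two⟩
  refine ⟨heven, fun T hT hT1 => ?_⟩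
  -- an involution of `Z(T)`
  obtain ⟨t, htT, htc, ht2, ht1⟩ : ∃ t : K, t ∈ T ∧ (∀ x ∈ T, x * t = t * x) ∧ t * t = 1 ∧ t ≠ 1 := by
    obtain ⟨t, -, htc, hto⟩ := Cfsg.Agent.Involutions.NormalFour.exists_mem_center_of_normal (p := 2) hT ⊤ (by
      intro hb
      apply hT1
      rw [eq_bot_iff]
      intro x hx
      have h1 : (⟨x, hx⟩ : T) ∈ (⊤ : Subgroup T) := mem_top _
      rw [hb, mem_bot] at h1
      exact mem_bot.2 (congrArg Subtype.val h1))
    rw [Subgroup.mem_center_iff] at htc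
    refine ⟨t, t.2, fun x hx => congrArg Subtype.val (htc ⟨x, hx⟩), ?_, ?_⟩
    · have h1 : t ^ 2 = 1 := by rw [← hto, pow_orderOf_eq_one]
      rw [pow_two] at h1
      exact congrArg Subtype.val h1
    · intro h1
      have h2 : t = 1 := Subtype.ext h1
      rw [h2, orderOf_one] at hto
      norm_num at hto
  set N : Subgroup K := normalizer (T : Set K) with hN
  set L : Subgroup K := centralizer ({t} : Set K) with hL
  have hLs : Group.IsSolvable L := hs t ht2 ht1
  have hTL : T ≤ L := fun x hx => mem_centralizer_singleton_iff.2 (htc x hx)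
  have hTN : T ≤ N := T.le_normalizer
  have hDn : (pPrimeCore 2 N).Normal := Cfsg.Agent.Lib.Cores.pPrimeCore_normal 2
  have hTn : (T.subgroupOf N).Normal := ⟨fun x hx g => by
    rw [mem_subgroupOf] at hx ⊢
    exact conj_mem_of_mem_normalizer g.2 hx⟩
  -- `O(N) = 1`
  have hON : pPrimeCore 2 N = ⊥ := by
    have hodd : Odd (Nat.card (oc N)) := oc_odd N
    have hcomm : ∀ d ∈ oc N, ∀ x ∈ T, d * x = x * d := by
      intro d hd x hx
      have h1 : d * x * d⁻¹ * x⁻¹ ∈ T := mul_mem (conj_mem_of_mem_normalizer (oc_le N hd) hx) (inv_mem hx)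
      have h2 : d * x * d⁻¹ * x⁻¹ ∈ oc N := by
        have h3 : d * x * d⁻¹ * x⁻¹ = d * (x * d⁻¹ * x⁻¹) := by group
        rw [h3]
        exact mul_mem hd (conj_mem_oc' (hTN hx) (inv_mem hd))
      have h4 := eq_one_of_mem hT hodd h1 h2
      rwa [mul_inv_eq_one, mul_inv_eq_iff_eq_mul] at h4
    have h1 : oc N ≤ Cfsg.Agent.Classification.FlavellB.core 2 L :=
      Cfsg.Agent.Classification.FlavellB.le_core_of_centralizer hLs hT hTL
        (fun d hd => mem_centralizer_singleton_iff.2 (hcomm d hd t htT))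
        (fun d hd => mem_centralizer_iff.2 fun x hx => (hcomm d hd x hx).symm)
        (fun g hg => mem_normalizer_of_conj_le fun d hd =>
          conj_mem_oc' (Subgroup.centralizer_le_normalizer _ (mem_inf.1 hg).2) hd)
        (Nat.coprime_two_right.2 hodd)
    rw [Cfsg.Agent.Classification.FlavellB.core_def, ho t ht2 ht1, Subgroup.map_bot] at h1
    have h2 : (pPrimeCore 2 N).map N.subtype = ⊥ := le_bot_iff.1 h1
    rw [Subgroup.map_eq_bot_iff, Subgroup.ker_subtype] at h2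
    exact le_bot_iff.1 h2
  set C : Subgroup N := centralizer (pCore 2 N : Set N) with hC
  have hPn : (pCore 2 N).Normal := Cfsg.Agent.Lib.Cores.pCore_normal 2
  have hCn : C.Normal := inferInstance
  have hTP : T.subgroupOf N ≤ pCore 2 N := Cfsg.Agent.Lib.Cores.le_pCore hTn hT.comap_subtype
  have hCL : ∀ c : C, ((c : N) : K) ∈ L := by
    intro c
    rw [hL, mem_centralizer_singleton_iff]
    have h1 := mem_centralizer_iff.1 c.2 ⟨t, hTN htT⟩ (hTP (mem_subgroupOf.2 htT))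
    exact (congrArg Subtype.val h1).symm
  have hCs : Group.IsSolvable C := by
    let f : C →* L :=
      { toFun := fun c => ⟨((c : N) : K), hCL c⟩
        map_one' := rfl
        map_mul' := fun _ _ => rfl }
    exact Group.isSolvable_of_isSolvable_injective (f := f) (fun x y hxy => by
      apply Subtype.ext
      apply Subtype.ext
      have h2 : ((f x : L) : K) = f y := by rw [hxy]
      exact h2)
  have hCo : pPrimeCore 2 C = ⊥ := by
    have h1 := Cfsg.Agent.Lib.Cores.map_subtype_pPrimeCore 2 hCn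
    rw [hON, inf_bot_eq, Subgroup.map_eq_bot_iff, Subgroup.ker_subtype] at h1
    exact le_bot_iff.1 h1
  have hCc := Cfsg.Agent.Lib.HallHigman.centralizer_pCore_le_of_solvable (G := C) 2 hCo
  intro x hx
  have hxC : x ∈ C := hx
  have h1 : (⟨x, hxC⟩ : C) ∈ pCore 2 C := by
    apply hCc
    rw [mem_centralizer_iff]
    intro y hy
    have h2 : (y : N) ∈ (pCore 2 C).map C.subtype := ⟨y, hy, rfl⟩
    rw [Cfsg.Agent.Lib.Cores.map_subtype_pCore 2 hCn] at h2
    exact Subtype.ext (mem_centralizer_iff.1 hxC _ (mem_inf.1 h2).2)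
  have h2 : x ∈ (pCore 2 C).map C.subtype := ⟨_, h1, rfl⟩
  rw [Cfsg.Agent.Lib.Cores.map_subtype_pCore 2 hCn] at h2
  exact (mem_inf.1 h2).2

variable {G : Type*} [Group G] [Finite G] {S H : Subgroup G}

theorem four_elem {z y : G} (hf : Four z y) : IsElementaryAbelian 2 (fourGroup hf) := by
  have hsq : ∀ x ∈ fourGroup hf, x * x = 1 := fun x hx => Sit.sq_of_mem_four hf hx
  refine ⟨⟨⟨fun a b => ?_⟩⟩, fun a ha => by rw [pow_two]; exact hsq a ha⟩
  apply Subtype.ext
  show (a : G) * b = b * a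
  have h1 := hsq _ (mul_mem a.2 b.2)
  have h2 : (a : G)⁻¹ = a := inv_eq_of_mul_eq_one_right (hsq _ a.2)
  have h3 : (b : G)⁻¹ = b := inv_eq_of_mul_eq_one_right (hsq _ b.2)
  have h4 : ((a : G) * b)⁻¹ = a * b := inv_eq_of_mul_eq_one_right h1
  rw [mul_inv_rev, h2, h3] at h4
  exact h4.symm

/-- **Balance**: an odd order subgroup `W` of the solvable group `M` centralized by the involution `t` and normalized by
`C_M(t)` lies in `O(M)`. -/
theorem balance {M W : Subgroup G} (hM : Group.IsSolvable M) {t : G} (ht2 : t * t = 1) (htM : t ∈ M) (hWM : W ≤ M)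
    (hWt : ∀ w ∈ W, w * t = t * w) (hn : ∀ g ∈ M, g * t = t * g → ∀ w ∈ W, g * w * g⁻¹ ∈ W)
    (hodd : Odd (Nat.card W)) : W ≤ oc M := by
  have : Fact (Nat.Prime 2) := ⟨Nat.prime_two⟩
  refine Cfsg.Agent.Classification.FlavellB.le_core_of_centralizer (p := 2) (X := Subgroup.zpowers t) hM
    (isPGroup_zpowers ht2) (by rwa [Subgroup.zpowers_le]) hWM ?_ ?_ (Nat.coprime_two_right.2 hodd)
  · intro w hw
    rw [Subgroup.zpowers_eq_closure, Subgroup.centralizer_closure, mem_centralizer_singleton_iff]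
    exact hWt w hw
  · intro g hg
    obtain ⟨h1, h2⟩ := mem_inf.1 hg
    rw [Subgroup.zpowers_eq_closure, Subgroup.centralizer_closure, mem_centralizer_singleton_iff] at h2
    exact mem_normalizer_of_conj_le (hn g h1 h2)

/-- If a four-group acts on a group of odd order and its involutions have no fixed points, the group is trivial. -/
theorem eq_bot_of_four {z y : G} (hf : Four z y) {Y : Subgroup G} (hodd : Odd (Nat.card Y))
    (hn : ∀ a ∈ fourGroup hf, ∀ x ∈ Y, a * x * a⁻¹ ∈ Y)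
    (hfix : ∀ a ∈ fourGroup hf, a ≠ 1 → ∀ x ∈ Y, x * a = a * x → x = 1) : Y = ⊥ := by
  have : Fact (Nat.Prime 2) := ⟨Nat.prime_two⟩
  have h1 := Cfsg.Agent.SignalizersComponents.CoprimeGen.le_iSup_centralizer_ne_one (p := 2) (Z := Y) (four_elem hf)
    (by rw [card_fourGroup hf]; norm_num) (fun h2 => (Nat.not_even_iff_odd.2 hodd) (even_iff_two_dvd.2 h2))
    (fun a ha => mem_normalizer_of_conj_le (hn a ha))
  rw [eq_bot_iff]
  refine h1.trans (iSup_le fun a => ?_)
  intro x hx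
  obtain ⟨h2, h3⟩ := mem_inf.1 hx
  exact mem_bot.2 (hfix a a.2.1 a.2.2 x h2 (mem_centralizer_singleton_iff.1 h3))

namespace Sit

/-- Membership in `H Z`. -/
theorem mem_join (h : Sit G S H) (g : G) : g ∈ H ⊔ zSub S ↔ ∃ x ∈ H, ∃ t, InZ S t ∧ x * t = g := by
  have hn : H.Normal := ⟨fun x hx g => h.Hn g x hx⟩
  rw [← SetLike.mem_coe, Subgroup.normal_mul, Set.mem_mul]
  rfl

theorem join_normal (h : Sit G S H) {g x : G} (hx : x ∈ H ⊔ zSub S) : g * x * g⁻¹ ∈ H ⊔ zSub S := by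
  obtain ⟨y, hy, t, ht, rfl⟩ := (h.mem_join x).1 hx
  refine (h.mem_join _).2 ⟨(g * y * g⁻¹) * (g * t * g⁻¹ * t⁻¹), mul_mem (h.Hn g y hy) (h.comm_mem ht.2.2 g), t, ht, ?_⟩
  group

/-- Lemma A. -/
theorem odd_of_char (hch : IsCharacteristicTwoType H) {t : G} (htH : t ∈ H) (ht2 : t * t = 1) (ht1 : t ≠ 1)
    {Y : Subgroup G} (hYH : Y ≤ H) (hodd : Odd (Nat.card Y)) (hYt : ∀ y ∈ Y, y * t = t * y)
    (hn : ∀ g ∈ H, g * t = t * g → ∀ y ∈ Y, g * y * g⁻¹ ∈ Y) : Y = ⊥ := by
  have : Fact (Nat.Prime 2) := ⟨Nat.prime_two⟩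
  set τ : H := ⟨t, htH⟩ with hτ
  have hτ2 : τ * τ = 1 := Subtype.ext ht2
  have hτ1 : τ ≠ 1 := fun h1 => ht1 (congrArg Subtype.val h1)
  set N : Subgroup H := normalizer (Subgroup.zpowers τ : Set H) with hN
  have hchar : IsOfCharacteristicTwo N := hch.2 (Subgroup.zpowers τ) (isPGroup_zpowers hτ2) (by
    rw [Ne, Subgroup.zpowers_eq_bot]
    exact hτ1)
  have hNt : ∀ g : H, g ∈ N → (g : G) * t = t * g := by
    intro g hg
    have h1 := conj_mem_of_mem_normalizer hg (Subgroup.mem_zpowers τ)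
    obtain ⟨i, hi⟩ := h1
    have hi' : τ ^ i = g * τ * g⁻¹ := hi
    have h2 : g * τ * g⁻¹ = τ := by
      rcases Int.even_or_odd' i with ⟨k, rfl | rfl⟩
      · exfalso
        rw [zpow_mul, zpow_ofNat, pow_two, hτ2, one_zpow] at hi'
        exact conj_ne_one g hτ1 hi'.symm
      · rw [zpow_add, zpow_mul, zpow_ofNat, pow_two, hτ2, one_zpow, one_mul, zpow_one] at hi'
        exact hi'.symm
    exact congrArg Subtype.val (mul_inv_eq_iff_eq_mul.1 h2)
  have hYN : Y.subgroupOf H ≤ N := by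
    intro y hy
    apply Subgroup.centralizer_le_normalizer
    rw [Subgroup.zpowers_eq_closure, Subgroup.centralizer_closure, mem_centralizer_singleton_iff]
    exact Subtype.ext (hYt _ (mem_subgroupOf.1 hy))
  have hnorm : ((Y.subgroupOf H).subgroupOf N).Normal := by
    refine ⟨fun y hy g => ?_⟩
    rw [mem_subgroupOf, mem_subgroupOf] at hy ⊢
    exact hn _ (g : H).2 (hNt g g.2) _ hy
  have hPn : (pCore 2 N).Normal := Cfsg.Agent.Lib.Cores.pCore_normal 2
  have hPp : IsPGroup 2 (pCore 2 N) := Cfsg.Agent.Lib.Cores.pCore_isPGroup 2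
  have hodd' : Odd (Nat.card ((Y.subgroupOf H).subgroupOf N)) := by
    rw [Nat.card_congr (subgroupOfEquivOfLe hYN).toEquiv, Nat.card_congr (subgroupOfEquivOfLe hYH).toEquiv]
    exact hodd
  rw [eq_bot_iff]
  intro y hy
  have hyN : (⟨y, hYH hy⟩ : H) ∈ N := hYN (mem_subgroupOf.2 hy)
  have hyY : (⟨⟨y, hYH hy⟩, hyN⟩ : N) ∈ (Y.subgroupOf H).subgroupOf N := by
    rw [mem_subgroupOf, mem_subgroupOf]
    exact hy
  have h1 : (⟨⟨y, hYH hy⟩, hyN⟩ : N) ∈ pCore 2 N := by
    apply hchar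
    rw [mem_centralizer_iff]
    intro x hx
    have h2 : x * ⟨⟨y, hYH hy⟩, hyN⟩ * x⁻¹ * (⟨⟨y, hYH hy⟩, hyN⟩ : N)⁻¹ ∈ (Y.subgroupOf H).subgroupOf N :=
      mul_mem (hnorm.conj_mem _ hyY x) (inv_mem hyY)
    have h3 : x * ⟨⟨y, hYH hy⟩, hyN⟩ * x⁻¹ * (⟨⟨y, hYH hy⟩, hyN⟩ : N)⁻¹ ∈ pCore 2 N := by
      have h4 : x * ⟨⟨y, hYH hy⟩, hyN⟩ * x⁻¹ * (⟨⟨y, hYH hy⟩, hyN⟩ : N)⁻¹ =
        x * (⟨⟨y, hYH hy⟩, hyN⟩ * x⁻¹ * (⟨⟨y, hYH hy⟩, hyN⟩ : N)⁻¹) := by group
      rw [h4]
      exact mul_mem hx (hPn.conj_mem _ (inv_mem hx) _)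
    have h4 := eq_one_of_mem hPp hodd' h3 h2
    rwa [mul_inv_eq_one, mul_inv_eq_iff_eq_mul] at h4
  have h2 := eq_one_of_mem hPp hodd' h1 hyY
  exact mem_bot.2 (congrArg Subtype.val (congrArg Subtype.val h2))

/-- The key claim: odd order subgroups `Y` of `C(t)` normalized by `C_{HZ}(t)` are trivial. -/
theorem key (h : Sit G S H) (hch : IsCharacteristicTwoType H) {z : G} (hz : InZ S z) (hz1 : z ≠ 1) (hzH : z ∈ H)
    {x : G} (hx : x ∈ S ⊓ H) (hx2 : x * x = 1) (hx1 : x ≠ 1) (hxz : x ≠ z) {t : G} (htG : t ∈ H ⊔ zSub S)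
    (ht2 : t * t = 1) (ht1 : t ≠ 1) {Y : Subgroup G} (hodd : Odd (Nat.card Y)) (hYt : ∀ y ∈ Y, y * t = t * y)
    (hn : ∀ g ∈ H ⊔ zSub S, g * t = t * g → ∀ y ∈ Y, g * y * g⁻¹ ∈ Y) : Y = ⊥ := by
  have : Fact (Nat.Prime 2) := ⟨Nat.prime_two⟩
  set K : Subgroup G := H ⊔ zSub S with hK
  have hHK : H ≤ K := le_sup_left
  -- the case `t ∈ H`
  have hA : ∀ {t : G}, t ∈ H → t * t = 1 → t ≠ 1 → ∀ {Y : Subgroup G}, Odd (Nat.card Y) →
      (∀ y ∈ Y, y * t = t * y) → (∀ g ∈ K, g * t = t * g → ∀ y ∈ Y, g * y * g⁻¹ ∈ Y) → Y = ⊥ :=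
    fun htH ht2 ht1 _ hodd hYt hn => odd_of_char hch htH ht2 ht1 (h.le_of_odd hodd) hodd hYt
      (fun g hg => hn g (hHK hg))
  -- fixed points of involutions of `C_H(t)`
  have hB : ∀ {t : G}, t ∈ K → t * t = 1 → ∀ {Y : Subgroup G}, Odd (Nat.card Y) →
      (∀ y ∈ Y, y * t = t * y) → (∀ g ∈ K, g * t = t * g → ∀ y ∈ Y, g * y * g⁻¹ ∈ Y) →
      ∀ a ∈ H, a * a = 1 → a ≠ 1 → a * t = t * a → ∀ y ∈ Y, y * a = a * y → y = 1 := by
    intro t htK ht2 Y hodd hYt hn a haH ha2 ha1 hat y hy hya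
    have hYH : Y ≤ H := h.le_of_odd hodd
    set M : Subgroup G := K ⊓ centralizer ({a} : Set G) with hM
    have hMm : ∀ g, g ∈ M ↔ g ∈ K ∧ g * a = a * g := fun g => by
      rw [hM, mem_inf, mem_centralizer_singleton_iff]
    have hMs : Group.IsSolvable M := isSolvable_of_le inf_le_right (h.solc a ha2 ha1)
    have hMo : oc M = ⊥ := by
      apply hA haH ha2 ha1 (oc_odd M)
      · intro y hy
        exact ((hMm y).1 (oc_le M hy)).2
      · intro g hg hga y hy
        exact conj_mem_oc' ((hMm g).2 ⟨hg, hga⟩) hy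
    have h1 : Y ⊓ centralizer ({a} : Set G) ≤ oc M := by
      apply balance hMs ht2 ((hMm t).2 ⟨htK, hat.symm⟩)
      · intro w hw
        exact mem_inf.2 ⟨hHK (hYH (mem_inf.1 hw).1), (mem_inf.1 hw).2⟩
      · intro w hw
        exact hYt w (mem_inf.1 hw).1
      · intro g hg hgt w hw
        obtain ⟨hg1, hg2⟩ := (hMm g).1 hg
        refine mem_inf.2 ⟨hn g hg1 hgt w (mem_inf.1 hw).1, ?_⟩
        have h2 := (mem_inf.1 hw).2
        exact mul_mem (mul_mem (mem_centralizer_singleton_iff.2 hg2) h2)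
          (inv_mem (mem_centralizer_singleton_iff.2 hg2))
      · exact Odd.of_dvd_nat hodd (Subgroup.card_dvd_of_le inf_le_left)
    rw [hMo] at h1
    exact mem_bot.1 (h1 (mem_inf.2 ⟨hy, mem_centralizer_singleton_iff.2 hya⟩))
  -- no four-groups in `C_H(t)` unless `Y = 1`
  have hC : ∀ {t : G}, t ∈ K → t * t = 1 → ∀ {Y : Subgroup G}, Odd (Nat.card Y) →
      (∀ y ∈ Y, y * t = t * y) → (∀ g ∈ K, g * t = t * g → ∀ y ∈ Y, g * y * g⁻¹ ∈ Y) →
      ∀ a ∈ H, ∀ b ∈ H, Four a b → a * t = t * a → b * t = t * b → Y = ⊥ := by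
    intro t htK ht2 Y hodd hYt hn a haH b hbH hf hat hbt
    have h1 : ∀ c ∈ fourGroup hf, c ∈ H ∧ c * t = t * c := by
      intro c hc
      rcases (mem_fourGroup hf).1 hc with rfl | rfl | rfl | rfl
      · exact ⟨one_mem _, by rw [one_mul, mul_one]⟩
      · exact ⟨haH, hat⟩
      · exact ⟨hbH, hbt⟩
      · exact ⟨mul_mem haH hbH, by rw [mul_assoc, hbt, ← mul_assoc, hat, mul_assoc]⟩
    refine eq_bot_of_four hf hodd (fun c hc y hy => hn c (hHK (h1 c hc).1) (h1 c hc).2 y hy) ?_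
    intro c hc hc1 y hy hyc
    exact hB htK ht2 hodd hYt hn c (h1 c hc).1 (sq_of_mem_four hf hc) hc1 (h1 c hc).2 y hy hyc
  -- the case `t ∈ S`
  have hD : ∀ {t : G}, t ∈ S → t ∈ K → t * t = 1 → t ≠ 1 → ∀ {Y : Subgroup G}, Odd (Nat.card Y) →
      (∀ y ∈ Y, y * t = t * y) → (∀ g ∈ K, g * t = t * g → ∀ y ∈ Y, g * y * g⁻¹ ∈ Y) → Y = ⊥ := by
    intro t htS htK ht2 ht1 Y hodd hYt hn
    by_cases htH : t ∈ H
    · exact hA htH ht2 ht1 hodd hYt hn
    · obtain ⟨r, hrH, ζ, hζ, hrζ⟩ := (h.mem_join t).1 htK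
      have hζi : ζ⁻¹ = ζ := inv_eq_of_mul_eq_one_right hζ.2.1
      have hrt : r = t * ζ := by rw [← hrζ, mul_assoc, hζ.2.1, mul_one]
      have hrS : r ∈ S := by rw [hrt]; exact mul_mem htS hζ.1
      have hr2 : r * r = 1 := by
        rw [hrt]
        calc t * ζ * (t * ζ) = t * (ζ * t) * ζ := by group
          _ = t * (t * ζ) * ζ := by rw [hζ.2.2 t htS]
          _ = (t * t) * (ζ * ζ) := by group
          _ = 1 := by rw [ht2, hζ.2.1, one_mul]
      have hrt' : r * t = t * r := by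
        rw [hrt]
        calc t * ζ * t = t * (ζ * t) := mul_assoc _ _ _
          _ = t * (t * ζ) := by rw [hζ.2.2 t htS]
      by_cases hr : r = 1 ∨ r = z
      · have htZ : InZ S t := by
          rcases hr with hr | hr
          · rw [hr, one_mul] at hrζ
            rw [← hrζ]
            exact hζ
          · rw [hr] at hrζ
            rw [← hrζ]
            exact hz.mul hζ
        exact hC htK ht2 hodd hYt hn z hzH x (mem_inf.1 hx).2
          ⟨hz.2.1, hx2, hz.2.2 x (mem_inf.1 hx).1, hz1, hx1, fun h1 => hxz h1.symm⟩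
          (htZ.2.2 z hz.1) (htZ.2.2 x (mem_inf.1 hx).1)
      · push Not at hr
        exact hC htK ht2 hodd hYt hn z hzH r hrH
          ⟨hz.2.1, hr2, hz.2.2 r hrS, hz1, hr.1, fun h1 => hr.2 h1.symm⟩ (hz.2.2 t htS).symm hrt'
  -- general case
  have hsyl : IsSyl (S ⊓ K) K := h.syl.inf_normal le_top (fun g _ =>
    mem_normalizer_of_conj_le fun y hy => h.join_normal hy)
  obtain ⟨c, hc, hct⟩ := hsyl.exists_conj (isPGroup_zpowers ht2) (by rwa [Subgroup.zpowers_le])
  have h1 := mem_inf.1 (hct t (Subgroup.mem_zpowers t))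
  have h2 : Y.map (MulAut.conj c).toMonoidHom = ⊥ := by
    apply hD h1.1 h1.2 (conj_sq c ht2) (conj_ne_one c ht1)
    · rw [← Nat.card_congr (Y.equivMapOfInjective _ (MulAut.conj c).injective).toEquiv]
      exact hodd
    · rintro _ ⟨y, hy, rfl⟩
      show c * y * c⁻¹ * (c * t * c⁻¹) = c * t * c⁻¹ * (c * y * c⁻¹)
      calc c * y * c⁻¹ * (c * t * c⁻¹) = c * (y * t) * c⁻¹ := by group
        _ = c * (t * y) * c⁻¹ := by rw [hYt y hy]
        _ = _ := by group
    · intro g hg hgt y hy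
      rw [mem_map_conj] at hy ⊢
      have h3 := hn (c⁻¹ * g * c) (mul_mem (mul_mem (inv_mem hc) hg) hc) (by
        calc c⁻¹ * g * c * t = c⁻¹ * (g * (c * t * c⁻¹)) * c := by group
          _ = c⁻¹ * (c * t * c⁻¹ * g) * c := by rw [hgt]
          _ = _ := by group) _ hy
      have h4 : c⁻¹ * g * c * (c⁻¹ * y * c) * (c⁻¹ * g * c)⁻¹ = c⁻¹ * (g * y * g⁻¹) * c := by group
      rwa [h4] at h3
  rw [Subgroup.map_eq_bot_iff_of_injective _ (MulAut.conj c).injective] at h2
  exact h2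

/-- If `H` is of characteristic 2 type and `R` contains two involutions, then `H Z` is of characteristic 2 type. -/
theorem char_join (h : Sit G S H) (hch : IsCharacteristicTwoType H) {z : G} (hz : InZ S z) (hz1 : z ≠ 1) (hzH : z ∈ H)
    {x : G} (hx : x ∈ S ⊓ H) (hx2 : x * x = 1) (hx1 : x ≠ 1) (hxz : x ≠ z) :
    IsCharacteristicTwoType (H ⊔ zSub S : Subgroup G) := by
  set K : Subgroup G := H ⊔ zSub S with hK
  have hHK : H ≤ K := le_sup_left
  have heK : Even (Nat.card K) := by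
    have h1 : orderOf (⟨z, hHK hzH⟩ : K) = 2 := by
      apply orderOf_eq_prime
      · rw [pow_two]
        exact Subtype.ext hz.2.1
      · intro h2
        exact hz1 (congrArg Subtype.val h2)
    rw [even_iff_two_dvd, ← h1]
    exact _root_.orderOf_dvd_natCard _
  apply char_two_of_cent heK
  · intro t ht2 ht1
    have hs := h.solc t (congrArg Subtype.val ht2) (fun h1 => ht1 (Subtype.ext h1))
    let f : centralizer ({t} : Set K) →* centralizer ({(t : G)} : Set G) :=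
      { toFun := fun c => ⟨((c : K) : G), by
          rw [mem_centralizer_singleton_iff]
          exact congrArg Subtype.val (mem_centralizer_singleton_iff.1 c.2)⟩
        map_one' := rfl
        map_mul' := fun _ _ => rfl }
    exact Group.isSolvable_of_isSolvable_injective (f := f) (fun x y hxy => by
      apply Subtype.ext
      apply Subtype.ext
      have h2 : ((f x : centralizer ({(t : G)} : Set G)) : G) = f y := by rw [hxy]
      exact h2)
  · intro t ht2 ht1
    have hn : (pPrimeCore 2 (centralizer ({t} : Set K))).Normal := Cfsg.Agent.Lib.Cores.pPrimeCore_normal 2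
    have h1 : (oc (centralizer ({t} : Set K))).map K.subtype = ⊥ := by
      apply h.key hch hz hz1 hzH hx hx2 hx1 hxz (t := (t : G)) t.2 (congrArg Subtype.val ht2)
        (fun h1 => ht1 (Subtype.ext h1))
      · rw [← Nat.card_congr ((oc (centralizer ({t} : Set K))).equivMapOfInjective _ K.subtype_injective).toEquiv]
        exact oc_odd _
      · rintro _ ⟨y, hy, rfl⟩
        exact congrArg Subtype.val (mem_centralizer_singleton_iff.1 (oc_le _ hy))
      · rintro g hg hgt _ ⟨y, hy, rfl⟩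
        refine ⟨⟨g, hg⟩ * y * ⟨g, hg⟩⁻¹, conj_mem_oc' ?_ hy, rfl⟩
        exact mem_centralizer_singleton_iff.2 (Subtype.ext hgt)
    rw [Subgroup.map_eq_bot_iff_of_injective _ K.subtype_injective] at h1
    have h2 : (pPrimeCore 2 (centralizer ({t} : Set K))).map (centralizer ({t} : Set K)).subtype = ⊥ := h1
    rwa [Subgroup.map_eq_bot_iff_of_injective _ (Subgroup.subtype_injective _)] at h2

end Sit

end Cfsg.Agent.H444.ZNSit
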